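import Mathlib.GroupTheory.Nilpotent
import Mathlib.GroupTheory.Solvable
import Mathlib.LinearAlgebra.Dimension.Finrank
import Mathlib.RingTheory.Nilpotent.Basic
import Mathlib.Tactic.NoncommRing
import Mathlib.RingTheory.Finiteness.Basic
import Mathlib.LinearAlgebra.FiniteDimensional.Lemmas

/-!
# Groups of endomorphisms preserving a filtration
-/

universe u w x

open scoped commutatorElement

namespace Groth.Agent.AlgGrpQ

variable {k : Type u} [Field k] {V : Type w} [AddCommGroup V] [Module k V] (F : ℕ → Submodule k V)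

/-- The endomorphisms lowering a filtration by `j` steps. -/
def fil (j : ℕ) : Submodule k (Module.End k V) where
  carrier := {f | ∀ i, ∀ v ∈ F (i + j), f v ∈ F i}
  zero_mem' _ _ _ := Submodule.zero_mem _
  add_mem' hf hg i v hv := Submodule.add_mem _ (hf i v hv) (hg i v hv)
  smul_mem' c _ hf i v hv := Submodule.smul_mem _ c (hf i v hv)

variable {F}

theorem mem_fil {j : ℕ} {f : Module.End k V} : f ∈ fil F j ↔ ∀ i, ∀ v ∈ F (i + j), f v ∈ F i := Iff.rfl

theorem mul_mem_fil {a b : ℕ} {f g : Module.End k V} (hf : f ∈ fil F a) (hg : g ∈ fil F b) :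
    f * g ∈ fil F (a + b) := fun i v hv =>
  hf i _ (hg (i + a) v (by rwa [Nat.add_assoc]))

theorem mul_mem_fil_right {a b : ℕ} {f g : Module.End k V} (hf : f ∈ fil F a) (hg : g ∈ fil F b) :
    f * g ∈ fil F (b + a) := Nat.add_comm a b ▸ mul_mem_fil hf hg

theorem fil_antitone (hF : Monotone F) : Antitone (fil F) := fun _ _ hab _ hf i v hv =>
  hf i v (hF (Nat.add_le_add_left hab i) hv)

theorem one_mem_fil : (1 : Module.End k V) ∈ fil F 0 := fun _ _ hv => hv

theorem eq_zero_of_mem_fil {n : ℕ} (h0 : F 0 = ⊥) (hn : F n = ⊤) {f : Module.End k V} (hf : f ∈ fil F n) :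
    f = 0 := LinearMap.ext fun v => by
  have h := hf 0 v (by rw [Nat.zero_add, hn]; trivial)
  rwa [h0, Submodule.mem_bot] at h

theorem isNilpotent_of_mem_fil {n : ℕ} (h0 : F 0 = ⊥) (hn : F n = ⊤) {f : Module.End k V} (hf : f ∈ fil F 1) :
    IsNilpotent f := by
  refine ⟨n, eq_zero_of_mem_fil h0 hn ?_⟩
  have : ∀ m : ℕ, f ^ m ∈ fil F m := fun m => by
    induction m with
    | zero => rw [pow_zero]; exact one_mem_fil
    | succ m ih => rw [pow_succ]; exact mul_mem_fil ih hf
  exact this n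

variable {G : Type x} [Group G] (ρ : G →* Module.End k V)

/-- The elements acting as the identity up to `j` steps of the filtration. -/
def filSubgroup (hF : Monotone F) (hρ : ∀ g, ρ g ∈ fil F 0) (j : ℕ) : Subgroup G where
  carrier := {g | ρ g - 1 ∈ fil F j}
  one_mem' := by simp
  mul_mem' {g h} hg hh := by
    show ρ (g * h) - 1 ∈ fil F j
    rw [map_mul, show ρ g * ρ h - 1 = (ρ g - 1) * (ρ h - 1) + (ρ g - 1) + (ρ h - 1) by noncomm_ring]
    exact Submodule.add_mem _ (Submodule.add_mem _ (fil_antitone hF (Nat.le_add_right j j) (mul_mem_fil hg hh)) hg) hh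
  inv_mem' {g} hg := by
    show ρ g⁻¹ - 1 ∈ fil F j
    have e : ρ g⁻¹ - 1 = -(ρ g⁻¹ * (ρ g - 1)) := by
      rw [mul_sub, ← map_mul, inv_mul_cancel, map_one, mul_one, neg_sub]
    rw [e]
    exact Submodule.neg_mem _ (by simpa using mul_mem_fil (hρ g⁻¹) (show ρ g - 1 ∈ fil F j from hg))

variable {ρ}

theorem mem_filSubgroup {hF : Monotone F} {hρ : ∀ g, ρ g ∈ fil F 0} {j : ℕ} {g : G} :
    g ∈ filSubgroup ρ hF hρ j ↔ ρ g - 1 ∈ fil F j := Iff.rfl

theorem commutator_mem_of_sub_mem {hF : Monotone F} {hρ : ∀ g, ρ g ∈ fil F 0} {j : ℕ} {g h : G}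
    (hgh : ρ g * ρ h - ρ h * ρ g ∈ fil F j) : ⁅g, h⁆ ∈ filSubgroup ρ hF hρ j := by
  rw [mem_filSubgroup, commutatorElement_def]
  have e : ρ (g * h * g⁻¹ * h⁻¹) - 1 = (ρ g * ρ h - ρ h * ρ g) * ρ (g⁻¹ * h⁻¹) := by
    rw [sub_mul, ← map_mul ρ g h, ← map_mul ρ h g, ← map_mul, ← map_mul]
    rw [show g * h * (g⁻¹ * h⁻¹) = g * h * g⁻¹ * h⁻¹ by group, show h * g * (g⁻¹ * h⁻¹) = 1 by group, map_one]
  rw [e]
  simpa using mul_mem_fil hgh (hρ (g⁻¹ * h⁻¹))

theorem commutator_filSubgroup_le {hF : Monotone F} {hρ : ∀ g, ρ g ∈ fil F 0} (a b : ℕ) :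
    ⁅filSubgroup ρ hF hρ a, filSubgroup ρ hF hρ b⁆ ≤ filSubgroup ρ hF hρ (a + b) := by
  rw [Subgroup.commutator_le]
  intro g hg h hh
  apply commutator_mem_of_sub_mem
  rw [show ρ g * ρ h - ρ h * ρ g = (ρ g - 1) * (ρ h - 1) - (ρ h - 1) * (ρ g - 1) by noncomm_ring]
  exact Submodule.sub_mem _ (mul_mem_fil hg hh) (mul_mem_fil_right hh hg)

theorem filSubgroup_eq_bot {hF : Monotone F} {hρ : ∀ g, ρ g ∈ fil F 0} {n : ℕ} (h0 : F 0 = ⊥) (hn : F n = ⊤)
    (hinj : Function.Injective ρ) : filSubgroup ρ hF hρ n = ⊥ := by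
  refine (Subgroup.eq_bot_iff_forall _).mpr fun g hg => hinj ?_
  rw [map_one]
  exact sub_eq_zero.mp (eq_zero_of_mem_fil h0 hn hg)

theorem fil_one_le_zero (hF : Monotone F) : fil F 1 ≤ fil F 0 := fil_antitone hF (Nat.zero_le 1)

theorem mem_fil_zero (hF : Monotone F) {f : Module.End k V} (hf : f - 1 ∈ fil F 1) : f ∈ fil F 0 := by
  simpa using Submodule.add_mem _ (fil_one_le_zero hF hf) (one_mem_fil (F := F))

/-- A group acting faithfully and trivially on the gradeds is nilpotent. -/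
theorem isNilpotent_of_faithful_fil (hF : Monotone F) {n : ℕ} (h0 : F 0 = ⊥) (hn : F n = ⊤)
    (hinj : Function.Injective ρ) (h1 : ∀ g, ρ g - 1 ∈ fil F 1) : Group.IsNilpotent G := by
  let hρ : ∀ g, ρ g ∈ fil F 0 := fun g => mem_fil_zero hF (h1 g)
  rw [Subgroup.nilpotent_iff_lowerCentralSeries]
  refine ⟨n, le_bot_iff.mp ?_⟩
  suffices ∀ m, (⊤ : Subgroup G).lowerCentralSeries m ≤ filSubgroup ρ hF hρ (m + 1) by
    refine (this n).trans ?_
    rw [← filSubgroup_eq_bot (hF := hF) (hρ := hρ) h0 hn hinj]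
    exact fun g hg => fil_antitone hF (Nat.le_succ n) hg
  intro m
  induction m with
  | zero => exact fun g _ => h1 g
  | succ m ih =>
    rw [Subgroup.lowerCentralSeries_succ]
    exact (Subgroup.commutator_mono ih fun g _ => h1 g).trans (commutator_filSubgroup_le _ _)

theorem derivedSeries_le (hF : Monotone F) (hρ : ∀ g, ρ g ∈ fil F 0)
    (hc : ∀ g h, ρ g * ρ h - ρ h * ρ g ∈ fil F 1) (m : ℕ) :
    derivedSeries G (m + 1) ≤ filSubgroup ρ hF hρ (m + 1) := by
  induction m with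
  | zero =>
    rw [derivedSeries_succ, derivedSeries_zero, Subgroup.commutator_le]
    exact fun g _ h _ => commutator_mem_of_sub_mem (hc g h)
  | succ m ih =>
    rw [derivedSeries_succ]
    exact (Subgroup.commutator_mono ih ih).trans ((commutator_filSubgroup_le _ _).trans
      fun g hg => fil_antitone hF (by omega) hg)

/-- A group acting faithfully through commuting gradeds is solvable. -/
theorem isSolvable_of_faithful_fil (hF : Monotone F) {n : ℕ} (h0 : F 0 = ⊥) (hn : F n = ⊤)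
    (hinj : Function.Injective ρ) (hρ : ∀ g, ρ g ∈ fil F 0)
    (hc : ∀ g h, ρ g * ρ h - ρ h * ρ g ∈ fil F 1) : Group.IsSolvable G := by
  refine ⟨⟨n + 1, le_bot_iff.mp ((derivedSeries_le hF hρ hc n).trans ?_)⟩⟩
  rw [← filSubgroup_eq_bot (hF := hF) (hρ := hρ) h0 hn hinj]
  exact fun g hg => fil_antitone hF (Nat.le_succ n) hg

/-- Endomorphisms preserving a full flag commute on its gradeds. -/
theorem sub_mem_fil_one_of_full (hF : Monotone F) {n : ℕ} (hn : F n = ⊤) [Module.Finite k V]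
    (hr : ∀ i, i ≤ n → Module.finrank k (F i) = i) {f g : Module.End k V} (hf : f ∈ fil F 0) (hg : g ∈ fil F 0) :
    f * g - g * f ∈ fil F 1 := by
  intro i v hv
  by_cases hi : n ≤ i
  · have : F i = ⊤ := eq_top_iff.mpr (hn ▸ hF hi)
    rw [this]; trivial
  · push_neg at hi
    by_cases hvi : v ∈ F i
    · exact Submodule.sub_mem _ (hf i _ (hg i v hvi)) (hg i _ (hf i v hvi))
    have hsup : F i ⊔ Submodule.span k {v} = F (i + 1) := by
      refine Submodule.eq_of_le_of_finrank_le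
        (sup_le (hF (Nat.le_succ i)) ((Submodule.span_singleton_le_iff_mem _ _).mpr hv)) ?_
      have hlt : F i < F i ⊔ Submodule.span k {v} := lt_of_le_of_ne le_sup_left fun h =>
        hvi (h ▸ Submodule.mem_sup_right (Submodule.mem_span_singleton_self v))
      have h3 := Submodule.finrank_lt_finrank_of_lt hlt
      rw [hr (i + 1) hi]
      rw [hr i hi.le] at h3
      omega
    have key : ∀ f : Module.End k V, f ∈ fil F 0 → ∃ c : k, f v - c • v ∈ F i := fun f hf => by
      have hmem := hf (i + 1) v hv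
      rw [← hsup, Submodule.mem_sup] at hmem
      obtain ⟨y, hy, z, hz, e⟩ := hmem
      obtain ⟨c, rfl⟩ := Submodule.mem_span_singleton.mp hz
      exact ⟨c, by rwa [← e, add_sub_cancel_right]⟩
    obtain ⟨a, ha⟩ := key f hf
    obtain ⟨b, hb⟩ := key g hg
    have e : (f * g - g * f) v = (f (g v - b • v) + b • (f v - a • v)) - (g (f v - a • v) + a • (g v - b • v)) := by
      simp only [LinearMap.sub_apply, Module.End.mul_apply, map_sub, map_smul, smul_sub, smul_smul, mul_comm a b]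
      abel
    rw [e]
    exact Submodule.sub_mem _ (Submodule.add_mem _ (hf i _ hb) (Submodule.smul_mem _ _ ha))
      (Submodule.add_mem _ (hg i _ ha) (Submodule.smul_mem _ _ hb))

end Groth.Agent.AlgGrpQ
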