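import Groth.Agent.ComodLib.Trig
import Groth.Agent.AlgGrpQ.Flag
import Mathlib.RingTheory.HopfAlgebra.Convolution
import Mathlib.RingTheory.FiniteType

/-!
# The group of rational points acting on comodules
-/

universe u v w

open TensorProduct WithConv

namespace Groth.Agent.AlgGrpQ

open Groth.Agent.ComodLib
open HopfRep (Comod)

variable (k : Type u) [Field k] (A : Type v) [CommRing A] [HopfAlgebra k A]

/-- The representation of the group of points on a comodule. -/
noncomputable def rho (V : Type w) [AddCommGroup V] [Module k V] [Comod k A V] :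
    WithConv (A →ₐ[k] k) →* Module.End k V where
  toFun g := Comod.act k A V g.ofConv
  map_one' := by
    refine LinearMap.ext fun v => ?_
    exact actF_counit v
  map_mul' g h := by
    refine LinearMap.ext fun v => ?_
    refine Eq.trans ?_ (actF_convMul (toConv g.ofConv.toLinearMap) (toConv h.ofConv.toLinearMap) v)
    show actF (g * h).ofConv.toLinearMap v = _
    congr 2

theorem rho_apply {V : Type w} [AddCommGroup V] [Module k V] [Comod k A V] (g : WithConv (A →ₐ[k] k)) (v : V) :
    rho k A V g v = actF g.ofConv.toLinearMap v := rfl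

variable {k A}

theorem rho_mem {V : Type w} [AddCommGroup V] [Module k V] [Comod k A V] {U : Submodule k V}
    (hU : HopfRep.IsSubcomod (k := k) (A := A) U) (g : WithConv (A →ₐ[k] k)) {v : V} (hv : v ∈ U) :
    rho k A V g v ∈ U :=
  subcomod_actF_mem hU _ hv

theorem rho_mem_fil_zero {V : Type w} [AddCommGroup V] [Module k V] [Comod k A V] {F : ℕ → Submodule k V}
    (hF : ∀ i, HopfRep.IsSubcomod (k := k) (A := A) (F i)) (g : WithConv (A →ₐ[k] k)) :
    rho k A V g ∈ fil F 0 := fun i _ hv => rho_mem (hF i) g hv

theorem counit_rho (g : WithConv (A →ₐ[k] k)) (a : A) :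
    Coalgebra.counit (R := k) (rho k A A g a) = g.ofConv a := by
  have h := congrArg (fun z => g.ofConv (TensorProduct.lid k A z))
    (Coalgebra.rTensor_counit_comul (R := k) a)
  simp only [TensorProduct.lid_tmul, one_smul] at h
  rw [rho_apply, actF_apply, ← h]
  show Coalgebra.counit (R := k) (slice g.ofConv.toLinearMap (Coalgebra.comul (R := k) a)) = _
  induction Coalgebra.comul (R := k) a using TensorProduct.induction_on with
  | zero => simp
  | tmul p q => simp [mul_comm]
  | add p q hp hq => simp only [map_add, hp, hq]

variable (k A)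

/-- A finite comodule on which the points act faithfully. -/
theorem exists_faithful [Algebra.FiniteType k A] :
    ∃ (U : Submodule k A) (hU : HopfRep.IsSubcomod (k := k) (A := A) U), Module.Finite k U ∧
      Function.Injective (@rho k _ A _ _ U _ _ (ComodSub.Comod.restr (Comod.regular k A) U hU)) := by
  obtain ⟨s, hs⟩ := (Algebra.FiniteType.out : (⊤ : Subalgebra k A).FG)
  obtain ⟨U, hUf, hsU, hU⟩ := exists_finite_subcomod_le (k := k) (C := A) (V := A) s.finite_toSet
  refine ⟨U, hU, hUf, ?_⟩
  letI cU : Comod k A U := ComodSub.Comod.restr (Comod.regular k A) U hU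
  have hi : Hoch.IsComodHom A U.subtype := ComodSub.isComodHom_subtype _ U hU
  intro g h hgh
  refine WithConv.ofConv_injective (AlgHom.ext_of_adjoin_eq_top hs fun a ha => ?_)
  have e : ∀ g : WithConv (A →ₐ[k] k), g.ofConv a =
      Coalgebra.counit (R := k) ((rho k A U g ⟨a, hsU ha⟩ : U) : A) := fun g => by
    rw [rho_apply, ← Submodule.subtype_apply, comodHom_actF hi, ← counit_rho g a, rho_apply]
    rfl
  rw [e, e, hgh]

end Groth.Agent.AlgGrpQ
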