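import Groth.Agent.AlgGrpQ.Irred

/-!
# Connected solvable groups are trigonalizable
-/

universe u v

open TensorProduct WithConv

namespace Groth.Agent.AlgGrpQ

/-- Over dense points a submodule stable under the points is a subcomodule. -/
theorem isSubcomod_of_rho_mem {k : Type u} [Field k] {A : Type v} [CommRing A] [HopfAlgebra k A]
    (hdense : ∀ a : A, (∀ g : A →ₐ[k] k, g a = 0) → a = 0) {V : Type*} [AddCommGroup V] [Module k V]
    [HopfRep.Comod k A V] (W : Submodule k V) (h : ∀ g : WithConv (A →ₐ[k] k), ∀ w ∈ W, rho k A V g w ∈ W) :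
    HopfRep.IsSubcomod (k := k) (A := A) W := by
  refine ComodLib.isSubcomod_iff_actF.mpr fun φ w hw => ?_
  refine (Submodule.Quotient.mk_eq_zero W).mp ((Module.forall_dual_apply_eq_zero_iff k _).mp fun f => ?_)
  let F : V →ₗ[k] k := f ∘ₗ W.mkQ
  have key : ∀ ψ : A →ₗ[k] k,
      ψ (TensorProduct.lid k A (F.rTensor A (HopfRep.Comod.coact (k := k) (A := A) w))) = F (ComodLib.actF ψ w) := by
    intro ψ
    rw [ComodLib.actF_apply]
    induction HopfRep.Comod.coact (k := k) (A := A) w using TensorProduct.induction_on with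
    | zero => simp
    | tmul p q => simp [mul_comm]
    | add p q hp hq => simp only [map_add, hp, hq]
  have h0 : TensorProduct.lid k A (F.rTensor A (HopfRep.Comod.coact (k := k) (A := A) w)) = 0 := hdense _ fun g => by
    rw [← AlgHom.toLinearMap_apply, key]
    show f (W.mkQ (rho k A V (toConv g) w)) = 0
    rw [show W.mkQ (rho k A V (toConv g) w) = 0 from (Submodule.Quotient.mk_eq_zero W).mpr (h _ w hw), map_zero]
  have := key φ
  rw [h0, map_zero] at this
  exact this.symm

/-- A smooth connected solvable group is trigonalizable. -/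
theorem isTrigonalizable_of_solvable (k : Type u) [Field k] [IsAlgClosed k] (A : Type v) [CommRing A]
    [HopfAlgebra k A] [Algebra.FiniteType k A] [IsReduced A]
    (hconn : ∀ e : A, IsIdempotentElem e → e = 0 ∨ e = 1)
    [Group.IsSolvable (WithConv (A →ₐ[k] k))] : HopfRep.IsTrigonalizable k A := by
  have := ComodLib.isDomain_of_connected k hconn
  intro V _ _ _ hfin hsimple
  haveI := hsimple.1
  obtain ⟨v, hv0, hv⟩ := exists_eigen (k := k) (A := A) (V := V)
  have hS : ∀ a : A, (∀ g ∈ (Set.univ : Set (A →ₐ[k] k)), g a = 0) → a = 0 := fun a ha => by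
    by_contra h
    obtain ⟨x, hx⟩ := ComodLib.exists_point_ne_zero (k := k) (a := a) fun hn => h hn.eq_zero
    exact hx (ha x trivial)
  have hW : HopfRep.IsSubcomod (k := k) (A := A) (Submodule.span k {v}) := by
    refine isSubcomod_of_rho_mem (fun a ha => hS a fun g _ => ha g) _ fun g w hw => ?_
    obtain ⟨c, rfl⟩ := Submodule.mem_span_singleton.mp hw
    obtain ⟨d, hd⟩ := hv g
    rw [map_smul, hd]
    exact Submodule.smul_mem _ _ (Submodule.smul_mem _ _ (Submodule.mem_span_singleton_self v))
  rcases hsimple.2 _ hW with h | h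
  · exact absurd (Submodule.span_singleton_eq_bot.mp h) hv0
  · rw [← finrank_top k V, ← h, finrank_span_singleton hv0]

end Groth.Agent.AlgGrpQ
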