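import Groth.Agent.AlgGrpQ.TrigChain
import Groth.Agent.ComodLib.HopfSubInv
import Groth.Agent.MultTypeLib.HopfKer
import Mathlib.RingTheory.Bialgebra.MonoidAlgebra
import Mathlib.RingTheory.HopfAlgebra.MonoidAlgebra
import Mathlib.RingTheory.HopfAlgebra.GroupLike
import Mathlib.RingTheory.FiniteType

/-!
# Trigonalizable groups are extensions of diagonalizable groups by unipotent ones
-/

universe u v

open TensorProduct

namespace Groth.Agent.AlgGrpQ

open Groth.Agent.ComodLib
open HopfRep (Comod)

variable {k : Type u} [Field k]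

/-- The steps of a flag in the regular comodule are given by characters. -/
theorem exists_flag_chain_char {A : Type v} [CommRing A] [Bialgebra k A] (hT : HopfRep.IsTrigonalizable k A)
    (s : Finset A) :
    ∃ (n : ℕ) (G : ℕ → Submodule k A) (x c : ℕ → A), G 0 = ⊥ ∧
      (∀ i, HopfRep.IsSubcomod (k := k) (A := A) (G i)) ∧ (s : Set A) ⊆ G n ∧ (∀ i, IsGroupLikeElem k (c i)) ∧
      ∀ i, G (i + 1) ≤ G i ⊔ Submodule.span k {x i} ∧
        Coalgebra.comul (R := k) (x i) - x i ⊗ₜ[k] c i ∈ LinearMap.range ((G i).subtype.rTensor A) := by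
  classical
  obtain ⟨n, G, x, h0, hsub, hs, hstep⟩ := exists_flag_chain hT s
  have hc : ∀ i, i < n → ∃ c : A, IsGroupLikeElem k c ∧
      Coalgebra.comul (R := k) (x i) - x i ⊗ₜ[k] c ∈ LinearMap.range ((G i).subtype.rTensor A) := by
    intro i hi
    obtain ⟨hle, hx1, hx0⟩ := (hstep i).2 hi
    letI cQ : Comod k A (A ⧸ G i) := ComodSub.Comod.quot (Comod.regular k A) (G i) (hsub i)
    set q : A ⧸ G i := (G i).mkQ (x i) with hq
    have hq0 : q ≠ 0 := fun h => hx0 ((Submodule.Quotient.mk_eq_zero _).mp h)
    obtain ⟨f₀, hf₀⟩ := Module.Projective.exists_dual_ne_zero k hq0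
    let f : (A ⧸ G i) →ₗ[k] k := (f₀ q)⁻¹ • f₀
    have hfq : f q = 1 := by simp [f, hf₀]
    have hcomp : (G i).mkQ ∘ₗ (G (i + 1)).subtype =
        (LinearMap.toSpanSingleton k (A ⧸ G i) q) ∘ₗ f ∘ₗ ((G i).mkQ ∘ₗ (G (i + 1)).subtype) := by
      refine LinearMap.ext fun y => ?_
      obtain ⟨a, ha, b, hb, hab⟩ := Submodule.mem_sup.mp ((hstep i).1 y.2)
      obtain ⟨r, rfl⟩ := Submodule.mem_span_singleton.mp hb
      have hy : (G i).mkQ (y : A) = r • q := by
        rw [← hab, map_add, map_smul, show (G i).mkQ a = 0 from (Submodule.Quotient.mk_eq_zero _).mpr ha, zero_add]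
      simp only [LinearMap.comp_apply, Submodule.subtype_apply, LinearMap.toSpanSingleton_apply]
      rw [hy, map_smul, hfq, smul_eq_mul, mul_one]
    set c := coefFun (C := A) f q with hcdef
    have hcoact : cQ.coact q = q ⊗ₜ[k] c := by
      obtain ⟨z, hz⟩ := hsub (i + 1) (x i) hx1
      have e1 : cQ.coact q = ((G i).mkQ ∘ₗ (G (i + 1)).subtype).rTensor A z := by
        rw [LinearMap.rTensor_comp, LinearMap.comp_apply, hz]
        rfl
      have e2 : ∀ t : (A ⧸ G i) ⊗[k] A, (LinearMap.toSpanSingleton k (A ⧸ G i) q).rTensor A (f.rTensor A t) =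
          q ⊗ₜ[k] TensorProduct.lid k A (f.rTensor A t) := fun t => by
        induction t using TensorProduct.induction_on with
        | zero => simp
        | tmul a b => simp [TensorProduct.smul_tmul]
        | add p r hp hr => simp only [map_add, tmul_add, hp, hr]
      rw [hcdef, coefFun_apply, show Comod.coact (k := k) (A := A) q = cQ.coact q from rfl, e1]
      conv_lhs => rw [hcomp]
      rw [LinearMap.rTensor_comp, LinearMap.comp_apply, LinearMap.rTensor_comp, LinearMap.comp_apply, e2]
    refine ⟨c, ⟨by rw [hcdef, counit_coefFun, hfq], ?_⟩, ?_⟩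
    · have h1 := LinearMap.congr_fun (isComodHom_coefFun (C := A) f) q
      simp only [LinearMap.comp_apply] at h1
      rw [show Comod.coact (k := k) (A := A) q = q ⊗ₜ[k] c from hcoact, LinearMap.rTensor_tmul] at h1
      exact h1
    · refine (Module.Flat.rTensor_exact A (LinearMap.exact_subtype_mkQ (G i)) _).mp ?_
      rw [map_sub, LinearMap.rTensor_tmul, sub_eq_zero]
      exact hcoact
  choose! c hc1 hc2 using hc
  refine ⟨n, fun i => G (min i n), fun i => if i < n then x i else 0, fun i => if i < n then c i else 1,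
    by simpa using h0, fun i => hsub _, by simpa using hs, fun i => ?_, fun i => ?_⟩
  · by_cases h : i < n
    · simpa [h] using hc1 i h
    · simpa [h] using IsGroupLikeElem.one
  · by_cases h : i < n
    · simp only [h, if_true, show min (i + 1) n = i + 1 by omega, show min i n = i by omega]
      refine ⟨(hstep i).1, ?_⟩
      have e : G (min i n) = G i := congrArg G (by omega)
      show _ ∈ LinearMap.range ((G (min i n)).subtype.rTensor A)
      rw [e]; exact hc2 i h
    · simp only [h, if_false, show min (i + 1) n = min i n by omega]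
      exact ⟨le_sup_left, by simp⟩

variable {A : Type u} [CommRing A] [HopfAlgebra k A]

/-- The counit ideal of a group spanned by characters is spanned by the characters minus one. -/
theorem mem_span_groupLike_sub_one {B : Type u} [CommRing B] [Bialgebra k B] (hB : HopfRep.IsDiagonalizable k B) (b : B)
    (hb : Coalgebra.counit (R := k) b = 0) :
    b ∈ Submodule.span k ((fun g : B => g - 1) '' {g | IsGroupLikeElem k g}) := by
  have key : ∀ b : B, b - Coalgebra.counit (R := k) b • (1 : B) ∈
      Submodule.span k ((fun g : B => g - 1) '' {g | IsGroupLikeElem k g}) := fun b => by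
    have hb : b ∈ Submodule.span k {g : B | IsGroupLikeElem k g} := hB ▸ Submodule.mem_top
    induction hb using Submodule.span_induction with
    | mem g hg => exact Submodule.subset_span ⟨g, hg, by simp [IsGroupLikeElem.counit_eq_one hg]⟩
    | zero => simp
    | add p q _ _ hp hq => convert Submodule.add_mem _ hp hq using 1; simp only [map_add, add_smul]; abel
    | smul r p _ hp => convert Submodule.smul_mem _ r hp using 1; simp [smul_sub, smul_smul]
  simpa [hb] using key b

variable [Algebra.FiniteType k A]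

/-- An extension of a diagonalizable group by a unipotent one is trigonalizable. -/
theorem isTrigonalizable_of_kernel {B : Type u} [CommRing B] [HopfAlgebra k B] (ψ : B →ₐc[k] A)
    (J : Ideal A) [J.IsHopfIdeal k] (hB : HopfRep.IsDiagonalizable k B)
    (hJ : J = Ideal.map (ψ : B →+* A) (RingHom.ker (Bialgebra.counitAlgHom k B)))
    (hU : HopfRep.IsUnipotent k (A ⧸ J)) : HopfRep.IsTrigonalizable k A := by
  classical
  haveI : IsNoetherianRing A := Algebra.FiniteType.isNoetherianRing k A
  let T : Set (GroupLike k A) := {χ | ∃ g : B, IsGroupLikeElem k g ∧ ψ g = χ.val}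
  have hJT : J = Ideal.span ((fun χ : GroupLike k A => χ.val - 1) '' T) := by
    refine le_antisymm ?_ (Ideal.span_le.mpr ?_)
    · rw [hJ, Ideal.map_le_iff_le_comap]
      intro b hb
      have h := mem_span_groupLike_sub_one hB b hb
      have hle : Submodule.span k ((fun g : B => g - 1) '' {g | IsGroupLikeElem k g}) ≤
          ((Ideal.span ((fun χ : GroupLike k A => χ.val - 1) '' T)).restrictScalars k).comap (ψ : B →ₗ[k] A) := by
        rw [Submodule.span_le]
        rintro _ ⟨g, hg, rfl⟩
        exact Ideal.subset_span ⟨⟨ψ g, hg.map ψ⟩, ⟨g, hg, rfl⟩, by simp⟩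
      exact hle h
    · rintro _ ⟨χ, ⟨g, hg, hgχ⟩, rfl⟩
      dsimp only
      rw [hJ, SetLike.mem_coe, show χ.val - 1 = (ψ : B →+* A) (g - 1) by simp [hgχ]]
      exact Ideal.mem_map_of_mem _ (by simp [RingHom.mem_ker, IsGroupLikeElem.counit_eq_one hg])
  obtain ⟨S, hST, hS⟩ : ∃ S : Finset (GroupLike k A), (S : Set (GroupLike k A)) ⊆ T ∧
      J = Ideal.span ((fun χ : GroupLike k A => χ.val - 1) '' S) := by
    obtain ⟨S, hST, hS⟩ := (Submodule.fg_span_iff_fg_span_finset_subset _).mp
      (hJT ▸ (IsNoetherian.noetherian J) : (Ideal.span ((fun χ : GroupLike k A => χ.val - 1) '' T)).FG)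
    choose! g hg1 hg2 using fun a (ha : a ∈ (fun χ : GroupLike k A => χ.val - 1) '' T) => ha
    refine ⟨S.image g, ?_, ?_⟩
    · intro x hx
      obtain ⟨a, ha, rfl⟩ := Finset.mem_image.mp hx
      exact hg1 a (hST ha)
    · rw [hJT, show Ideal.span ((fun χ : GroupLike k A => χ.val - 1) '' T) = Ideal.span (S : Set A) from hS,
        Finset.coe_image, ← Set.image_comp]
      congr 1
      exact (Set.image_id' (S : Set A)).symm.trans (Set.image_congr fun a ha => (hg2 a (hST ha)).symm)
  let X : Subgroup (GroupLike k A) := Subgroup.closure (S : Set (GroupLike k A))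
  haveI : Monoid.FG X := (Group.fg_iff_monoid_fg (G := X)).mp ((Group.fg_iff_subgroup_fg X).mpr ⟨S, rfl⟩)
  haveI : Algebra.FiniteType k (MonoidAlgebra k X) := MonoidAlgebra.finiteType_of_fg
  let φ : MonoidAlgebra k X →ₐc[k] A :=
    (MonoidAlgebra.liftGroupLikeBialgHom (R := k) (A := A)).comp (MonoidAlgebra.mapDomainBialgHom k X.subtype)
  have hφs : ∀ χ : X, φ (MonoidAlgebra.single χ 1) = (χ : GroupLike k A).val := fun χ => by simp [φ]
  have hφ : Function.Injective φ := by
    have hb : LinearIndependent k fun χ : X => (χ : GroupLike k A).val :=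
      (linearIndep_groupLikeVal (R := k) (A := A)).comp _ Subtype.val_injective
    have e : ∀ z : MonoidAlgebra k X, φ z = Finsupp.linearCombination k (fun χ : X => (χ : GroupLike k A).val) z.coeff := fun z => by
      induction z using MonoidAlgebra.induction_linear with
      | zero => simp
      | add f g hf hg => simp [hf, hg]
      | single χ r =>
        rw [show MonoidAlgebra.single χ r = r • MonoidAlgebra.single χ (1 : k) by simp, map_smul, hφs]
        simp
    intro y z h
    rw [e, e] at h
    exact MonoidAlgebra.coeff_injective (hb h)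
  have hJφ : J ≤ Ideal.map (φ : MonoidAlgebra k X →+* A) (RingHom.ker (Bialgebra.counitAlgHom k (MonoidAlgebra k X))) := by
    rw [hS, Ideal.span_le]
    rintro _ ⟨χ, hχ, rfl⟩
    dsimp only
    have hm : χ ∈ X := Subgroup.subset_closure hχ
    rw [SetLike.mem_coe, show χ.val - 1 = (φ : MonoidAlgebra k X →+* A) (MonoidAlgebra.single ⟨χ, hm⟩ 1 - 1) by
      rw [map_sub, map_one]; exact congrArg (· - (1 : A)) (hφs ⟨χ, hm⟩).symm]
    exact Ideal.mem_map_of_mem _ (by simp [RingHom.mem_ker])
  let π : A →ₐc[k] A ⧸ J := Bialgebra.Quotient.mkBialgHom J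
  intro V _ _ cV hfin hV
  haveI := hV.1
  let cU : Comod k (A ⧸ J) V := pushComod (π : A →ₗc[k] A ⧸ J) cV
  obtain ⟨w, hw, hw0⟩ := Submodule.exists_mem_ne_zero_of_ne_bot (@hU V _ _ cU hfin hV.1)
  let R : Submodule k A := LinearMap.range (φ : MonoidAlgebra k X →ₗ[k] A)
  have hRs : HopfRep.IsSubcomod (k := k) (A := A) R := by
    rintro _ ⟨z, rfl⟩
    show Coalgebra.comul (R := k) (φ z) ∈ _
    rw [← CoalgHomClass.map_comp_comul_apply φ z]
    induction Coalgebra.comul (R := k) z using TensorProduct.induction_on with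
    | zero => simp
    | tmul p q => exact ⟨(⟨φ p, p, rfl⟩ : R) ⊗ₜ[k] φ q, rfl⟩
    | add p q hp hq => simpa only [map_add] using Submodule.add_mem _ hp hq
  have hwR : ∀ f : V →ₗ[k] k, coefFun (C := A) f w ∈ R := fun f => by
    refine mem_range_of_comul_sub_mem φ hφ _ ?_
    suffices h : Coalgebra.comul (R := k) (coefFun (C := A) f w) - coefFun (C := A) f w ⊗ₜ[k] (1 : A) ∈
        LinearMap.range ((J.restrictScalars k).subtype.lTensor A) by
      obtain ⟨z, hz⟩ := h
      exact ⟨(Submodule.inclusion (p := J.restrictScalars k) (p' := (Ideal.map (φ : MonoidAlgebra k X →+* A) (RingHom.ker (Bialgebra.counitAlgHom k (MonoidAlgebra k X)))).restrictScalars k) fun a ha => hJφ ha).lTensor A z, by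
        rw [← LinearMap.comp_apply, ← LinearMap.lTensor_comp]; exact hz⟩
    have hex : Function.Exact (J.restrictScalars k).subtype (π : A →ₗ[k] A ⧸ J) := fun a =>
      ⟨fun h => ⟨⟨a, Ideal.Quotient.eq_zero_iff_mem.mp h⟩, rfl⟩, by
        rintro ⟨b, rfl⟩; exact Ideal.Quotient.eq_zero_iff_mem.mpr b.2⟩
    refine (Module.Flat.lTensor_exact A hex _).mp ?_
    rw [map_sub, sub_eq_zero, LinearMap.lTensor_tmul, show (π : A →ₗ[k] A ⧸ J) 1 = 1 from map_one π]
    rw [show Coalgebra.comul (R := k) (coefFun (C := A) f w) = (coefFun (C := A) f).rTensor A (cV.coact w) from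
      LinearMap.congr_fun (isComodHom_coefFun f) w, ← LinearMap.comp_apply, LinearMap.lTensor_comp_rTensor,
      ← LinearMap.rTensor_comp_lTensor, LinearMap.comp_apply,
      show (π : A →ₗ[k] A ⧸ J).lTensor V (cV.coact w) = w ⊗ₜ[k] (1 : A ⧸ J) from hw, LinearMap.rTensor_tmul]
  have hall : ∀ (f : V →ₗ[k] k) (v : V), coefFun (C := A) f v ∈ R := by
    let W : Submodule k V := ⨅ f : V →ₗ[k] k, R.comap (coefFun (C := A) f)
    have hW : HopfRep.IsSubcomod (k := k) (A := A) W := isSubcomod_iff_actF.mpr fun ψ' u hu =>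
      Submodule.mem_iInf _ |>.mpr fun f =>
        subcomod_actF_mem (isSubcomod_comap (isComodHom_coefFun f) hRs) ψ' (Submodule.mem_iInf _ |>.mp hu f)
    rcases hV.2 W hW with h | h
    · exact absurd ((Submodule.eq_bot_iff W).mp h w (Submodule.mem_iInf _ |>.mpr hwR)) hw0
    · exact fun f v => Submodule.mem_iInf _ |>.mp (h ▸ Submodule.mem_top : v ∈ W) f
  obtain ⟨v₀, hv₀⟩ := exists_ne (0 : V)
  obtain ⟨f, hf⟩ := Module.Projective.exists_dual_ne_zero k hv₀
  let j := coefFun (C := A) f
  have hj : Hoch.IsComodHom A j := isComodHom_coefFun f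
  have hj0 : j v₀ ≠ 0 := fun h => hf (by rw [← counit_coefFun (C := A) f v₀, show coefFun (C := A) f v₀ = 0 from h, map_zero])
  have hjinj : Function.Injective j := LinearMap.ker_eq_bot.mp ((hV.2 _ (isSubcomod_ker hj)).resolve_right
    fun h => hj0 (LinearMap.mem_ker.mp (h ▸ Submodule.mem_top)))
  obtain ⟨z, hz⟩ := hall f v₀
  have hz0 : z.coeff ≠ 0 := fun h => hj0 (hz.symm.trans (by rw [MonoidAlgebra.coeff_eq_zero.mp h, map_zero]))
  obtain ⟨χ, hχ⟩ := Finsupp.ne_iff.mp hz0
  obtain ⟨l, hl⟩ := (φ : MonoidAlgebra k X →ₗ[k] A).exists_leftInverse_of_injective (LinearMap.ker_eq_bot.mpr hφ)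
  let δ : A →ₗ[k] k := (Finsupp.lapply χ ∘ₗ (MonoidAlgebra.coeffLinearEquiv k).toLinearMap) ∘ₗ l
  have hδ : ∀ y, actF (C := A) δ (φ y) = y.coeff χ • (χ : GroupLike k A).val := fun y => by
    induction y using MonoidAlgebra.induction_linear with
    | zero => simp
    | add f g hf hg => simp [hf, hg, add_smul]
    | single g r =>
      rw [show MonoidAlgebra.single g r = r • MonoidAlgebra.single g (1 : k) by simp, map_smul, hφs, map_smul, actF_apply,
        show Comod.coact (k := k) (A := A) (g : GroupLike k A).val = Coalgebra.comul (R := k) (g : GroupLike k A).val from rfl,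
        (g : GroupLike k A).2.comul_eq_tmul_self, slice_tmul]
      have hlg : l (g : GroupLike k A).val = MonoidAlgebra.single g 1 := by
        rw [← hφs]; exact LinearMap.congr_fun hl _
      by_cases hg : g = χ
      · subst hg; simp [δ, hlg, smul_smul]
      · simp [δ, hlg, hg, smul_smul]
  have hmem : (χ : GroupLike k A).val ∈ LinearMap.range j := by
    have h := subcomod_actF_mem (isSubcomod_range hj) δ ⟨v₀, rfl⟩
    rw [show j v₀ = φ z from hz.symm, hδ] at h
    exact (Submodule.smul_mem_iff _ (by simpa using hχ)).mp h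
  obtain ⟨v₁, hv₁⟩ := hmem
  have hL : HopfRep.IsSubcomod (k := k) (A := A) (Submodule.span k {(χ : GroupLike k A).val}) := by
    intro a ha
    obtain ⟨r, rfl⟩ := Submodule.mem_span_singleton.mp ha
    refine ⟨r • ((⟨_, Submodule.mem_span_singleton_self _⟩ : Submodule.span k {(χ : GroupLike k A).val}) ⊗ₜ[k] (χ : GroupLike k A).val), ?_⟩
    rw [map_smul, map_smul]
    congr 1
    exact (χ : GroupLike k A).2.comul_eq_tmul_self.symm
  have htop : (Submodule.span k {(χ : GroupLike k A).val}).comap j = ⊤ := (hV.2 _ (isSubcomod_comap hj hL)).resolve_left fun h => by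
    have : v₁ = 0 := (Submodule.eq_bot_iff _).mp h v₁ (by simp [hv₁])
    rw [this, map_zero] at hv₁
    exact (χ : GroupLike k A).2.ne_zero hv₁.symm
  refine le_antisymm ?_ Module.finrank_pos
  rw [← LinearMap.finrank_range_of_inj hjinj, ← finrank_span_singleton (K := k) (χ : GroupLike k A).2.ne_zero]
  exact Submodule.finrank_mono fun a ⟨v, hv⟩ => hv ▸ (htop ▸ Submodule.mem_top : v ∈ (Submodule.span k {(χ : GroupLike k A).val}).comap j)

/-- A trigonalizable group is an extension of a diagonalizable group by a unipotent one. -/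
theorem exists_kernel_of_isTrigonalizable (hT : HopfRep.IsTrigonalizable k A) :
    ∃ (B : Type u) (_ : CommRing B) (_ : HopfAlgebra k B) (ψ : B →ₐc[k] A) (J : Ideal A) (_ : J.IsHopfIdeal k),
      Function.Injective ψ ∧ HopfRep.IsDiagonalizable k B ∧
        J = Ideal.map (ψ : B →+* A) (RingHom.ker (Bialgebra.counitAlgHom k B)) ∧
        HopfRep.IsUnipotent k (A ⧸ J) := by
  classical
  let φ : MonoidAlgebra k (GroupLike k A) →ₐc[k] A := MonoidAlgebra.liftGroupLikeBialgHom (R := k) (A := A)
  have hφs : ∀ χ : GroupLike k A, φ (MonoidAlgebra.single χ 1) = χ.val := fun χ => by simp [φ]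
  have hφ : Function.Injective φ := by
    have e : ∀ z : MonoidAlgebra k (GroupLike k A), φ z = Finsupp.linearCombination k (fun χ : GroupLike k A => χ.val) z.coeff := fun z => by
      induction z using MonoidAlgebra.induction_linear with
      | zero => simp
      | add f g hf hg => simp [hf, hg]
      | single χ r =>
        rw [show MonoidAlgebra.single χ r = r • MonoidAlgebra.single χ (1 : k) by simp, map_smul, hφs]
        simp
    intro y z h
    rw [e, e] at h
    exact MonoidAlgebra.coeff_injective ((linearIndep_groupLikeVal (R := k) (A := A)) h)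
  let J : Ideal A := Ideal.map φ (RingHom.ker (Bialgebra.counitAlgHom k (MonoidAlgebra k (GroupLike k A))))
  haveI hJH : J.IsHopfIdeal k := MultTypeLib.isHopfIdeal_map_ker φ
  refine ⟨_, inferInstance, inferInstance, φ, J, hJH, hφ, ?_, rfl, ?_⟩
  · show Submodule.span k _ = ⊤
    refine eq_top_iff.mpr fun z _ => ?_
    induction z using MonoidAlgebra.induction_linear with
    | zero => simp
    | add f g hf hg => exact Submodule.add_mem _ (hf trivial) (hg trivial)
    | single χ r =>
      rw [show MonoidAlgebra.single χ r = r • MonoidAlgebra.single χ (1 : k) by simp]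
      exact Submodule.smul_mem _ _ (Submodule.subset_span (MonoidAlgebra.isGroupLikeElem_of χ))
  · let π : A →ₐc[k] A ⧸ J := Bialgebra.Quotient.mkBialgHom J
    have hπs : Function.Surjective π := Ideal.Quotient.mk_surjective
    have hπ1 : ∀ c : A, IsGroupLikeElem k c → π c = 1 := fun c hc => by
      refine (Ideal.Quotient.eq (I := J)).mpr ?_ |>.trans (map_one π)
      rw [show c - 1 = φ (MonoidAlgebra.single (⟨c, hc⟩ : GroupLike k A) 1 - 1) by rw [map_sub, map_one, hφs]]
      exact Ideal.mem_map_of_mem _ (by simp [RingHom.mem_ker])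
    intro V _ _ _ hfin hnt
    obtain ⟨v, c, hv0, hc, hv⟩ := exists_eigen_of_chains (k := k) (B := A ⧸ J) {1} (fun s => by
      obtain ⟨n, G, x, c, h0, hsub, hs, hc, hstep⟩ :=
        exists_flag_chain_char hT (s.image (Function.surjInv hπs))
      refine ⟨n, fun i => (G i).map (π : A →ₗ[k] A ⧸ J), fun i => π (x i), fun _ => 1, ?_, fun i => ?_, ?_,
        fun _ => rfl, fun i => ⟨?_, ?_⟩⟩
      · show (G 0).map _ = ⊥
        rw [h0, Submodule.map_bot]
      · rintro _ ⟨a, ha, rfl⟩
        obtain ⟨z, hz⟩ := hsub i a ha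
        show Coalgebra.comul (R := k) (π a) ∈ _
        rw [← CoalgHomClass.map_comp_comul_apply π a, show Coalgebra.comul (R := k) a = (G i).subtype.rTensor A z from hz.symm]
        clear hz
        induction z using TensorProduct.induction_on with
        | zero => simp
        | tmul p q => exact ⟨(⟨π p, p, p.2, rfl⟩ : (G i).map (π : A →ₗ[k] A ⧸ J)) ⊗ₜ[k] π q, rfl⟩
        | add p q hp hq => simpa only [map_add] using Submodule.add_mem _ hp hq
      · exact fun a ha => ⟨Function.surjInv hπs a, hs (Finset.mem_image_of_mem _ ha), Function.surjInv_eq hπs a⟩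
      · refine (Submodule.map_mono (hstep i).1).trans ?_
        rw [Submodule.map_sup, Submodule.map_span, Set.image_singleton]
        rfl
      · obtain ⟨z, hz⟩ := (hstep i).2
        have he : Coalgebra.comul (R := k) (π (x i)) - π (x i) ⊗ₜ[k] (1 : A ⧸ J) =
            TensorProduct.map (π : A →ₗ[k] A ⧸ J) (π : A →ₗ[k] A ⧸ J) (Coalgebra.comul (R := k) (x i) - x i ⊗ₜ[k] c i) := by
          rw [map_sub, TensorProduct.map_tmul, ← hπ1 _ (hc i)]
          rw [← CoalgHomClass.map_comp_comul_apply π (x i)]
          rfl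
        rw [he, ← hz]
        clear hz he
        induction z using TensorProduct.induction_on with
        | zero => simp
        | tmul p q => exact ⟨(⟨π p, p, p.2, rfl⟩ : (G i).map (π : A →ₗ[k] A ⧸ J)) ⊗ₜ[k] π q, rfl⟩
        | add p q hp hq => simpa only [map_add] using Submodule.add_mem _ hp hq) V
    rw [Set.mem_singleton_iff.mp hc] at hv
    exact Submodule.ne_bot_iff _ |>.mpr ⟨v, hv, hv0⟩

end Groth.Agent.AlgGrpQ
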