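import Groth.Agent.AlgGrpQ.Points
import Groth.Agent.ComodLib.Rosenlicht
import Groth.Agent.ComodLib.Orbits
import Mathlib.GroupTheory.Abelianization.Defs
import Mathlib.LinearAlgebra.Eigenspace.Triangularizable
import Mathlib.LinearAlgebra.Eigenspace.Minpoly
import Mathlib.LinearAlgebra.Determinant
import Mathlib.RingTheory.Polynomial.Pochhammer
import Mathlib.Algebra.Polynomial.Roots

/-!
# Irreducible sets of points, commutator subgroups, and the theorem of Lie and Kolchin
-/

universe u v w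

open TensorProduct WithConv
open scoped commutatorElement

namespace Groth.Agent.AlgGrpQ

open Groth.Agent.ComodLib

variable {k : Type u} [Field k] {A : Type v} [CommRing A] [HopfAlgebra k A]

local notation "Pt" => WithConv (A →ₐ[k] k)

/-- A set of points is irreducible when its vanishing ideal is prime or the unit ideal. -/
def IsIrred (S : Set (WithConv (A →ₐ[k] k))) : Prop :=
  ∀ a b : A, (∀ g ∈ S, g.ofConv a * g.ofConv b = 0) → (∀ g ∈ S, g.ofConv a = 0) ∨ (∀ g ∈ S, g.ofConv b = 0)

/-- A map of points is regular when it pulls regular functions back to regular functions. -/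
def IsReg (f : WithConv (A →ₐ[k] k) → WithConv (A →ₐ[k] k)) : Prop :=
  ∀ a : A, ∃ b : A, ∀ g, (f g).ofConv a = g.ofConv b

theorem isReg_id : IsReg (k := k) (A := A) id := fun a => ⟨a, fun _ => rfl⟩

theorem isReg_const (c : Pt) : IsReg (k := k) (A := A) fun _ => c := fun a =>
  ⟨algebraMap k A (c.ofConv a), fun g => by rw [AlgHom.commutes, Algebra.algebraMap_self_apply]⟩

theorem IsReg.mul {f h : Pt → Pt} (hf : IsReg f) (hh : IsReg h) : IsReg fun g => f g * h g := by
  intro a
  choose bf hbf using hf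
  choose bh hbh using hh
  suffices ∀ z : A ⊗[k] A, ∃ b : A, ∀ g : Pt,
      Algebra.TensorProduct.lift (f g).ofConv (h g).ofConv (fun _ _ => Commute.all _ _) z = g.ofConv b by
    obtain ⟨b, hb⟩ := this (Coalgebra.comul (R := k) a)
    exact ⟨b, fun g => (AlgHom.convMul_apply _ _ a).trans (hb g)⟩
  intro z
  induction z using TensorProduct.induction_on with
  | zero => exact ⟨0, fun g => by simp⟩
  | tmul p q => exact ⟨bf p * bh q, fun g => by simp [hbf p g, hbh q g]⟩
  | add p q hp hq =>
    obtain ⟨b, hb⟩ := hp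
    obtain ⟨b', hb'⟩ := hq
    exact ⟨b + b', fun g => by simp [map_add, hb g, hb' g]⟩

theorem IsReg.inv {f : Pt → Pt} (hf : IsReg f) : IsReg fun g => (f g)⁻¹ := fun a => by
  obtain ⟨b, hb⟩ := hf (HopfAlgebra.antipode k a)
  exact ⟨b, fun g => (hb g)⟩

theorem IsIrred.exists_eq_of_finite {S : Set Pt} (hS : IsIrred S) (a : A) {T : Set k} (hT : T.Finite)
    (h : ∀ g ∈ S, g.ofConv a ∈ T) : ∀ g ∈ S, ∀ g' ∈ S, g.ofConv a = g'.ofConv a := by
  induction T, hT using Set.Finite.induction_on generalizing S with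
  | empty => exact fun g hg => (h g hg).elim
  | @insert c T hcT hTf ih =>
    classical
    have hz : ∀ g ∈ S, g.ofConv (a - algebraMap k A c) * g.ofConv (∏ t ∈ hTf.toFinset, (a - algebraMap k A t)) = 0 := by
      intro g hg
      rw [map_sub, AlgHom.commutes, Algebra.algebraMap_self_apply, map_prod]
      rcases h g hg with h1 | h1
      · rw [h1, sub_self, zero_mul]
      · rw [Finset.prod_eq_zero (hTf.mem_toFinset.mpr h1) (by simp), mul_zero]
    rcases hS _ _ hz with h1 | h1
    · intro g hg g' hg'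
      have e : ∀ g ∈ S, g.ofConv a = c := fun g hg => by
        have := h1 g hg
        rwa [map_sub, AlgHom.commutes, Algebra.algebraMap_self_apply, sub_eq_zero] at this
      rw [e g hg, e g' hg']
    · refine ih hS fun g hg => ?_
      have := h1 g hg
      rw [map_prod, Finset.prod_eq_zero_iff] at this
      obtain ⟨t, ht, hgt⟩ := this
      rw [map_sub, AlgHom.commutes, Algebra.algebraMap_self_apply, sub_eq_zero] at hgt
      exact hgt ▸ hTf.mem_toFinset.mp ht

theorem IsIrred.image2 {S T : Set Pt} (hS : IsIrred S) (hT : IsIrred T) {f : Pt → Pt → Pt}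
    (hl : ∀ t, IsReg fun s => f s t) (hr : ∀ s, IsReg (f s)) : IsIrred (Set.image2 f S T) := by
  intro a b hab
  by_contra hne
  push Not at hne
  obtain ⟨⟨_, ⟨s₁, hs₁, t₁, ht₁, rfl⟩, h₁⟩, ⟨_, ⟨s₂, hs₂, t₂, ht₂, rfl⟩, h₂⟩⟩ := hne
  obtain ⟨α, hα⟩ := hl t₁ a
  obtain ⟨β, hβ⟩ := hl t₂ b
  have key : ∀ s ∈ S, (∀ t ∈ T, (f s t).ofConv a = 0) ∨ (∀ t ∈ T, (f s t).ofConv b = 0) := fun s hs => by
    obtain ⟨γ, hγ⟩ := hr s a
    obtain ⟨δ, hδ⟩ := hr s b
    simp only [hγ, hδ]
    exact hT γ δ fun t ht => by rw [← hγ, ← hδ]; exact hab _ ⟨s, hs, t, ht, rfl⟩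
  rcases hS α β fun s hs => by
      rw [← hα, ← hβ]
      rcases key s hs with h | h
      · rw [h t₁ ht₁, zero_mul]
      · rw [h t₂ ht₂, mul_zero] with h | h
  · exact h₁ ((hα s₁).trans (h s₁ hs₁))
  · exact h₂ ((hβ s₂).trans (h s₂ hs₂))

theorem isIrred_singleton (g : Pt) : IsIrred {g} := fun _ _ h => by
  rcases mul_eq_zero.mp (h g rfl) with h | h
  · exact Or.inl fun g' hg' => hg' ▸ h
  · exact Or.inr fun g' hg' => hg' ▸ h

theorem isIrred_iUnion {P : ℕ → Set Pt} (hm : Monotone P) (hP : ∀ n, IsIrred (P n)) : IsIrred (⋃ n, P n) := by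
  intro a b hab
  by_contra hne
  push Not at hne
  obtain ⟨⟨g, hg, ha⟩, ⟨g', hg', hb⟩⟩ := hne
  obtain ⟨n, hn⟩ := Set.mem_iUnion.mp hg
  obtain ⟨m, hm'⟩ := Set.mem_iUnion.mp hg'
  rcases hP (max n m) a b fun x hx => hab x (Set.mem_iUnion.mpr ⟨_, hx⟩) with h | h
  · exact ha (h g (hm (le_max_left n m) hn))
  · exact hb (h g' (hm (le_max_right n m) hm'))

/-- The commutator subgroup of an irreducible subgroup is irreducible. -/
theorem isIrred_commutator {H : Subgroup Pt} (hH : IsIrred (H : Set Pt)) : IsIrred ((⁅H, H⁆ : Subgroup Pt) : Set Pt) := by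
  let C : Set Pt := Set.image2 (fun s t => ⁅s, t⁆) (H : Set Pt) (H : Set Pt)
  have hC : IsIrred C := hH.image2 hH
    (fun t => by
      simp only [commutatorElement_def]
      exact ((isReg_id.mul (isReg_const t)).mul isReg_id.inv).mul (isReg_const t).inv)
    (fun s => by
      simp only [commutatorElement_def]
      exact (((isReg_const s).mul isReg_id).mul (isReg_const s).inv).mul isReg_id.inv)
  have hC1 : (1 : Pt) ∈ C := ⟨1, H.one_mem, 1, H.one_mem, by simp⟩
  have hCinv : ∀ x ∈ C, x⁻¹ ∈ C := by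
    rintro _ ⟨s, hs, t, ht, rfl⟩
    exact ⟨t, ht, s, hs, (commutatorElement_inv s t).symm⟩
  let P : ℕ → Set Pt := fun n => Nat.rec {1} (fun _ Q => Set.image2 (· * ·) Q C) n
  have hP : ∀ n, IsIrred (P n) := fun n => by
    induction n with
    | zero => exact isIrred_singleton 1
    | succ n ih => exact ih.image2 hC (fun t => isReg_id.mul (isReg_const t)) (fun s => (isReg_const s).mul isReg_id)
  have hmono : Monotone P := monotone_nat_of_le_succ fun n x hx => ⟨x, hx, 1, hC1, mul_one x⟩
  have hle : ∀ n, P n ⊆ ((⁅H, H⁆ : Subgroup Pt) : Set Pt) := fun n => by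
    induction n with
    | zero => exact fun x hx => hx ▸ (⁅H, H⁆ : Subgroup Pt).one_mem
    | succ n ih =>
      rintro _ ⟨x, hx, _, ⟨s, hs, t, ht, rfl⟩, rfl⟩
      exact Subgroup.mul_mem _ (ih hx) (Subgroup.commutator_mem_commutator hs ht)
  have heq : ((⁅H, H⁆ : Subgroup Pt) : Set Pt) = ⋃ n, P n := by
    refine Set.Subset.antisymm (fun x hx => ?_) (Set.iUnion_subset hle)
    have hx' : x ∈ Subgroup.closure C := by
      rw [Subgroup.commutator_def] at hx
      have hC' : C = {g : Pt | ∃ g₁ ∈ H, ∃ g₂ ∈ H, ⁅g₁, g₂⁆ = g} := ?_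
      · rwa [hC']
      ext y
      constructor
      · rintro ⟨s, hs, t, ht, rfl⟩; exact ⟨s, hs, t, ht, rfl⟩
      · rintro ⟨s, hs, t, ht, rfl⟩; exact ⟨s, hs, t, ht, rfl⟩
    induction hx' using Subgroup.closure_induction_right with
    | one => exact Set.mem_iUnion.mpr ⟨0, rfl⟩
    | mul_right x _ y hy ih =>
      obtain ⟨n, hn⟩ := Set.mem_iUnion.mp (ih (by assumption))
      exact Set.mem_iUnion.mpr ⟨n + 1, x, hn, y, hy, rfl⟩
    | mul_inv_cancel x _ y hy ih =>
      obtain ⟨n, hn⟩ := Set.mem_iUnion.mp (ih (by assumption))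
      exact Set.mem_iUnion.mpr ⟨n + 1, x, hn, y⁻¹, hCinv y hy, rfl⟩
  rw [heq]
  exact isIrred_iUnion hmono hP

theorem isIrred_univ [IsAlgClosed k] [Algebra.FiniteType k A] [IsDomain A] :
    IsIrred (Set.univ : Set Pt) := by
  intro a b hab
  have h : a * b = 0 := by
    by_contra hne
    obtain ⟨x, hx⟩ := exists_point_ne_zero (k := k) (a := a * b) fun hn => hne hn.eq_zero
    exact hx ((map_mul x a b).trans (hab (toConv x) trivial))
  rcases mul_eq_zero.mp h with h | h
  · exact Or.inl fun g _ => by rw [h, map_zero]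
  · exact Or.inr fun g _ => by rw [h, map_zero]

section Kolchin

variable [IsAlgClosed k] {V : Type w} [AddCommGroup V] [Module k V] [Module.Finite k V]

/-- Commuting endomorphisms of a nonzero stable subspace have a common eigenvector. -/
theorem exists_common_eigen {ι : Type*} (f : ι → Module.End k V) :
    ∀ U : Submodule k V, U ≠ ⊥ → (∀ i, ∀ x ∈ U, f i x ∈ U) → (∀ i j, ∀ x ∈ U, f i (f j x) = f j (f i x)) →
      ∃ v ∈ U, v ≠ 0 ∧ ∀ i, ∃ c : k, f i v = c • v := by
  intro U
  induction hn : Module.finrank k U using Nat.strong_induction_on generalizing U with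
  | _ n ih =>
    intro hU hst hcomm
    obtain ⟨v, hv, hv0⟩ := Submodule.exists_mem_ne_zero_of_ne_bot hU
    by_cases hall : ∀ i, ∃ c : k, ∀ x ∈ U, f i x = c • x
    · exact ⟨v, hv, hv0, fun i => (hall i).imp fun c hc => hc v hv⟩
    push Not at hall
    obtain ⟨i, hi⟩ := hall
    haveI : Nontrivial U := Submodule.nontrivial_iff_ne_bot.mpr hU
    obtain ⟨c, hc⟩ := Module.End.exists_eigenvalue ((f i).restrict (p := U) (q := U) fun x hx => hst i x hx)
    obtain ⟨⟨x, hx⟩, hxe⟩ := hc.exists_hasEigenvector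
    let U' : Submodule k V := U ⊓ LinearMap.ker (f i - c • (1 : Module.End k V))
    have hxU' : x ∈ U' := ⟨hx, by
      have := congrArg Subtype.val hxe.apply_eq_smul
      simp only [LinearMap.restrict_apply, Submodule.coe_smul] at this
      simp [this]⟩
    have hlt : U' < U := lt_of_le_of_ne inf_le_left fun h => by
      obtain ⟨y, hy, hne⟩ := hi c
      have : y ∈ U' := h ▸ hy
      exact hne (sub_eq_zero.mp (by simpa using this.2))
    obtain ⟨w, hw, hw0, hw'⟩ := ih _ (hn ▸ Submodule.finrank_lt_finrank_of_lt hlt) U' rfl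
      ((Submodule.ne_bot_iff _).mpr ⟨x, hxU', fun h => hxe.2 (Subtype.ext h)⟩)
      (fun j y hy => ⟨hst j y hy.1, by
        have h1 : f i y = c • y := sub_eq_zero.mp (by simpa using hy.2)
        simp [hcomm i j y hy.1, h1]⟩)
      (fun a b y hy => hcomm a b y hy.1)
    exact ⟨w, hw.1, hw0, hw'⟩

variable [HopfRep.Comod k A V]

omit [IsAlgClosed k] [Module.Finite k V] in
/-- A coefficient as a function on the points. -/
theorem exists_coef (φ : V →ₗ[k] k) (v : V) : ∃ a : A, ∀ g : Pt, g.ofConv a = φ (rho k A V g v) := by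
  refine ⟨TensorProduct.lid k A (φ.rTensor A (HopfRep.Comod.coact (k := k) (A := A) v)), fun g => ?_⟩
  rw [rho_apply, actF_apply]
  induction HopfRep.Comod.coact (k := k) (A := A) v using TensorProduct.induction_on with
  | zero => simp
  | tmul p q => simp [mul_comm]
  | add p q hp hq => simp only [map_add, hp, hq]

/-- Lie–Kolchin for an irreducible solvable group of points. -/
theorem exists_eigen_of_derived (n : ℕ) : ∀ H : Subgroup Pt, IsIrred (H : Set Pt) →
    (fun K : Subgroup Pt => ⁅K, K⁆)^[n] H = ⊥ →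
    ∀ U : Submodule k V, U ≠ ⊥ → (∀ h ∈ H, ∀ x ∈ U, rho k A V h x ∈ U) →
      ∃ v ∈ U, v ≠ 0 ∧ ∀ h ∈ H, ∃ c : k, rho k A V h v = c • v := by
  induction n with
  | zero =>
    intro H _ hbot U hU _
    obtain ⟨v, hv, hv0⟩ := Submodule.exists_mem_ne_zero_of_ne_bot hU
    refine ⟨v, hv, hv0, fun h hh => ⟨1, ?_⟩⟩
    rw [Function.iterate_zero_apply] at hbot
    rw [(Subgroup.eq_bot_iff_forall H).mp hbot h hh, map_one, Module.End.one_apply, one_smul]
  | succ n ih =>
    intro H hH hbot U hU hst
    let D : Subgroup Pt := ⁅H, H⁆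
    have hDH : D ≤ H := Subgroup.commutator_le.mpr fun g hg h hh => by
      rw [commutatorElement_def]
      exact H.mul_mem (H.mul_mem (H.mul_mem hg hh) (H.inv_mem hg)) (H.inv_mem hh)
    have hD : IsIrred (D : Set Pt) := isIrred_commutator hH
    obtain ⟨v₀, hv₀, hv₀0, heig⟩ := ih D hD (by rwa [← Function.iterate_succ_apply]) U hU
      fun h hh => hst h (hDH hh)
    choose χ hχ using heig
    obtain ⟨φ₀, hφ₀⟩ := Module.Projective.exists_dual_ne_zero k hv₀0
    let φ : V →ₗ[k] k := (φ₀ v₀)⁻¹ • φ₀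
    have hφ : φ v₀ = 1 := inv_mul_cancel₀ hφ₀
    obtain ⟨a, ha⟩ := exists_coef (A := A) φ v₀
    have hχa : ∀ d (hd : d ∈ D), χ d hd = d.ofConv a := fun d hd => by
      rw [ha, hχ d hd, map_smul, hφ, smul_eq_mul, mul_one]
    have hχ' : ∀ d ∈ D, rho k A V d v₀ = d.ofConv a • v₀ := fun d hd => by rw [← hχa d hd]; exact hχ d hd
    clear hχa hχ χ
    have hnorm : ∀ d ∈ D, ∀ h ∈ H, h⁻¹ * d * h ∈ D := by
      intro d hd h hh
      let c : Pt →* Pt := (MulAut.conj h⁻¹).toMonoidHom
      have hcH : H.map c ≤ H := by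
        rintro _ ⟨x, hx, rfl⟩
        exact H.mul_mem (H.mul_mem (H.inv_mem hh) hx) (H.inv_mem (H.inv_mem hh))
      have hmem : c d ∈ Subgroup.map c ⁅H, H⁆ := ⟨d, hd, rfl⟩
      rw [Subgroup.map_commutator] at hmem
      have := Subgroup.commutator_mono hcH hcH hmem
      simpa [c, D] using this
    have hconst : ∀ d ∈ D, ∀ h ∈ H, (h⁻¹ * d * h).ofConv a = d.ofConv a := by
      intro d hd h hh
      obtain ⟨b, hb⟩ : ∃ b : A, ∀ g : Pt, (g⁻¹ * d * g).ofConv a = g.ofConv b :=
        (((isReg_id (k := k) (A := A)).inv.mul (isReg_const d)).mul isReg_id) a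
      have hfin : {c : k | Module.End.HasEigenvalue (rho k A V d) c}.Finite := Module.End.finite_hasEigenvalue _
      have := hH.exists_eq_of_finite b hfin (fun g hg => by
        show Module.End.HasEigenvalue (rho k A V d) _
        rw [← hb g]
        refine Module.End.hasEigenvalue_of_hasEigenvector (x := rho k A V g v₀) ⟨?_, ?_⟩
        · rw [Module.End.mem_eigenspace_iff, ← map_smul, ← hχ' _ (hnorm d hd g hg), ← Module.End.mul_apply,
            ← Module.End.mul_apply, ← map_mul, ← map_mul]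
          congr 2
          simp [mul_assoc]
        · intro h0
          refine hv₀0 ?_
          have h1 := congrArg (rho k A V g⁻¹) h0
          rwa [map_zero, ← Module.End.mul_apply, ← map_mul, inv_mul_cancel, map_one, Module.End.one_apply] at h1)
        h hh 1 H.one_mem
      rw [← hb, ← hb] at this
      simpa using this
    let U' : Submodule k V := U ⊓ ⨅ d : D, LinearMap.ker (rho k A V d.1 - d.1.ofConv a • (1 : Module.End k V))
    have hmem : ∀ x, x ∈ U' ↔ x ∈ U ∧ ∀ d ∈ D, rho k A V d x = d.ofConv a • x := fun x => by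
      simp [U', Submodule.mem_iInf, sub_eq_zero]
    have hst' : ∀ h ∈ H, ∀ x ∈ U', rho k A V h x ∈ U' := by
      intro h hh x hx
      rw [hmem] at hx ⊢
      refine ⟨hst h hh x hx.1, fun d hd => ?_⟩
      have h1 := congrArg (rho k A V h) (hx.2 _ (hnorm d hd h hh))
      rw [hconst d hd h hh, map_smul, ← Module.End.mul_apply, ← map_mul] at h1
      rw [← h1, ← Module.End.mul_apply, ← map_mul]
      congr 2
      simp [mul_assoc]
    have hv₀U' : v₀ ∈ U' := (hmem v₀).mpr ⟨hv₀, hχ'⟩
    have hU' : U' ≠ ⊥ := (Submodule.ne_bot_iff _).mpr ⟨v₀, hv₀U', hv₀0⟩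
    -- the scalars have determinant one
    let ρ' : H →* Module.End k U' :=
      { toFun := fun h => (rho k A V h.1).restrict (p := U') (q := U') fun x hx => hst' h.1 h.2 x hx
        map_one' := LinearMap.ext fun x => Subtype.ext (by simp)
        map_mul' := fun h h' => LinearMap.ext fun x => Subtype.ext (by simp) }
    let ψ : H →* kˣ := (LinearMap.det.comp ρ').toHomUnits
    have hm : 0 < Module.finrank k U' := by
      haveI : Nontrivial U' := Submodule.nontrivial_iff_ne_bot.mpr hU'
      exact Module.finrank_pos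
    have hone : ∀ d ∈ D, d.ofConv a = 1 := by
      have hroots : ∀ d ∈ D, d.ofConv a ∈ {c : k | c ^ Module.finrank k U' = 1} := by
        intro d hd
        obtain ⟨d', hd', rfl⟩ : d ∈ Subgroup.map H.subtype (commutator H) := by
          rw [Subgroup.map_subtype_commutator]; exact hd
        have h1 : ψ d' = 1 := Abelianization.commutator_subset_ker ψ hd'
        have h2 : LinearMap.det (ρ' d') = 1 := congrArg Units.val h1
        have h3 : ρ' d' = (d'.1.ofConv a) • (1 : Module.End k U') := LinearMap.ext fun x => Subtype.ext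
          (((hmem x.1).mp x.2).2 d'.1 hd)
        rw [h3, LinearMap.det_smul, map_one, mul_one] at h2
        exact h2
      intro d hd
      have hfin : {c : k | c ^ Module.finrank k U' = 1}.Finite := by
        refine (Polynomial.nthRootsFinset (Module.finrank k U') (1 : k)).finite_toSet.subset fun c hc => ?_
        exact (Polynomial.mem_nthRootsFinset hm 1).mpr hc
      rw [hD.exists_eq_of_finite a hfin hroots d hd 1 D.one_mem, ha, map_one, Module.End.one_apply, hφ]
    obtain ⟨v, hv, hv0, hv'⟩ := exists_common_eigen (fun h : H => rho k A V h.1) U' hU'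
      (fun h x hx => hst' h.1 h.2 x hx) (fun i j x hx => by
        have hc : ⁅i.1, j.1⁆ ∈ D := Subgroup.commutator_mem_commutator i.2 j.2
        have hy := ((hmem _).mp (hst' _ (H.mul_mem j.2 i.2) x hx)).2 _ hc
        rw [hone _ hc, one_smul, ← Module.End.mul_apply, ← map_mul] at hy
        rw [← Module.End.mul_apply, ← Module.End.mul_apply, ← map_mul, ← map_mul, ← hy]
        congr 2
        rw [commutatorElement_def]
        group)
    exact ⟨v, ((hmem v).mp hv).1, hv0, fun h hh => hv' ⟨h, hh⟩⟩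

/-- Lie–Kolchin: a connected reduced solvable group fixes a line in every nonzero representation. -/
theorem exists_eigen [Algebra.FiniteType k A] [IsDomain A] [Group.IsSolvable (WithConv (A →ₐ[k] k))] [Nontrivial V] :
    ∃ v : V, v ≠ 0 ∧ ∀ h : Pt, ∃ c : k, rho k A V h v = c • v := by
  obtain ⟨n, hn⟩ := ‹Group.IsSolvable (WithConv (A →ₐ[k] k))›.solvable
  have e : ∀ m, (fun K : Subgroup Pt => ⁅K, K⁆)^[m] ⊤ = derivedSeries Pt m := fun m => by
    induction m with
    | zero => rfl
    | succ m ih => rw [Function.iterate_succ_apply', ih, derivedSeries_succ]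
  obtain ⟨v, -, hv0, hv⟩ := exists_eigen_of_derived (V := V) n ⊤ (by simpa using isIrred_univ (k := k) (A := A))
    (by rw [e, hn]) ⊤ top_ne_bot fun _ _ _ _ => trivial
  exact ⟨v, hv0, fun h => hv h trivial⟩

end Kolchin

end Groth.Agent.AlgGrpQ
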