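import Groth.Agent.AlgGrpQ.Points
import Mathlib.RingTheory.Polynomial.Pochhammer
import Mathlib.Algebra.Polynomial.Roots
import Mathlib.Algebra.CharP.Lemmas
import Mathlib.Algebra.CharP.Algebra

/-!
# Powers of unipotent points
-/

universe u v

open TensorProduct WithConv Polynomial

namespace Groth.Agent.AlgGrpQ

open Groth.Agent.ComodLib

variable {k : Type u} [Field k] {A : Type v} [CommRing A] [HopfAlgebra k A]

local notation "Pt" => WithConv (A →ₐ[k] k)

theorem poly_ext [CharZero k] {P Q : k[X]} (h : ∀ n : ℕ, P.eval (n : k) = Q.eval (n : k)) : P = Q := by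
  refine Polynomial.eq_of_infinite_eval_eq P Q (Set.Infinite.mono (s := Set.range (Nat.cast : ℕ → k)) ?_ ?_)
  · rintro _ ⟨n, rfl⟩; exact h n
  · exact Set.infinite_range_of_injective Nat.cast_injective

/-- The values of the powers of a unipotent point are polynomial in the exponent. -/
theorem exists_powPoly [CharZero k] (hU : HopfRep.IsUnipotent k A) (g : Pt) (a : A) :
    ∃ P : k[X], ∀ n : ℕ, P.eval (n : k) = (g ^ n).ofConv a := by
  obtain ⟨W, hWf, haW, hWs⟩ := exists_finite_subcomod_mem (k := k) (C := A) (V := A) a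
  letI cW : HopfRep.Comod k A W := ComodSub.Comod.restr (HopfRep.Comod.regular k A) W hWs
  have hi : Hoch.IsComodHom A W.subtype := ComodSub.isComodHom_subtype _ W hWs
  obtain ⟨M, hM⟩ := isNilpotent_act_sub_one hU g.ofConv W
  change (rho k A W g - 1) ^ M = 0 at hM
  set N := rho k A W g - 1
  let c : ℕ → k := fun i => Coalgebra.counit (R := k) (((N ^ i) ⟨a, haW⟩ : W) : A)
  refine ⟨∑ i ∈ Finset.range M, C (c i * ((i.factorial : k))⁻¹) * descPochhammer k i, fun n => ?_⟩
  have hn : (rho k A W (g ^ n)) = ∑ i ∈ Finset.range (n + 1), (n.choose i : k) • N ^ i := by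
    rw [map_pow, show rho k A W g = N + 1 from (sub_add_cancel (rho k A W g) 1).symm, add_comm N 1, (Commute.one_left N).add_pow,
      ← Finset.sum_range_reflect]
    refine Finset.sum_congr rfl fun i hi => ?_
    have hin : i ≤ n := Finset.mem_range_succ_iff.mp hi
    rw [one_pow, one_mul, show n + 1 - 1 - i = n - i by omega, Nat.choose_symm hin, show n - (n - i) = i by omega,
      ← Nat.cast_comm, Nat.cast_smul_eq_nsmul, nsmul_eq_mul]
  have e : (g ^ n).ofConv a = ∑ i ∈ Finset.range (n + 1), (n.choose i : k) * c i := by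
    rw [← counit_rho, rho_apply, show (a : A) = W.subtype ⟨a, haW⟩ from rfl, ← comodHom_actF hi, ← rho_apply, hn]
    simp [c, map_sum]
  have e2 : ∑ i ∈ Finset.range (n + 1), (n.choose i : k) * c i = ∑ i ∈ Finset.range M, (n.choose i : k) * c i := by
    have h1 : ∀ i ∉ Finset.range (n + 1), (n.choose i : k) * c i = 0 := fun i hi => by
      rw [Nat.choose_eq_zero_of_lt (by simpa using hi), Nat.cast_zero, zero_mul]
    have h2 : ∀ i ∉ Finset.range M, (n.choose i : k) * c i = 0 := fun i hi => by
      have : N ^ i = 0 := pow_eq_zero_of_le (by simpa using hi) hM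
      simp [c, this]
    rw [Finset.sum_subset (Finset.subset_union_left (s₂ := Finset.range M)) fun i _ hi => h1 i hi,
      ← Finset.sum_subset (Finset.subset_union_right (s₁ := Finset.range (n + 1))) fun i _ hi => h2 i hi]
  rw [e, e2, eval_finsetSum]
  refine Finset.sum_congr rfl fun i _ => ?_
  rw [eval_mul, eval_C, descPochhammer_eval_eq_descFactorial, Nat.descFactorial_eq_factorial_mul_choose, Nat.cast_mul]
  field_simp [Nat.cast_ne_zero.mpr i.factorial_ne_zero]

/-- Points with polynomial powers have every rational power. -/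
theorem bijective_pow_charZero [CharZero k] (hU : HopfRep.IsUnipotent k A) (e : ℕ) (he : e ≠ 0) :
    Function.Bijective fun g : Pt => g ^ e := by
  have he' : (e : k) ≠ 0 := Nat.cast_ne_zero.mpr he
  constructor
  · intro g h hgh
    change g ^ e = h ^ e at hgh
    refine WithConv.ofConv_injective (AlgHom.ext fun a => ?_)
    obtain ⟨P, hP⟩ := exists_powPoly hU g a
    obtain ⟨Q, hQ⟩ := exists_powPoly hU h a
    have hPQ : P.comp (C (e : k) * X) = Q.comp (C (e : k) * X) := poly_ext fun n => by
      simp only [eval_comp, eval_mul, eval_C, eval_X, ← Nat.cast_mul, hP, hQ, pow_mul, hgh]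
    have := congrArg (Polynomial.eval ((e : k)⁻¹)) hPQ
    simp only [eval_comp, eval_mul, eval_C, eval_X, mul_inv_cancel₀ he'] at this
    rwa [← Nat.cast_one, hP, hQ, pow_one, pow_one] at this
  · intro g
    choose P hP using exists_powPoly hU g
    have hPmul : ∀ a b, P (a * b) = P a * P b := fun a b => poly_ext fun n => by
      rw [eval_mul, hP, hP, hP, map_mul]
    have hPadd : ∀ a b, P (a + b) = P a + P b := fun a b => poly_ext fun n => by
      rw [eval_add, hP, hP, hP, map_add]
    have hPalg : ∀ c : k, P (algebraMap k A c) = C c := fun c => poly_ext fun n => by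
      rw [eval_C, hP, AlgHom.commutes, Algebra.algebraMap_self_apply]
    let φ : A →ₐ[k] k[X] :=
      { toFun := P
        map_one' := by rw [← map_one (algebraMap k A), hPalg, map_one]
        map_mul' := hPmul
        map_zero' := by rw [← map_zero (algebraMap k A), hPalg, map_zero]
        map_add' := hPadd
        commutes' := hPalg }
    let r : k → Pt := fun t => toConv ((Polynomial.aeval t).comp φ)
    have hr : ∀ t a, (r t).ofConv a = (P a).eval t := fun t a => by simp [r, φ]
    have hnat : ∀ n : ℕ, r (n : k) = g ^ n := fun n =>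
      WithConv.ofConv_injective (AlgHom.ext fun a => by rw [hr, hP])
    have hadd : ∀ s t, r (s + t) = r s * r t := by
      suffices key : ∀ (s : k) (a : A), ∃ Q : k[X], (∀ t, (r s * r t).ofConv a = Q.eval t) by
        have key' : ∀ (t : k) (a : A), ∃ Q : k[X], (∀ s, (r s * r t).ofConv a = Q.eval s) := fun t a => by
          suffices ∀ z : A ⊗[k] A, ∃ Q : k[X], ∀ s,
              Algebra.TensorProduct.lift (r s).ofConv (r t).ofConv (fun _ _ => Commute.all _ _) z = Q.eval s by
            obtain ⟨Q, hQ⟩ := this (Coalgebra.comul (R := k) a)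
            exact ⟨Q, fun s => (AlgHom.convMul_apply _ _ a).trans (hQ s)⟩
          intro z
          induction z using TensorProduct.induction_on with
          | zero => exact ⟨0, fun s => by simp⟩
          | tmul p q => exact ⟨P p * C ((P q).eval t), fun s => by simp [hr]⟩
          | add p q hp hq =>
            obtain ⟨Q, hQ⟩ := hp
            obtain ⟨Q', hQ'⟩ := hq
            exact ⟨Q + Q', fun s => by simp [map_add, hQ, hQ']⟩
        have h1 : ∀ (n : ℕ) t, r ((n : k) + t) = r (n : k) * r t := fun n t => by
          refine WithConv.ofConv_injective (AlgHom.ext fun a => ?_)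
          obtain ⟨Q, hQ⟩ := key (n : k) a
          have : (P a).comp (C (n : k) + X) = Q := poly_ext fun m => by
            rw [← hQ, hnat, hnat, ← pow_add]
            simp only [eval_comp, eval_add, eval_C, eval_X, ← Nat.cast_add, hP]
          rw [hr, hQ, ← this]
          simp
        intro s t
        refine WithConv.ofConv_injective (AlgHom.ext fun a => ?_)
        obtain ⟨Q, hQ⟩ := key' t a
        have : (P a).comp (X + C t) = Q := poly_ext fun m => by
          rw [← hQ, ← h1, hr]
          simp
        rw [hr, hQ, ← this]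
        simp
      intro s a
      suffices ∀ z : A ⊗[k] A, ∃ Q : k[X], ∀ t,
          Algebra.TensorProduct.lift (r s).ofConv (r t).ofConv (fun _ _ => Commute.all _ _) z = Q.eval t by
        obtain ⟨Q, hQ⟩ := this (Coalgebra.comul (R := k) a)
        exact ⟨Q, fun t => (AlgHom.convMul_apply _ _ a).trans (hQ t)⟩
      intro z
      induction z using TensorProduct.induction_on with
      | zero => exact ⟨0, fun t => by simp⟩
      | tmul p q => exact ⟨C ((P p).eval s) * P q, fun t => by simp [hr]⟩
      | add p q hp hq =>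
        obtain ⟨Q, hQ⟩ := hp
        obtain ⟨Q', hQ'⟩ := hq
        exact ⟨Q + Q', fun t => by simp [map_add, hQ, hQ']⟩
    refine ⟨r ((e : k)⁻¹), ?_⟩
    have : ∀ m : ℕ, r ((e : k)⁻¹) ^ m = r ((m : k) * (e : k)⁻¹) := fun m => by
      induction m with
      | zero =>
        rw [pow_zero, Nat.cast_zero, zero_mul]
        exact (pow_zero g).symm.trans ((hnat 0).symm.trans (by rw [Nat.cast_zero]))
      | succ m ih => rw [pow_succ, ih, ← hadd]; congr 1; push_cast; ring
    show r ((e : k)⁻¹) ^ e = g
    rw [this e, mul_inv_cancel₀ he', ← Nat.cast_one, hnat, pow_one]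

/-- In characteristic `p` every unipotent point has `p`-power order. -/
theorem bijective_pow_charP [Algebra.FiniteType k A] (hU : HopfRep.IsUnipotent k A) (p : ℕ) [Fact p.Prime] [CharP k p]
    (e : ℕ) (he : ¬ p ∣ e) : Function.Bijective fun g : Pt => g ^ e := by
  obtain ⟨U, hUs, hUf, hinj⟩ := exists_faithful k A
  letI := ComodSub.Comod.restr (HopfRep.Comod.regular k A) U hUs
  have hord : ∀ g : Pt, ∃ m, g ^ p ^ m = 1 := fun g => by
    obtain ⟨M, hM⟩ := isNilpotent_act_sub_one hU g.ofConv U
    change (rho k A U g - 1) ^ M = 0 at hM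
    refine ⟨M, hinj ?_⟩
    rcases subsingleton_or_nontrivial (Module.End k U) with h | h
    · exact Subsingleton.elim _ _
    haveI : CharP (Module.End k U) p := charP_of_injective_algebraMap (algebraMap k (Module.End k U)).injective p
    haveI : ExpChar (Module.End k U) p := ExpChar.prime Fact.out
    have := sub_pow_expChar_pow_of_commute (R := Module.End k U) (p := p) M (Commute.one_right (rho k A U g))
    rw [one_pow, pow_eq_zero_of_le (Nat.lt_pow_self (Fact.out : p.Prime).one_lt).le hM] at this
    rw [map_pow, map_one]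
    exact sub_eq_zero.mp this.symm
  have hcop : ∀ g : Pt, e.Coprime (orderOf g) := fun g => by
    obtain ⟨m, hm⟩ := hord g
    exact Nat.Coprime.coprime_dvd_right (orderOf_dvd_of_pow_eq_one hm)
      (((Nat.Prime.coprime_iff_not_dvd Fact.out).mpr he).symm.pow_right m)
  constructor
  · intro g h hgh
    change g ^ e = h ^ e at hgh
    obtain ⟨m, hm⟩ := hord g
    obtain ⟨m', hm'⟩ := hord h
    have hc : e.Coprime (p ^ max m m') := ((Nat.Prime.coprime_iff_not_dvd Fact.out).mpr he).symm.pow_right _
    obtain ⟨r, hr⟩ := exists_pow_eq_self_of_coprime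
      (hc.coprime_dvd_right (orderOf_dvd_of_pow_eq_one (n := p ^ max m m') (by
        obtain ⟨d, hd⟩ := pow_dvd_pow p (le_max_left m m'); rw [hd, pow_mul, hm, one_pow])) : e.Coprime (orderOf g))
    obtain ⟨r', hr'⟩ := exists_pow_eq_self_of_coprime
      (hc.coprime_dvd_right (orderOf_dvd_of_pow_eq_one (n := p ^ max m m') (by
        obtain ⟨d, hd⟩ := pow_dvd_pow p (le_max_right m m'); rw [hd, pow_mul, hm', one_pow])) : e.Coprime (orderOf h))
    calc g = ((g ^ e) ^ r) := hr.symm
      _ = (((h ^ e) ^ r') ^ e) ^ r := by rw [hr', hgh]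
      _ = ((g ^ e) ^ r) ^ (e * r') := by rw [← hgh, ← pow_mul, ← pow_mul, ← pow_mul, ← pow_mul, ← pow_mul]; congr 1; ring
      _ = (g ^ e) ^ r' := by rw [hr, pow_mul]
      _ = h := by rw [hgh, hr']
  · intro g
    obtain ⟨r, hr⟩ := exists_pow_eq_self_of_coprime (hcop g)
    exact ⟨g ^ r, (pow_right_comm g r e).trans hr⟩

end Groth.Agent.AlgGrpQ
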