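import Groth.Prelude.Def_AlgGrp
import Groth.Agent.H23.Rigid
import Groth.Agent.ParLib.Contraction
import Groth.Agent.GrpSchLib.Coincidence

/-!
# Descending an action along a morphism with connected fibres

A proper morphism with `O_Y = f_* O_X` keeps this property after a flat base change, so actions descend
along it as soon as the composite with the action is constant on fibres.
-/

set_option linter.style.haveILetI false

universe u

open CategoryTheory CategoryTheory.Limits CartesianMonoidalCategory MonoidalCategory MonObj AlgebraicGeometry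

namespace Groth.Agent.AlgGrpQ.ActionDescent

theorem bijective_app_of_isPullback {X Y T P : Scheme.{u}} {f : X ⟶ Y} {g : T ⟶ Y} {a : P ⟶ X} {b : P ⟶ T}
    (h : IsPullback a b f g) [Flat g] [QuasiCompact f] [QuasiSeparated f]
    (hf : ∀ U : Y.Opens, IsIso (f.app U)) (V : T.Opens) : Function.Bijective (b.app V) := by
  haveI : QuasiCompact b := MorphismProperty.of_isPullback (P := @QuasiCompact) h inferInstance
  haveI : QuasiSeparated b := MorphismProperty.of_isPullback (P := @QuasiSeparated) h inferInstance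
  refine (ConcreteCategory.isIso_iff_bijective _).mp
    (FlatMisc.isIso_app_of_bijective_affine b (fun z => ?_) V)
  obtain ⟨U, hU, hzU, -⟩ := ParLib.exists_affineOpen_mem (g z) ⊤ trivial
  obtain ⟨A, hA, hzA, hle⟩ := ParLib.exists_affineOpen_mem z (g ⁻¹ᵁ U) hzU
  refine ⟨A, hA, hzA, ?_⟩
  haveI : IsAffine U.toScheme := hU
  haveI : IsAffine A.toScheme := hA
  let pT : (A : Scheme.{u}) ⟶ U := g.resLE U A hle
  haveI : Flat pT := by infer_instance
  have hb := (isPullback_morphismRestrict b A).flip.paste_horiz h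
  have h3 := (isPullback_morphismRestrict f U).flip
  obtain ⟨c, hc1, hc2⟩ := h3.exists_lift ((b ⁻¹ᵁ A).ι ≫ a) (b ∣_ A ≫ pT) (by
    rw [Category.assoc (b ∣_ A), Scheme.Hom.resLE_comp_ι]
    exact hb.w)
  have hsq : IsPullback c (b ∣_ A) (f ∣_ U) pT := by
    refine IsPullback.of_right ?_ hc2 h3
    rw [hc1, Scheme.Hom.resLE_comp_ι]
    exact hb
  haveI : QuasiCompact (f ∣_ U) := MorphismProperty.of_isPullback h3 ‹_›
  haveI : QuasiSeparated (f ∣_ U) := MorphismProperty.of_isPullback h3 ‹_›
  have hiso : IsIso (f ∣_ U).appTop := by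
    rw [morphismRestrict_appTop]
    exact IsIso.comp_isIso' (hf _) (Functor.map_isIso X.presheaf _)
  have hres := ParLib.isIso_appTop_of_isPullback pT (f ∣_ U) hsq hiso
  rw [morphismRestrict_appTop] at hres
  haveI : IsIso (b.app (A.ι ''ᵁ ⊤)) :=
    @IsIso.of_isIso_comp_right _ _ _ _ _ _ _ (Functor.map_isIso P.presheaf _) hres
  have e : A.ι ''ᵁ ⊤ = A := A.ι_image_top
  exact (ConcreteCategory.isIso_iff_bijective _).1 (e ▸ this)

variable {k : Type u} [Field k] {G X Y : Over (Spec (CommRingCat.of k))} {f : X ⟶ Y}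

theorem flat_snd (W : Over (Spec (CommRingCat.of k))) : Flat (snd W Y).left := by
  haveI : Flat W.hom := by
    have : Subsingleton (Spec (CommRingCat.of k)) := inferInstance
    infer_instance
  exact inferInstanceAs (Flat (pullback.snd W.hom Y.hom))

theorem bijective_app_whisker [IsProper f.left] (hf : ∀ U : Y.left.Opens, IsIso (f.left.app U))
    (W : Over (Spec (CommRingCat.of k))) (V : (W ⊗ Y).left.Opens) :
    Function.Bijective ((W ◁ f).left.app V) :=
  haveI := flat_snd (Y := Y) W
  bijective_app_of_isPullback (GrpSchLib.isPullback_whiskerLeft (W := W) f).flip hf V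

theorem isProper_whisker [IsProper f.left] (W : Over (Spec (CommRingCat.of k))) :
    IsProper (W ◁ f).left :=
  MorphismProperty.of_isPullback (P := @IsProper) (GrpSchLib.isPullback_whiskerLeft (W := W) f).flip ‹_›

theorem cancel_whisker [IsProper f.left] (hf : ∀ U : Y.left.Opens, IsIso (f.left.app U))
    (W : Over (Spec (CommRingCat.of k))) {Z : Over (Spec (CommRingCat.of k))} {r r' : W ⊗ Y ⟶ Z}
    (h : (W ◁ f) ≫ r = (W ◁ f) ≫ r') : r = r' :=
  haveI := isProper_whisker (f := f) W
  Over.OverMorphism.ext (H23.Rigid.cancel_left (W ◁ f).left (bijective_app_whisker hf W)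
    (H23.Rigid.surjective_of_bijective_app _ (bijective_app_whisker hf W) (W ◁ f).left.isClosedMap) _ _
    (congrArg Over.Hom.left h))

variable [GrpObj G] [IsProper f.left]

theorem tfae (hf : ∀ U : Y.left.Opens, IsIso (f.left.app U)) (a : AlgGrp.Action G X) :
    [∃ b : AlgGrp.Action G Y, (G ◁ f) ≫ b.act = a.act ≫ f,
      ∀ (T : Over (Spec (CommRingCat.of k))) (g : T ⟶ G) (x₁ x₂ : T ⟶ X),
        x₁ ≫ f = x₂ ≫ f → lift g x₁ ≫ a.act ≫ f = lift g x₂ ≫ a.act ≫ f,
      ∀ p q : ↥(G ⊗ X).left, (G ◁ f).left.base p = (G ◁ f).left.base q →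
        (a.act ≫ f).left.base p = (a.act ≫ f).left.base q].TFAE := by
  tfae_have 1 → 2 := by
    rintro ⟨b, hb⟩ T g x₁ x₂ h
    rw [← hb, lift_whiskerLeft_assoc, lift_whiskerLeft_assoc, h]
  tfae_have 2 → 3 := by
    intro h p q hpq
    obtain ⟨w, hw1, hw2⟩ := Scheme.Pullback.exists_preimage_pullback
      (f := (G ◁ f).left) (g := (G ◁ f).left) p q hpq
    let P : Over (Spec (CommRingCat.of k)) :=
      Over.mk (pullback.fst (G ◁ f).left (G ◁ f).left ≫ (G ⊗ X).hom)
    let u : P ⟶ G ⊗ X := Over.homMk (pullback.fst _ _) rfl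
    let v : P ⟶ G ⊗ X := Over.homMk (pullback.snd _ _) (by
      show pullback.snd _ _ ≫ (G ⊗ X).hom = pullback.fst _ _ ≫ (G ⊗ X).hom
      rw [← Over.w (G ◁ f), ← pullback.condition_assoc])
    have huv : u ≫ (G ◁ f) = v ≫ (G ◁ f) := Over.OverMorphism.ext pullback.condition
    have hg : u ≫ fst G X = v ≫ fst G X := by
      have := congrArg (· ≫ fst G Y) huv
      simpa using this
    have hx : (u ≫ snd G X) ≫ f = (v ≫ snd G X) ≫ f := by
      have := congrArg (· ≫ snd G Y) huv
      simpa using this
    have key := h P (u ≫ fst G X) _ _ hx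
    rw [← comp_lift, hg, ← comp_lift, lift_fst_snd, Category.comp_id, Category.comp_id] at key
    have e := congrArg (fun m : P ⟶ Y => m.left w) key
    simp only [Over.comp_left, Scheme.Hom.comp_apply, u, v, Over.homMk_left] at e
    rw [hw1, hw2] at e
    exact e
  tfae_have 3 → 1 := by
    intro h
    haveI := isProper_whisker (f := f) G
    have h0 := bijective_app_whisker hf G
    have hsurj := H23.Rigid.surjective_of_bijective_app (G ◁ f).left h0 (G ◁ f).left.isClosedMap
    obtain ⟨r, hr⟩ := H23.Rigid.exists_factor (G ◁ f).left h0 (G ◁ f).left.isClosedMap (a.act ≫ f).left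
      (fun s => by
        obtain ⟨p, hp⟩ := hsurj s
        exact ⟨(a.act ≫ f).left p, fun x hx => h x p (hx.trans hp.symm)⟩)
    let b : G ⊗ Y ⟶ Y := Over.homMk r (H23.Rigid.cancel_left (G ◁ f).left h0 hsurj _ _ (by
      rw [← Category.assoc, hr, Over.w, Over.w]))
    have hb : (G ◁ f) ≫ b = a.act ≫ f := Over.OverMorphism.ext hr
    refine ⟨⟨b, cancel_whisker hf _ ?_, cancel_whisker hf _ ?_⟩, hb⟩
    · rw [← Category.assoc, whisker_exchange, Category.assoc, hb, ← Category.assoc, a.one_act]
      exact (leftUnitor_naturality f).symm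
    · rw [← Category.assoc, whisker_exchange, Category.assoc, hb, ← Category.assoc, a.mul_act,
        associator_naturality_right_assoc, ← whiskerLeft_comp_assoc, hb, whiskerLeft_comp_assoc,
        hb, Category.assoc, Category.assoc]
  tfae_finish

end Groth.Agent.AlgGrpQ.ActionDescent
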