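import Groth.Agent.ComodLib.Trig
import Groth.Agent.ComodLib.Coalg

/-!
# Simple comodules read in chains of subcomodules of the regular comodule
-/

universe u v

open TensorProduct

namespace Groth.Agent.AlgGrpQ

open Groth.Agent.ComodLib
open HopfRep (Comod)

variable {k : Type u} [Field k] {B : Type v} [CommRing B] [Bialgebra k B]

/-- A simple comodule embeds into a step of a chain which covers its coefficients. -/
theorem exists_graded_embedding (V : Type v) [AddCommGroup V] [Module k V] [Comod k B V] [Module.Finite k V]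
    (hV : HopfRep.IsSimpleComod k B V)
    (hgen : ∀ s : Finset B, ∃ (n : ℕ) (G : ℕ → Submodule k B) (x : ℕ → B), G 0 = ⊥ ∧
      (∀ i, HopfRep.IsSubcomod (k := k) (A := B) (G i)) ∧ (s : Set B) ⊆ G n ∧
      ∀ i, G (i + 1) ≤ G i ⊔ Submodule.span k {x i}) :
    ∃ j : V →ₗ[k] B, Hoch.IsComodHom B j ∧ ∀ P : Submodule k B → B → Prop,
      (∀ s : Finset B, ∃ (n : ℕ) (G : ℕ → Submodule k B) (x : ℕ → B), G 0 = ⊥ ∧
        (∀ i, HopfRep.IsSubcomod (k := k) (A := B) (G i)) ∧ (s : Set B) ⊆ G n ∧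
        ∀ i, G (i + 1) ≤ G i ⊔ Submodule.span k {x i} ∧ P (G i) (x i)) →
      ∃ (X : Submodule k B) (x : B), P X x ∧ Function.Injective (X.mkQ ∘ₗ j) ∧
        LinearMap.range (X.mkQ ∘ₗ j) ≤ Submodule.span k {X.mkQ x} := by
  classical
  haveI := hV.1
  obtain ⟨v₀, hv₀⟩ := exists_ne (0 : V)
  obtain ⟨f, hf⟩ := Module.Projective.exists_dual_ne_zero k hv₀
  let j : V →ₗ[k] B := coefFun (C := B) f
  have hj : Hoch.IsComodHom B j := isComodHom_coefFun f
  have hinj : Function.Injective j := by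
    rcases hV.2 _ (isSubcomod_ker hj) with h | h
    · exact LinearMap.ker_eq_bot.mp h
    · refine absurd ?_ hf
      rw [← counit_coefFun (C := B) f v₀]
      exact (congrArg (Coalgebra.counit (R := k)) (LinearMap.congr_fun (LinearMap.ker_eq_top.mp h) v₀)).trans (map_zero _)
  refine ⟨j, hj, fun P hP => ?_⟩
  let b := Module.finBasis k V
  obtain ⟨n, G, x, h0, hsub, hs, hstep⟩ := hP (Finset.univ.image fun i => j (b i))
  let C : ℕ → Submodule k V := fun i => (G i).comap j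
  have hC : ∀ i, C i = ⊥ ∨ C i = ⊤ := fun i => hV.2 _ (isSubcomod_comap hj (hsub i))
  have hC0 : C 0 = ⊥ := by simp [C, h0, LinearMap.ker_eq_bot.mpr hinj]
  have hCn : C n = ⊤ := by
    rw [eq_top_iff, ← b.span_eq, Submodule.span_le]
    rintro _ ⟨i, rfl⟩
    exact hs (Finset.mem_image.mpr ⟨i, Finset.mem_univ _, rfl⟩)
  obtain ⟨i, hi0, hi1⟩ : ∃ i, C i = ⊥ ∧ C (i + 1) = ⊤ := by
    by_contra hne
    push Not at hne
    have : ∀ i, C i = ⊥ := fun i => by
      induction i with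
      | zero => exact hC0
      | succ i ih => exact (hC (i + 1)).resolve_right (hne i ih)
    exact bot_ne_top ((this n).symm.trans hCn)
  refine ⟨G i, x i, (hstep i).2, (injective_iff_map_eq_zero _).mpr fun v hv => ?_, ?_⟩
  · have : v ∈ C i := (Submodule.Quotient.mk_eq_zero (G i)).mp hv
    rwa [hi0, Submodule.mem_bot] at this
  · rintro _ ⟨v, rfl⟩
    obtain ⟨y, hy, z, hz, hyz⟩ := Submodule.mem_sup.mp ((hstep i).1 (show v ∈ C (i + 1) by rw [hi1]; trivial))
    obtain ⟨r, rfl⟩ := Submodule.mem_span_singleton.mp hz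
    refine Submodule.mem_span_singleton.mpr ⟨r, ?_⟩
    rw [LinearMap.comp_apply, ← hyz, map_add, map_smul,
      show (G i).mkQ y = 0 from (Submodule.Quotient.mk_eq_zero _).mpr hy, zero_add]

/-- Chains with one-dimensional steps force trigonalizability. -/
theorem isTrigonalizable_of_chains
    (hgen : ∀ s : Finset B, ∃ (n : ℕ) (G : ℕ → Submodule k B) (x : ℕ → B), G 0 = ⊥ ∧
      (∀ i, HopfRep.IsSubcomod (k := k) (A := B) (G i)) ∧ (s : Set B) ⊆ G n ∧
      ∀ i, G (i + 1) ≤ G i ⊔ Submodule.span k {x i}) : HopfRep.IsTrigonalizable k B := by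
  intro V _ _ _ hfin hV
  obtain ⟨j, -, hj⟩ := exists_graded_embedding V hV hgen
  obtain ⟨X, x, -, hinj, hr⟩ := hj (fun _ _ => True) fun s => by
    obtain ⟨n, G, x, h0, h1, h2, h3⟩ := hgen s
    exact ⟨n, G, x, h0, h1, h2, fun i => ⟨h3 i, trivial⟩⟩
  haveI := hV.1
  refine le_antisymm ?_ Module.finrank_pos
  rw [← LinearMap.finrank_range_of_inj hinj]
  refine (Submodule.finrank_mono hr).trans ?_
  by_cases h0 : X.mkQ x = 0
  · rw [h0, Submodule.span_zero_singleton, finrank_bot]; exact zero_le_one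
  · rw [finrank_span_singleton h0]

/-- Chains whose steps are given by characters in `Cs` give eigenvectors with characters in `Cs`. -/
theorem exists_eigen_of_chains (Cs : Set B)
    (hgen : ∀ s : Finset B, ∃ (n : ℕ) (G : ℕ → Submodule k B) (x c : ℕ → B), G 0 = ⊥ ∧
      (∀ i, HopfRep.IsSubcomod (k := k) (A := B) (G i)) ∧ (s : Set B) ⊆ G n ∧ (∀ i, c i ∈ Cs) ∧
      ∀ i, G (i + 1) ≤ G i ⊔ Submodule.span k {x i} ∧
        Coalgebra.comul (R := k) (x i) - x i ⊗ₜ[k] c i ∈ LinearMap.range ((G i).subtype.rTensor B))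
    (V : Type v) [AddCommGroup V] [Module k V] [Comod k B V] [Module.Finite k V] [Nontrivial V] :
    ∃ (v : V) (c : B), v ≠ 0 ∧ c ∈ Cs ∧ Comod.coact (k := k) (A := B) v = v ⊗ₜ[k] c := by
  classical
  obtain ⟨S, -, hSf, hS, hS0, hmin⟩ := exists_simple_le (isSubcomod_top (k := k) (C := B) (V := V)) top_ne_bot
  haveI := hSf
  letI cS : Comod k B S := ComodSub.Comod.restr ‹Comod k B V› S hS
  have hsimp : HopfRep.IsSimpleComod k B S := isSimpleComod_restr hS hS0 hmin
  obtain ⟨j, hjh, hj⟩ := exists_graded_embedding S hsimp fun s => by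
    obtain ⟨n, G, x, c, h0, h1, h2, -, h4⟩ := hgen s
    exact ⟨n, G, x, h0, h1, h2, fun i => (h4 i).1⟩
  obtain ⟨X, x, ⟨hX, c, hc, hx⟩, hinj, hr⟩ := hj (fun X x => HopfRep.IsSubcomod (k := k) (A := B) X ∧
      ∃ c ∈ Cs, Coalgebra.comul (R := k) x - x ⊗ₜ[k] c ∈ LinearMap.range (X.subtype.rTensor B)) fun s => by
    obtain ⟨n, G, x, c, h0, h1, h2, h3, h4⟩ := hgen s
    exact ⟨n, G, x, h0, h1, h2, fun i => ⟨(h4 i).1, h1 i, c i, h3 i, (h4 i).2⟩⟩
  obtain ⟨v, hv, hv0⟩ := Submodule.exists_mem_ne_zero_of_ne_bot hS0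
  refine ⟨v, c, hv0, hc, ?_⟩
  let s : S := ⟨v, hv⟩
  suffices h : cS.coact s = s ⊗ₜ[k] c by
    rw [show Comod.coact (k := k) (A := B) v = S.subtype.rTensor B (cS.coact s) from
      (ComodSub.restr_coact_coe ‹Comod k B V› S hS s).symm, h, LinearMap.rTensor_tmul]
    rfl
  apply Module.Flat.rTensor_preserves_injective_linearMap (X.mkQ ∘ₗ j) hinj
  rw [LinearMap.rTensor_tmul, LinearMap.rTensor_comp, LinearMap.comp_apply,
    show j.rTensor B (cS.coact s) = Coalgebra.comul (R := k) (j s) from (LinearMap.congr_fun hjh s).symm]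
  obtain ⟨r, hr'⟩ := Submodule.mem_span_singleton.mp (hr ⟨s, rfl⟩)
  have hsx : j s - r • x ∈ X := by
    rw [← Submodule.Quotient.mk_eq_zero X, Submodule.Quotient.mk_sub, sub_eq_zero]
    simpa using hr'.symm
  have h1 : X.mkQ.rTensor B (Coalgebra.comul (R := k) (j s - r • x)) = 0 := by
    obtain ⟨z, hz⟩ := hX _ hsx
    rw [show Coalgebra.comul (R := k) (j s - r • x) = X.subtype.rTensor B z from hz.symm, ← LinearMap.comp_apply,
      ← LinearMap.rTensor_comp, show X.mkQ ∘ₗ X.subtype = 0 from LinearMap.ext fun y =>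
        (Submodule.Quotient.mk_eq_zero X).mpr y.2, LinearMap.rTensor_zero, LinearMap.zero_apply]
  have h2 : X.mkQ.rTensor B (Coalgebra.comul (R := k) x) = X.mkQ x ⊗ₜ[k] c := by
    obtain ⟨z, hz⟩ := hx
    rw [← sub_eq_zero]
    show _ - X.mkQ.rTensor B (x ⊗ₜ c) = 0
    rw [← map_sub, ← hz, ← LinearMap.comp_apply,
      ← LinearMap.rTensor_comp, show X.mkQ ∘ₗ X.subtype = 0 from LinearMap.ext fun y =>
        (Submodule.Quotient.mk_eq_zero X).mpr y.2, LinearMap.rTensor_zero, LinearMap.zero_apply]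
  rw [map_sub, map_sub, sub_eq_zero, map_smul, map_smul, h2] at h1
  rw [h1, LinearMap.comp_apply, show X.mkQ (j s) = r • X.mkQ x from hr'.symm, TensorProduct.smul_tmul']

end Groth.Agent.AlgGrpQ
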