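import Groth.Agent.ComodLib.HopfSubInv
import Groth.Agent.ComodLib.Rosenlicht
import Mathlib.RingTheory.UniqueFactorizationDomain.ClassGroup
import Mathlib.RingTheory.Flat.Basic

/-!
# The kernel of the largest torus quotient has no characters
-/

set_option autoImplicit false
set_option backward.isDefEq.respectTransparency false
set_option backward.isDefEq.respectTransparency.types false
set_option maxSynthPendingDepth 5
set_option linter.style.haveILetI false

universe u

noncomputable section

open TensorProduct WithConv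

namespace Groth.Agent.AlgGrpQ.CharKernel

open Groth.Agent.ComodLib

variable {k : Type u} [Field k] {A B C : Type u} [CommRing A] [CommRing B] [CommRing C]
  [HopfAlgebra k A] [HopfAlgebra k B] [HopfAlgebra k C] (ψ : B →ₐc[k] A) (π : A →ₐc[k] C)

/-- Restricting the second variable to the subgroup. -/
def phi : A →ₐ[k] A ⊗[k] C :=
  (Algebra.TensorProduct.map (AlgHom.id k A) (π : A →ₐ[k] C)).comp (Bialgebra.comulAlgHom k A)

theorem phi_conv : toConv (phi π) =
    toConv (Algebra.TensorProduct.includeLeft : A →ₐ[k] A ⊗[k] C) *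
      toConv ((Algebra.TensorProduct.includeRight : C →ₐ[k] A ⊗[k] C).comp (π : A →ₐ[k] C)) := by
  refine WithConv.ext (AlgHom.ext fun a => ?_)
  rw [GrpSchLib.HopfQuot.convMul_apply]
  show Algebra.TensorProduct.map (AlgHom.id k A) (π : A →ₐ[k] C) (Coalgebra.comul (R := k) a) = _
  induction Coalgebra.comul (R := k) a using TensorProduct.induction_on with
  | zero => simp
  | tmul p q => simp
  | add p q hp hq => simp only [map_add, hp, hq]

theorem phi_eq : phi π = (toConv (Algebra.TensorProduct.includeLeft : A →ₐ[k] A ⊗[k] C) *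
    toConv ((Algebra.TensorProduct.includeRight : C →ₐ[k] A ⊗[k] C).comp (π : A →ₐ[k] C))).ofConv := by
  rw [← phi_conv, ofConv_toConv]

theorem counit_phi (a : A) :
    TensorProduct.lid k C ((Coalgebra.counit (R := k)).rTensor C (phi π a)) = π a := by
  have e : ∀ z : A ⊗[k] A, TensorProduct.lid k C ((Coalgebra.counit (R := k)).rTensor C
      (Algebra.TensorProduct.map (AlgHom.id k A) (π : A →ₐ[k] C) z)) =
      π (TensorProduct.lid k A ((Coalgebra.counit (R := k)).rTensor A z)) := fun z => by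
    induction z using TensorProduct.induction_on with
    | zero => simp
    | tmul p q => simp
    | add p q hp hq => simp only [map_add, hp, hq]
  refine (e _).trans ?_
  erw [Coalgebra.rTensor_counit_comul]
  simp

theorem lTensor_counit_phi (a : A) :
    TensorProduct.rid k A ((Coalgebra.counit (R := k)).lTensor A (phi π a)) = a := by
  have e : ∀ z : A ⊗[k] A, TensorProduct.rid k A ((Coalgebra.counit (R := k)).lTensor A
      (Algebra.TensorProduct.map (AlgHom.id k A) (π : A →ₐ[k] C) z)) =
      TensorProduct.rid k A ((Coalgebra.counit (R := k)).lTensor A z) := fun z => by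
    induction z using TensorProduct.induction_on with
    | zero => simp
    | tmul p q => simp [CoalgHomClass.counit_comp_apply π]
    | add p q hp hq => simp only [map_add, hp, hq]
  refine (e _).trans ?_
  erw [Coalgebra.lTensor_counit_comul]
  simp

variable {ψ π} (hπ : Function.Surjective π)
  (hker : RingHom.ker (π : A →ₐ[k] C) = Ideal.map (ψ : B →+* A) (RingHom.ker (Bialgebra.counitAlgHom k B)))

include hker in
theorem pi_psi (b : B) : π (ψ b) = algebraMap k C (Coalgebra.counit (R := k) b) := by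
  have h : ψ (b - algebraMap k B (Coalgebra.counit (R := k) b)) ∈ RingHom.ker (π : A →ₐ[k] C) := by
    rw [hker]
    refine Ideal.mem_map_of_mem _ ?_
    simp [RingHom.mem_ker]
  rw [RingHom.mem_ker] at h
  change π (ψ _) = 0 at h
  rwa [map_sub, map_sub, AlgHomClass.commutes ψ, AlgHomClass.commutes π, sub_eq_zero] at h

include hker in
theorem phi_psi (b : B) : phi π (ψ b) = ψ b ⊗ₜ[k] (1 : C) := by
  show Algebra.TensorProduct.map (AlgHom.id k A) (π : A →ₐ[k] C) (Coalgebra.comul (R := k) (ψ b)) = _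
  rw [← CoalgHomClass.map_comp_comul_apply ψ b]
  have hb : TensorProduct.rid k B ((Coalgebra.counit (R := k)).lTensor B (Coalgebra.comul (R := k) b)) = b := by
    rw [Coalgebra.lTensor_counit_comul]; simp
  refine Eq.trans ?_ (congrArg (fun z : B => ψ z ⊗ₜ[k] (1 : C)) hb)
  induction Coalgebra.comul (R := k) b using TensorProduct.induction_on with
  | zero => simp
  | tmul p q =>
    simp only [TensorProduct.map_tmul, Algebra.TensorProduct.map_tmul, AlgHom.id_apply, LinearMap.lTensor_tmul,
      TensorProduct.rid_tmul, map_smul, ← TensorProduct.smul_tmul']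
    show ψ p ⊗ₜ[k] π (ψ q) = _
    rw [pi_psi hker, Algebra.algebraMap_eq_smul_one, TensorProduct.tmul_smul]
  | add p q hp hq => simp only [map_add, TensorProduct.add_tmul, hp, hq]

variable [Algebra.FiniteType k A] [Algebra.FiniteType k B] (hψ : Function.Injective ψ)

include hπ hker hψ in
theorem exists_eq_psi {a : A} (h : phi π a = a ⊗ₜ[k] (1 : C)) : ∃ b, ψ b = a := by
  refine mem_range_of_comul_sub_mem ψ hψ a ?_
  let J := Ideal.map (ψ : B →+* A) (RingHom.ker (Bialgebra.counitAlgHom k B))
  have hex : Function.Exact (LinearMap.lTensor A (J.restrictScalars k).subtype)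
      (LinearMap.lTensor A (π : A →ₐ[k] C).toLinearMap) := by
    refine lTensor_exact (R := k) A (fun y => ?_) hπ
    have hy : π y = 0 ↔ y ∈ J := SetLike.ext_iff.1 hker y
    exact hy.trans ⟨fun h => ⟨⟨y, h⟩, rfl⟩, fun ⟨z, hz⟩ => hz ▸ z.2⟩
  refine LinearMap.mem_range.2 ((hex _).1 ?_)
  have e : ∀ z : A ⊗[k] A, (π : A →ₐ[k] C).toLinearMap.lTensor A z =
      Algebra.TensorProduct.map (AlgHom.id k A) (π : A →ₐ[k] C) z := fun z => by
    induction z using TensorProduct.induction_on with
    | zero => simp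
    | tmul p q => simp
    | add p q hp hq => simp only [map_add, hp, hq]
  rw [map_sub, e, LinearMap.lTensor_tmul, sub_eq_zero]
  refine h.trans ?_
  simp

/-- The functions whose restriction along the subgroup lies in `D`. -/
def liftSpace (π : A →ₐc[k] C) (D : Submodule k C) : Submodule k A :=
  (LinearMap.range (D.subtype.lTensor A)).comap (phi π).toLinearMap

include hπ hker hψ in
/-- Coideals of the subgroup lift. -/
theorem exists_lift (D : Submodule k C)
    (hD : ∀ d ∈ D, Coalgebra.comul (R := k) d ∈ LinearMap.range (D.subtype.lTensor C)) {d : C} (hd : d ∈ D) :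
    ∃ a ∈ liftSpace π D, π a = d := by
  letI : Algebra B A := (ψ : B →ₐ[k] A).toRingHom.toAlgebra
  haveI : IsScalarTower k B A := IsScalarTower.of_algebraMap_eq fun c => ((ψ : B →ₐ[k] A).commutes c).symm
  haveI : Module.FaithfullyFlat B A := GrpSchLib.HopfFlat.faithfullyFlat ψ hψ
  have hAM : ∀ b : B, algebraMap B A b = ψ b := fun b => rfl
  let φB : A →ₐ[B] A ⊗[k] C :=
    { phi π with
      commutes' := fun b => by
        show phi π (algebraMap B A b) = algebraMap B A b ⊗ₜ[k] (1 : C)
        rw [hAM, phi_psi hker] }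
  let F : A →ₗ[B] A ⊗[k] (C ⧸ D) :=
    (TensorProduct.AlgebraTensorModule.lTensor B A D.mkQ) ∘ₗ φB.toLinearMap
  have hF : ∀ a, F a = 0 ↔ a ∈ liftSpace π D := fun a => by
    have hex : Function.Exact (D.subtype.lTensor A) (D.mkQ.lTensor A) :=
      lTensor_exact (R := k) A (LinearMap.exact_subtype_mkQ D) (Submodule.mkQ_surjective D)
    exact hex _
  let L : A →ₐ[k] A ⊗[B] A := (Algebra.TensorProduct.includeLeft : A →ₐ[B] A ⊗[B] A).restrictScalars k
  let R : A →ₐ[k] A ⊗[B] A := (Algebra.TensorProduct.includeRight : A →ₐ[B] A ⊗[B] A).restrictScalars k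
  let Θ : A →ₐ[k] A ⊗[B] A := (toConv (L.comp (HopfAlgebra.antipodeAlgHom k A)) * toConv R).ofConv
  have hLR : L.comp (ψ : B →ₐ[k] A) = R.comp (ψ : B →ₐ[k] A) :=
    AlgHom.ext fun c => (Algebra.TensorProduct.includeLeft : A →ₐ[B] A ⊗[B] A).commutes c |>.trans
      ((Algebra.TensorProduct.includeRight : A →ₐ[B] A ⊗[B] A).commutes c).symm
  have hΘ : Θ.comp (ψ : B →ₐ[k] A) = (1 : WithConv (B →ₐ[k] A ⊗[B] A)).ofConv := by
    show AlgHom.comp _ (ψ : B →ₐ[k] A) = _
    rw [AlgHom.convMul_comp_bialgHom_distrib]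
    simp only [AlgHom.comp_assoc]
    rw [show (HopfAlgebra.antipodeAlgHom k A).comp (ψ : B →ₐ[k] A) =
        (ψ : B →ₐ[k] A).comp (HopfAlgebra.antipodeAlgHom k B) from AlgHom.ext fun c =>
          GrpSchLib.HopfGalois.antipode_bialgHom ψ c, ← AlgHom.comp_assoc, hLR,
      GrpSchLib.HopfQuot.inv_convMul_self]
  have hJ : RingHom.ker (π : A →ₐ[k] C) ≤ RingHom.ker Θ.toRingHom := by
    rw [hker]
    refine Ideal.map_le_iff_le_comap.2 fun c hc => ?_
    show Θ (ψ c) = 0
    refine (AlgHom.congr_fun hΘ c).trans ?_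
    show algebraMap k _ (Coalgebra.counit (R := k) c) = 0
    rw [show Coalgebra.counit (R := k) c = 0 from hc, map_zero]
  let Θ' : C →ₐ[k] A ⊗[B] A := AlgHom.liftOfSurjective (π : A →ₐ[k] C) hπ Θ hJ
  have hΘ' : ∀ a, Θ' (π a) = Θ a := fun a => AlgHom.liftOfSurjective_apply _ _ _ _ a
  -- the Galois map
  let κ : A ⊗[B] A →ₐ[k] A ⊗[k] C :=
    (Algebra.TensorProduct.lift (Algebra.TensorProduct.includeLeft : A →ₐ[B] A ⊗[k] C) φB
      fun _ _ => Commute.all _ _).restrictScalars k
  have hκ : ∀ c, κ (Θ' c) = (1 : A) ⊗ₜ[k] c := by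
    intro c
    obtain ⟨a, rfl⟩ := hπ c
    rw [hΘ']
    have hκR : κ.comp R = phi π := AlgHom.ext fun x => by
      show κ ((1 : A) ⊗ₜ[B] x) = _
      simp [κ, φB, ← Algebra.TensorProduct.one_def]
    have hκL : κ.comp L = (Algebra.TensorProduct.includeLeft : A →ₐ[k] A ⊗[k] C) := AlgHom.ext fun x => by
      show κ (x ⊗ₜ[B] (1 : A)) = _
      simp [κ]
    have e : toConv (κ.comp Θ) = toConv ((Algebra.TensorProduct.includeRight : C →ₐ[k] A ⊗[k] C).comp (π : A →ₐ[k] C)) := by
      rw [show κ.comp Θ = (toConv (κ.comp (L.comp (HopfAlgebra.antipodeAlgHom k A))) * toConv (κ.comp R)).ofConv from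
        AlgHom.comp_convMul_distrib .., ← AlgHom.comp_assoc, hκL, hκR, toConv_ofConv, phi_conv, ← mul_assoc,
        GrpSchLib.HopfQuot.inv_convMul_self, one_mul]
    exact AlgHom.congr_fun (toConv_injective e) a
  -- the element to lift lies in the kernel of `A ⊗ F`
  let E : (A ⊗[B] A) →ₐ[k] A ⊗[B] (A ⊗[k] C) :=
    (Algebra.TensorProduct.map (AlgHom.id B A) (Algebra.TensorProduct.includeLeft : A →ₐ[B] A ⊗[k] C)).restrictScalars k
  let j3 : C →ₐ[k] A ⊗[B] (A ⊗[k] C) :=
    ((Algebra.TensorProduct.includeRight : A ⊗[k] C →ₐ[B] A ⊗[B] (A ⊗[k] C)).restrictScalars k).comp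
      (Algebra.TensorProduct.includeRight : C →ₐ[k] A ⊗[k] C)
  let G : A ⊗[B] A →ₐ[k] A ⊗[B] (A ⊗[k] C) := (Algebra.TensorProduct.map (AlgHom.id B A) φB).restrictScalars k
  have hG : G.comp Θ = (toConv (E.comp Θ) * toConv (j3.comp (π : A →ₐ[k] C))).ofConv := by
    apply toConv_injective
    have hGL : G.comp L = E.comp L := AlgHom.ext fun x => by
      show G (x ⊗ₜ[B] (1 : A)) = E (x ⊗ₜ[B] (1 : A))
      simp [G, E, φB]
      rfl
    have hGR : toConv (G.comp R) = toConv (E.comp R) * toConv (j3.comp (π : A →ₐ[k] C)) := by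
      let ι2 : A ⊗[k] C →ₐ[k] A ⊗[B] (A ⊗[k] C) :=
        (Algebra.TensorProduct.includeRight : A ⊗[k] C →ₐ[B] A ⊗[B] (A ⊗[k] C)).restrictScalars k
      have h1 : G.comp R = ι2.comp (phi π) := AlgHom.ext fun x => by
        show G ((1 : A) ⊗ₜ[B] x) = _
        simp [G, ι2, φB]
      have h2 : E.comp R = ι2.comp (Algebra.TensorProduct.includeLeft : A →ₐ[k] A ⊗[k] C) := AlgHom.ext fun x => by
        show E ((1 : A) ⊗ₜ[B] x) = _
        simp [E, ι2]
      rw [h1, h2, phi_eq, AlgHom.comp_convMul_distrib, toConv_ofConv]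
      rfl
    rw [toConv_ofConv, AlgHom.comp_convMul_distrib, AlgHom.comp_convMul_distrib, toConv_ofConv, toConv_ofConv,
      ofConv_toConv, ofConv_toConv, ← AlgHom.comp_assoc, ← AlgHom.comp_assoc, hGL, hGR, mul_assoc]
  have hzero : (F.lTensor A) (Θ' d) = 0 := by
    obtain ⟨a, rfl⟩ := hπ d
    obtain ⟨w, hw⟩ := hD _ hd
    have e1 : G (Θ a) = Algebra.TensorProduct.lift (E.comp Θ') j3 (fun _ _ => Commute.all _ _)
        (Coalgebra.comul (R := k) (π a)) := by
      rw [show G (Θ a) = (G.comp Θ) a from rfl, hG, GrpSchLib.HopfQuot.convMul_apply,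
        ← CoalgHomClass.map_comp_comul_apply π a]
      induction Coalgebra.comul (R := k) a using TensorProduct.induction_on with
      | zero => simp
      | tmul p q => simp [hΘ']
      | add p q hp hq => simp only [map_add, hp, hq]
    have e2 : ∀ z : A ⊗[B] A, (F.lTensor A) z =
        (TensorProduct.AlgebraTensorModule.lTensor B A D.mkQ).lTensor A (G z) := fun z => by
      induction z using TensorProduct.induction_on with
      | zero => simp
      | tmul p q => simp [F, G, φB]
      | add p q hp hq => simp only [map_add, hp, hq]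
    rw [hΘ', e2, e1, ← hw]
    clear hw
    induction w using TensorProduct.induction_on with
    | zero => simp
    | tmul x y =>
      rw [LinearMap.lTensor_tmul, Submodule.subtype_apply, Algebra.TensorProduct.lift_tmul]
      show (LinearMap.lTensor A _) (E (Θ' x) * j3 (y : C)) = 0
      induction Θ' x using TensorProduct.induction_on with
      | zero => simp
      | tmul p q =>
        rw [show E (p ⊗ₜ[B] q) * j3 (y : C) = p ⊗ₜ[B] (q ⊗ₜ[k] (y : C)) by simp [E, j3]]
        simp [(Submodule.Quotient.mk_eq_zero D).2 y.2]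
      | add p q hp hq => simp only [map_add, add_mul, hp, hq, add_zero]
    | add p q hp hq => simp only [map_add, hp, hq, add_zero]
  have hexact : Function.Exact ((LinearMap.ker F).subtype.lTensor A) (F.lTensor A) :=
    Module.Flat.lTensor_exact A (LinearMap.exact_subtype_ker_map F)
  obtain ⟨w, hw⟩ := (hexact _).1 hzero
  -- evaluate at the identity
  let ev : A ⊗[B] A →ₗ[k] C :=
    ((TensorProduct.lid k C).toLinearMap ∘ₗ (Coalgebra.counit (R := k)).rTensor C) ∘ₗ κ.toLinearMap
  have hev : ev (Θ' d) = d := by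
    show TensorProduct.lid k C ((Coalgebra.counit (R := k)).rTensor C (κ (Θ' d))) = d
    rw [hκ]
    simp
  have hmem : ev (Θ' d) ∈ (liftSpace π D).map (π : A →ₐ[k] C).toLinearMap := by
    rw [← hw]
    clear hw
    induction w using TensorProduct.induction_on with
    | zero => simp
    | tmul p q =>
      have : ev (p ⊗ₜ[B] (q : A)) = Coalgebra.counit (R := k) p • π (q : A) := by
        show TensorProduct.lid k C ((Coalgebra.counit (R := k)).rTensor C (κ (p ⊗ₜ[B] (q : A)))) = _
        rw [show κ (p ⊗ₜ[B] (q : A)) = (p ⊗ₜ[k] (1 : C)) * phi π q by simp [κ, φB], ← counit_phi π (q : A)]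
        induction phi π (q : A) using TensorProduct.induction_on with
        | zero => simp
        | tmul x y => simp [smul_smul, mul_comm]
        | add x y hx hy => simp only [mul_add, map_add, smul_add, hx, hy]
      rw [LinearMap.lTensor_tmul, Submodule.subtype_apply, this]
      exact Submodule.smul_mem _ _ (Submodule.mem_map_of_mem ((hF _).1 q.2))
    | add p q hp hq => simp only [map_add]; exact add_mem hp hq
  rw [hev] at hmem
  exact hmem

omit [Algebra.FiniteType k B] [Algebra.FiniteType k A] in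
/-- Left translation commutes with restriction along the subgroup. -/
theorem phi_translate (g : A →ₐ[k] k) (a : A) :
    phi π ((toConv ((Algebra.ofId k A).comp g) * toConv (AlgHom.id k A)).ofConv a) =
      Algebra.TensorProduct.map (toConv ((Algebra.ofId k A).comp g) * toConv (AlgHom.id k A)).ofConv
        (AlgHom.id k C) (phi π a) := by
  set Lg := (toConv ((Algebra.ofId k A).comp g) * toConv (AlgHom.id k A)).ofConv with hLg
  let ι1 : A →ₐ[k] A ⊗[k] C := Algebra.TensorProduct.includeLeft
  let ι2 : A →ₐ[k] A ⊗[k] C := (Algebra.TensorProduct.includeRight : C →ₐ[k] A ⊗[k] C).comp (π : A →ₐ[k] C)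
  let gT : A →ₐ[k] A ⊗[k] C := (Algebra.ofId k (A ⊗[k] C)).comp g
  have e1 : toConv ((phi π).comp Lg) = toConv gT * toConv (phi π) := by
    rw [hLg, AlgHom.comp_convMul_distrib, toConv_ofConv, ofConv_toConv, ofConv_toConv, AlgHom.comp_id,
      ← AlgHom.comp_assoc, show (phi π).comp (Algebra.ofId k A) = Algebra.ofId k _ from Algebra.ext_id ..]
  have e2 : toConv ((Algebra.TensorProduct.map Lg (AlgHom.id k C)).comp (phi π)) = toConv gT * toConv (phi π) := by
    let M := Algebra.TensorProduct.map Lg (AlgHom.id k C)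
    have h2 : M.comp ι2 = ι2 := AlgHom.ext fun x => by simp [M, ι2]
    have h1 : toConv (M.comp ι1) = toConv gT * toConv ι1 := by
      rw [show M.comp ι1 = ι1.comp Lg from AlgHom.ext fun x => by simp [M, ι1], hLg, AlgHom.comp_convMul_distrib,
        toConv_ofConv, ofConv_toConv, ofConv_toConv, AlgHom.comp_id, ← AlgHom.comp_assoc,
        show ι1.comp (Algebra.ofId k A) = Algebra.ofId k _ from Algebra.ext_id ..]
    show toConv (M.comp (phi π)) = _
    rw [phi_eq, AlgHom.comp_convMul_distrib, toConv_ofConv,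
      ofConv_toConv, ofConv_toConv, toConv_ofConv, h1, h2, mul_assoc]
  exact AlgHom.congr_fun (toConv_injective (e1.trans e2.symm)) a

omit [Algebra.FiniteType k A] [Algebra.FiniteType k B] in
theorem eval_translate (h g : A →ₐ[k] k) (a : A) :
    h ((toConv ((Algebra.ofId k A).comp g) * toConv (AlgHom.id k A)).ofConv a) = (toConv g * toConv h).ofConv a := by
  rw [← AlgHom.comp_apply, AlgHom.comp_convMul_distrib]
  refine congrArg (fun f : WithConv (A →ₐ[k] k) => f.ofConv a) (congrArg₂ (· * ·) ?_ ?_)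
  · exact congrArg toConv (AlgHom.ext fun x => by simp)
  · exact congrArg toConv (AlgHom.ext fun x => by simp)

variable [IsAlgClosed k] [IsDomain A] [IsDomain B] [UniqueFactorizationMonoid B]

include hπ hker hψ in
/-- The kernel has no nontrivial group-like functions, if all characters factor through the quotient. -/
theorem groupLike_eq_one (hgl : ∀ χ : A, IsGroupLikeElem k χ → ∃ b, ψ b = χ) {c : C}
    (hc : IsGroupLikeElem k c) : c = 1 := by
  classical
  letI : Algebra B A := (ψ : B →ₐ[k] A).toRingHom.toAlgebra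
  haveI : Module.FaithfullyFlat B A := GrpSchLib.HopfFlat.faithfullyFlat ψ hψ
  have semi : ∀ c : C, IsGroupLikeElem k c → ∃ a, phi π a = a ⊗ₜ[k] c ∧ Coalgebra.counit (R := k) a = (1 : k) := by
    intro c hc
    have hD : ∀ d ∈ Submodule.span k {c},
        Coalgebra.comul (R := k) d ∈ LinearMap.range ((Submodule.span k {c}).subtype.lTensor C) := by
      intro d hd
      obtain ⟨r, rfl⟩ := Submodule.mem_span_singleton.1 hd
      exact ⟨r • (c ⊗ₜ[k] ⟨c, Submodule.mem_span_singleton_self c⟩), by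
        rw [map_smul, map_smul, LinearMap.lTensor_tmul, hc.comul_eq_tmul_self]; rfl⟩
    obtain ⟨a, ha, hπa⟩ := exists_lift hπ hker hψ _ hD (Submodule.mem_span_singleton_self c)
    obtain ⟨z, hz⟩ := ha
    obtain ⟨a', ha'⟩ : ∃ a', phi π a = a' ⊗ₜ[k] c := by
      rw [show phi π a = _ from hz.symm]
      clear hz
      induction z using TensorProduct.induction_on with
      | zero => exact ⟨0, by simp⟩
      | tmul x y =>
        obtain ⟨r, hr⟩ := Submodule.mem_span_singleton.1 y.2
        exact ⟨r • x, by rw [LinearMap.lTensor_tmul, Submodule.subtype_apply, ← hr, TensorProduct.smul_tmul]⟩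
      | add x y hx hy =>
        obtain ⟨x', hx⟩ := hx
        obtain ⟨y', hy⟩ := hy
        exact ⟨x' + y', by rw [map_add, hx, hy, TensorProduct.add_tmul]⟩
    have h1 := lTensor_counit_phi π a
    rw [ha', LinearMap.lTensor_tmul, TensorProduct.rid_tmul, hc.counit_eq_one, one_smul] at h1
    refine ⟨a, by rw [ha', h1], ?_⟩
    rw [← CoalgHomClass.counit_comp_apply π a, hπa, hc.counit_eq_one]
  let M : C → Submodule B A := fun c =>
    { carrier := {a | phi π a = a ⊗ₜ[k] c}
      add_mem' := fun {a b} ha hb => by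
        show phi π (a + b) = _
        rw [map_add, ha, hb, TensorProduct.add_tmul]
      zero_mem' := by show phi π 0 = _; rw [map_zero, TensorProduct.zero_tmul]
      smul_mem' := fun b a ha => by
        show phi π (ψ b * a) = (ψ b * a) ⊗ₜ[k] c
        rw [map_mul, phi_psi hker, show phi π a = _ from ha, Algebra.TensorProduct.tmul_mul_tmul, one_mul] }
  let c' := HopfAlgebra.antipode k c
  have hc' : IsGroupLikeElem k c' := hc.antipode
  have hcc : c * c' = 1 := hc.mul_antipode_cancel
  obtain ⟨m, hm, hm1⟩ := semi c hc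
  obtain ⟨n, hn, hn1⟩ := semi c' hc'
  have hprod : ∀ a ∈ M c, ∀ a' ∈ M c', ∃ β, ψ β = a * a' := fun a ha a' ha' =>
    exists_eq_psi hπ hker hψ (by
      rw [map_mul, show phi π a = _ from ha, show phi π a' = _ from ha', Algebra.TensorProduct.tmul_mul_tmul, hcc])
  -- the products generate the unit ideal
  let S : Set B := {β | ∃ a ∈ M c, ∃ a' ∈ M c', ψ β = a * a'}
  have hS : Ideal.span S = ⊤ := by
    by_contra hne
    obtain ⟨𝔪, h𝔪, hle⟩ := Ideal.exists_le_maximal _ hne
    haveI := h𝔪
    obtain ⟨P, hP⟩ := GrpSchLib.HopfFlat.surjective_comap ψ hψ ⟨𝔪, h𝔪.isPrime⟩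
    obtain ⟨Q, hQ, hPQ⟩ := Ideal.exists_le_maximal P.asIdeal P.isPrime.ne_top
    haveI := hQ
    letI := Ideal.Quotient.field Q
    haveI : Module.Finite k (A ⧸ Q) := finite_of_finite_type_of_isJacobsonRing k (A ⧸ Q)
    let g : A →ₐ[k] k := ((AlgEquiv.ofBijective (Algebra.ofId k (A ⧸ Q))
      IsAlgClosed.algebraMap_bijective_of_isIntegral).symm : A ⧸ Q →ₐ[k] k).comp (Ideal.Quotient.mkₐ k Q)
    let ginv : A →ₐ[k] k := (toConv g)⁻¹.ofConv
    let Lg := (toConv ((Algebra.ofId k A).comp ginv) * toConv (AlgHom.id k A)).ofConv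
    have hLg : ∀ c, ∀ a ∈ M c, Lg a ∈ M c := fun c a ha => by
      show phi π (Lg a) = Lg a ⊗ₜ[k] c
      rw [phi_translate, show phi π a = _ from ha]
      simp [Lg]
    have hg : ∀ a, g (Lg a) = Coalgebra.counit (R := k) a := fun a => by
      rw [eval_translate]
      show ((toConv g)⁻¹ * toConv g).ofConv a = _
      rw [inv_mul_cancel]
      rfl
    obtain ⟨β, hβ⟩ := hprod _ (hLg c m hm) _ (hLg c' n hn)
    have hβm : β ∈ 𝔪 := hle (Ideal.subset_span ⟨_, hLg c m hm, _, hLg c' n hn, hβ⟩)
    have hβP : ψ β ∈ P.asIdeal := by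
      have := congrArg PrimeSpectrum.asIdeal hP
      simp only [PrimeSpectrum.comap_asIdeal] at this
      rw [← this] at hβm
      exact hβm
    have : g (ψ β) = 0 := by
      show _ = (0 : k)
      rw [AlgHom.comp_apply, Ideal.Quotient.mkₐ_eq_mk, Ideal.Quotient.eq_zero_iff_mem.2 (hPQ hβP), map_zero]
    rw [hβ, map_mul, hg, hg, hm1, hn1, mul_one] at this
    exact one_ne_zero this
  -- an invertible ideal of a factorial ring is principal
  obtain ⟨M0, hM0⟩ := hprod m hm n hn
  have hmn : m ≠ 0 ∧ n ≠ 0 := ⟨fun h => by simp [h] at hm1, fun h => by simp [h] at hn1⟩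
  let J : Ideal B :=
    { carrier := {x | ∃ a ∈ M c, ψ x = n * a}
      add_mem' := fun {x y} ⟨a, ha, hx⟩ ⟨b, hb, hy⟩ => ⟨a + b, add_mem ha hb, by rw [map_add, hx, hy, mul_add]⟩
      zero_mem' := ⟨0, zero_mem _, by rw [map_zero, mul_zero]⟩
      smul_mem' := fun r x ⟨a, ha, hx⟩ => ⟨r • a, Submodule.smul_mem _ r ha, by
        rw [smul_eq_mul, map_mul, hx]; show _ = n * (ψ r * a); ring⟩ }
  let K : Ideal B :=
    { carrier := {x | ∃ a ∈ M c', ψ x = m * a}
      add_mem' := fun {x y} ⟨a, ha, hx⟩ ⟨b, hb, hy⟩ => ⟨a + b, add_mem ha hb, by rw [map_add, hx, hy, mul_add]⟩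
      zero_mem' := ⟨0, zero_mem _, by rw [map_zero, mul_zero]⟩
      smul_mem' := fun r x ⟨a, ha, hx⟩ => ⟨r • a, Submodule.smul_mem _ r ha, by
        rw [smul_eq_mul, map_mul, hx]; show _ = m * (ψ r * a); ring⟩ }
  have hJK : J * K = Ideal.span {M0} := by
    refine le_antisymm (Ideal.mul_le.2 fun x ⟨a, ha, hx⟩ y ⟨b, hb, hy⟩ => ?_) ?_
    · obtain ⟨β, hβ⟩ := hprod a ha b hb
      refine Ideal.mem_span_singleton.2 ⟨β, hψ ?_⟩
      rw [map_mul, map_mul, hx, hy, hβ, hM0]
      ring
    · rw [Ideal.span_singleton_le_iff_mem]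
      suffices h : ∀ x ∈ Ideal.span S, M0 * x ∈ J * K by
        simpa using h 1 (hS ▸ Submodule.mem_top)
      intro x hx
      induction hx using Submodule.span_induction with
      | mem β hβ =>
        obtain ⟨a, ha, a', ha', hβ⟩ := hβ
        obtain ⟨x, hx⟩ := hprod a ha n hn
        obtain ⟨y, hy⟩ := hprod m hm a' ha'
        rw [show M0 * β = x * y from hψ (by rw [map_mul, map_mul, hM0, hβ, hx, hy]; ring)]
        exact Ideal.mul_mem_mul ⟨a, ha, by rw [hx, mul_comm]⟩ ⟨a', ha', hy⟩
      | zero => rw [mul_zero]; exact zero_mem _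
      | add x y _ _ hx hy => rw [mul_add]; exact add_mem hx hy
      | smul r x _ hx => rw [smul_eq_mul, mul_left_comm]; exact Ideal.mul_mem_left _ _ hx
  obtain ⟨γ, hγ⟩ := (IsGCDMonoid.isPrincipal_of_exists_mul_ne_zero_isPrincipal ⟨K, by
      rw [hJK, Submodule.zero_eq_bot, Ne, Ideal.span_singleton_eq_bot]
      exact fun h => mul_ne_zero hmn.1 hmn.2 (by rw [← hM0, h, map_zero]), by rw [hJK]; exact ⟨⟨M0, rfl⟩⟩⟩).principal
  obtain ⟨u, hu, huγ⟩ : γ ∈ J := by rw [hγ]; exact Submodule.mem_span_singleton_self γ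
  have hgen : ∀ a ∈ M c, ∃ z, a = ψ z * u := fun a ha => by
    obtain ⟨x, hx⟩ := hprod a ha n hn
    have hxJ : x ∈ J := ⟨a, ha, by rw [hx, mul_comm]⟩
    rw [hγ] at hxJ
    obtain ⟨z, rfl⟩ := Submodule.mem_span_singleton.1 hxJ
    refine ⟨z, mul_left_cancel₀ hmn.2 ?_⟩
    rw [smul_eq_mul, map_mul, huγ] at hx
    linear_combination -hx
  obtain ⟨u', hu'⟩ : ∃ u', u * u' = 1 := by
    suffices h : ∀ x ∈ Ideal.span S, ∃ w, u * w = ψ x by
      simpa using h 1 (hS ▸ Submodule.mem_top)
    intro x hx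
    induction hx using Submodule.span_induction with
    | mem β hβ =>
      obtain ⟨a, ha, a', -, hβ⟩ := hβ
      obtain ⟨z, rfl⟩ := hgen a ha
      exact ⟨ψ z * a', by rw [hβ]; ring⟩
    | zero => exact ⟨0, by rw [mul_zero, map_zero]⟩
    | add x y _ _ hx hy =>
      obtain ⟨v, hv⟩ := hx
      obtain ⟨w, hw⟩ := hy
      exact ⟨v + w, by rw [mul_add, hv, hw, map_add]⟩
    | smul r x _ hx =>
      obtain ⟨v, hv⟩ := hx
      exact ⟨ψ r * v, by rw [smul_eq_mul, map_mul, ← hv]; ring⟩
  -- units of a connected group are characters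
  let uu : Aˣ := Units.mkOfMulEqOne u u' hu'
  have huu : u ≠ 0 := uu.ne_zero
  haveI : GLin.IsCoactAlg k A A := ⟨Bialgebra.comul_one, fun f g => Bialgebra.comul_mul f g⟩
  obtain ⟨χ, hχ, hcoact⟩ := ComodLib.exists_character (k := k) (A := A) (B := A) huu (fun g => by
    let Rg : A →ₐ[k] A := (toConv (AlgHom.id k A) * toConv ((Algebra.ofId k A).comp g)).ofConv
    have hRg : ∀ x, HopfRep.Comod.act k A A g x = Rg x := fun x => by
      show slice g.toLinearMap (Coalgebra.comul (R := k) x) = _
      rw [GrpSchLib.HopfQuot.convMul_apply]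
      induction Coalgebra.comul (R := k) x using TensorProduct.induction_on with
      | zero => simp
      | tmul p q => simp [Algebra.smul_def, mul_comm]
      | add p q hp hq => simp only [map_add, hp, hq]
    exact ⟨Units.map Rg.toRingHom.toMonoidHom uu * uu⁻¹, by
      rw [hRg, Units.val_mul, mul_assoc, show ((uu⁻¹ : Aˣ) : A) * u = 1 from uu.inv_mul, mul_one]
      rfl⟩)
  have hucomul : Coalgebra.comul (R := k) u = u ⊗ₜ[k] χ := hcoact
  obtain ⟨b, rfl⟩ := hgl χ hχ
  have hpiu : π u = Coalgebra.counit (R := k) u • (1 : C) := by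
    rw [← counit_phi π u, show phi π u = Algebra.TensorProduct.map (AlgHom.id k A) (π : A →ₐ[k] C) (u ⊗ₜ[k] ψ b) from
      congrArg _ hucomul, Algebra.TensorProduct.map_tmul, AlgHom.id_apply, LinearMap.rTensor_tmul,
      TensorProduct.lid_tmul]
    show _ • π (ψ b) = _
    rw [pi_psi hker, ← CoalgHomClass.counit_comp_apply ψ b, hχ.counit_eq_one, map_one]
  have hpiu' : π u = Coalgebra.counit (R := k) u • c := by
    conv_lhs => rw [← counit_phi π u, show phi π u = u ⊗ₜ[k] c from hu]
    rw [LinearMap.rTensor_tmul, TensorProduct.lid_tmul]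
  have hε : Coalgebra.counit (R := k) u ≠ 0 := by
    intro h
    have := congrArg (Bialgebra.counitAlgHom k A) hu'
    rw [map_mul, map_one, show Bialgebra.counitAlgHom k A u = 0 from h, zero_mul] at this
    exact zero_ne_one this
  exact (smul_right_injective C hε (hpiu.symm.trans hpiu')).symm

end Groth.Agent.AlgGrpQ.CharKernel
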