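import Groth.Agent.AlgGrpQ.CharKernel
import Groth.Agent.ComodLib.StableOrbit
import Groth.Agent.SepIdemLib.Basic

/-!
# The kernel of the largest torus quotient is connected
-/

set_option autoImplicit false
set_option backward.isDefEq.respectTransparency false
set_option backward.isDefEq.respectTransparency.types false
set_option maxSynthPendingDepth 5
set_option linter.style.haveILetI false

universe u

noncomputable section

open TensorProduct WithConv

namespace Groth.Agent.AlgGrpQ.CharKernel

open Groth.Agent.ComodLib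

variable {k : Type u} [Field k] [IsAlgClosed k]

/-- A rational point on each maximal ideal. -/
theorem exists_pt_le {R : Type u} [CommRing R] [Algebra k R] [Algebra.FiniteType k R] (Q : Ideal R) [Q.IsMaximal] :
    ∃ g : R →ₐ[k] k, ∀ r ∈ Q, g r = 0 := by
  letI := Ideal.Quotient.field Q
  haveI : Module.Finite k (R ⧸ Q) := finite_of_finite_type_of_isJacobsonRing k (R ⧸ Q)
  refine ⟨((AlgEquiv.ofBijective (Algebra.ofId k (R ⧸ Q))
      IsAlgClosed.algebraMap_bijective_of_isIntegral).symm : R ⧸ Q →ₐ[k] k).comp (Ideal.Quotient.mkₐ k Q), fun r hr => ?_⟩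
  rw [AlgHom.comp_apply, Ideal.Quotient.mkₐ_eq_mk, Ideal.Quotient.eq_zero_iff_mem.2 hr, map_zero]

theorem isNilpotent_of_pts {R : Type u} [CommRing R] [Algebra k R] [Algebra.FiniteType k R] {x : R}
    (h : ∀ g : R →ₐ[k] k, g x = 0) : IsNilpotent x := by
  haveI : IsJacobsonRing R := isJacobsonRing_of_finiteType (A := k) (B := R)
  rw [← mem_nilradical, nilradical, Ideal.radical_eq_jacobson]
  refine Ideal.mem_sInf.2 fun Q hQ => ?_
  haveI : Q.IsMaximal := hQ.2
  obtain ⟨g, hg⟩ := exists_pt_le (k := k) Q
  by_contra hx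
  obtain ⟨y, i, hi, hyi⟩ := Ideal.IsMaximal.exists_inv hQ.2 hx
  have := congrArg g hyi
  rw [map_add, map_mul, h, mul_zero, zero_add, hg i hi, map_one] at this
  exact zero_ne_one this

theorem idem_ext {R : Type u} [CommRing R] [Algebra k R] [Algebra.FiniteType k R] {x y : R} (hx : IsIdempotentElem x)
    (hy : IsIdempotentElem y) (h : ∀ g : R →ₐ[k] k, g x = g y) : x = y :=
  eq_of_isNilpotent_sub_of_isIdempotentElem hx hy (isNilpotent_of_pts (k := k) fun g => by rw [map_sub, h, sub_self])

theorem eq_of_pts {R : Type u} [CommRing R] [IsReduced R] [Algebra k R] [Algebra.FiniteType k R] {x y : R}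
    (h : ∀ g : R →ₐ[k] k, g x = g y) : x = y :=
  sub_eq_zero.1 (isNilpotent_of_pts (k := k) fun g => by rw [map_sub, h, sub_self]).eq_zero

omit [IsAlgClosed k] in
theorem pt_idem {R : Type u} [CommRing R] [Algebra k R] (g : R →ₐ[k] k) {e : R} (he : IsIdempotentElem e) :
    g e = 0 ∨ g e = 1 :=
  IsIdempotentElem.iff_eq_zero_or_one.1 (he.map g)

variable {A B C : Type u} [CommRing A] [CommRing B] [CommRing C]
  [HopfAlgebra k A] [HopfAlgebra k B] [HopfAlgebra k C] [Algebra.FiniteType k A] [Algebra.FiniteType k B]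
  [Algebra.FiniteType k C] {ψ : B →ₐc[k] A} {π : A →ₐc[k] C}

variable (C) in
/-- The span of the idempotents. -/
def idemSpan (k : Type u) [Field k] [HopfAlgebra k C] : Submodule k C :=
  Submodule.span k {e : C | IsIdempotentElem e}

/-- Two points on the same component. -/
def SameComp (h h' : C →ₐ[k] k) : Prop := ∀ e : C, IsIdempotentElem e → h e = h' e

omit [IsAlgClosed k] [Algebra.FiniteType k C] in
theorem sameComp_mem {h h' : C →ₐ[k] k} (hh : SameComp h h') {d : C} (hd : d ∈ idemSpan C k) : h d = h' d := by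
  induction hd using Submodule.span_induction with
  | mem e he => exact hh e he
  | zero => simp
  | add x y _ _ hx hy => simp [hx, hy]
  | smul c x _ hx => simp [hx]

omit [IsAlgClosed k] [Algebra.FiniteType k C] in
theorem sameComp_mul {a a' b b' : C →ₐ[k] k} (ha : SameComp a a') (hb : SameComp b b') :
    SameComp (toConv a * toConv b).ofConv (toConv a' * toConv b').ofConv := by
  intro e he
  let ρ : C →ₐ[k] C := (toConv ((Algebra.ofId k C).comp a) * toConv (AlgHom.id k C)).ofConv
  have h1 : ∀ q : C →ₐ[k] k, q (ρ e) = (toConv a * toConv q).ofConv e := fun q => eval_translate q a e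
  let ρ' : C →ₐ[k] C := (toConv (AlgHom.id k C) * toConv ((Algebra.ofId k C).comp b')).ofConv
  have h2 : ∀ q : C →ₐ[k] k, q (ρ' e) = (toConv q * toConv b').ofConv e := fun q => by
    rw [← AlgHom.comp_apply, AlgHom.comp_convMul_distrib]
    refine congrArg (fun f : WithConv (C →ₐ[k] k) => f.ofConv e) (congrArg₂ (· * ·) ?_ ?_)
    · exact congrArg toConv (AlgHom.ext fun x => by simp)
    · exact congrArg toConv (AlgHom.ext fun x => by simp)
  rw [← h1, hb _ (he.map ρ), h1, ← h2, ha _ (he.map ρ'), h2]

theorem exists_reps : ∃ S : Finset (C →ₐ[k] k), (∀ h, ∃ s ∈ S, SameComp h s) ∧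
    ∀ s ∈ S, ∀ t ∈ S, SameComp s t → s = t := by
  classical
  haveI : IsNoetherianRing C := Algebra.FiniteType.isNoetherianRing k C
  haveI : Finite {e : C // IsIdempotentElem e} := SepIdemLib.finite_idempotents C
  let lab : (C →ₐ[k] k) → ({e : C // IsIdempotentElem e} → Bool) := fun h e => decide (h e.1 = 1)
  have hlab : ∀ h h', lab h = lab h' → SameComp h h' := fun h h' hh e he => by
    have := congrFun hh ⟨e, he⟩
    rcases pt_idem h he with h0 | h0 <;> rcases pt_idem h' he with h1 | h1 <;> simp [lab, h0, h1] at this ⊢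
  let rep : Set.range lab → (C →ₐ[k] k) := fun l => l.2.choose
  have hrep : ∀ l, lab (rep l) = l.1 := fun l => l.2.choose_spec
  haveI : Fintype (Set.range lab) := Fintype.ofFinite _
  refine ⟨Finset.univ.image rep, fun h => ⟨rep ⟨lab h, h, rfl⟩, Finset.mem_image_of_mem _ (Finset.mem_univ _),
    hlab _ _ (hrep ⟨lab h, h, rfl⟩).symm⟩, fun s hs t ht hst => ?_⟩
  obtain ⟨l, -, rfl⟩ := Finset.mem_image.1 hs
  obtain ⟨l', -, rfl⟩ := Finset.mem_image.1 ht
  refine congrArg rep (Subtype.ext ?_)
  rw [← hrep l, ← hrep l']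
  funext e
  simp only [lab, hst e.1 e.2]

/-- The decomposition of the idempotent span by components. -/
theorem exists_decomp : ∃ (S : Finset (C →ₐ[k] k)) (E : (C →ₐ[k] k) → C),
    (∀ h, ∃ s ∈ S, SameComp h s) ∧ (∀ s ∈ S, ∀ t ∈ S, SameComp s t → s = t) ∧
    (∀ s ∈ S, IsIdempotentElem (E s) ∧ ∀ h, (SameComp h s → h (E s) = 1) ∧ (¬ SameComp h s → h (E s) = 0)) ∧
    ∀ d ∈ idemSpan C k, d = ∑ s ∈ S, s d • E s := by
  classical
  haveI : IsNoetherianRing C := Algebra.FiniteType.isNoetherianRing k C
  haveI : Finite {e : C // IsIdempotentElem e} := SepIdemLib.finite_idempotents C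
  haveI : Fintype {e : C // IsIdempotentElem e} := Fintype.ofFinite _
  obtain ⟨S, hS, hS'⟩ := exists_reps (k := k) (C := C)
  let F : (C →ₐ[k] k) → {e : C // IsIdempotentElem e} → C := fun s e => if s e.1 = 1 then e.1 else 1 - e.1
  let E : (C →ₐ[k] k) → C := fun s => ∏ e, F s e
  have hF : ∀ (s h : C →ₐ[k] k) (e : {e : C // IsIdempotentElem e}),
      (h e.1 = s e.1 → h (F s e) = 1) ∧ (h e.1 ≠ s e.1 → h (F s e) = 0) := fun s h e => by
    rcases pt_idem s e.2 with h0 | h0 <;> rcases pt_idem h e.2 with h1 | h1 <;> simp [F, h0, h1]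
  have hE : ∀ s h, (SameComp h s → h (E s) = 1) ∧ (¬ SameComp h s → h (E s) = 0) := by
    intro s h
    refine ⟨fun hs => by rw [map_prod]; exact Finset.prod_eq_one fun e _ => (hF s h e).1 (hs e.1 e.2), fun hs => ?_⟩
    simp only [SameComp, not_forall] at hs
    obtain ⟨e, he, hne⟩ := hs
    rw [map_prod]
    exact Finset.prod_eq_zero (Finset.mem_univ ⟨e, he⟩) ((hF s h ⟨e, he⟩).2 hne)
  have hEi : ∀ s, IsIdempotentElem (E s) := fun s => by
    refine Finset.prod_induction _ IsIdempotentElem (fun a b ha hb => ha.mul hb) IsIdempotentElem.one fun e _ => ?_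
    show IsIdempotentElem (F s e)
    dsimp only [F]
    split_ifs
    exacts [e.2, e.2.one_sub]
  refine ⟨S, E, hS, hS', fun s _ => ⟨hEi s, hE s⟩, fun d hd => ?_⟩
  induction hd using Submodule.span_induction with
  | mem e he =>
    let T := S.filter fun s => s e = 1
    have hsum : ∑ s ∈ S, s e • E s = ∑ s ∈ T, E s := by
      rw [Finset.sum_filter]
      refine Finset.sum_congr rfl fun s _ => ?_
      rcases pt_idem s he with h0 | h0 <;> simp [h0]
    have horth : ∀ s ∈ S, ∀ t ∈ S, s ≠ t → E s * E t = 0 := fun s hs t ht hst =>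
      idem_ext (k := k) ((hEi s).mul (hEi t)) IsIdempotentElem.zero fun h => by
        rw [map_mul, map_zero]
        by_cases hh : SameComp h s
        · rw [(hE t h).2 fun hht => hst (hS' s hs t ht fun e he => (hh e he).symm.trans (hht e he)), mul_zero]
        · rw [(hE s h).2 hh, zero_mul]
    have hTi : IsIdempotentElem (∑ s ∈ T, E s) := by
      show _ * _ = _
      rw [Finset.sum_mul]
      refine Finset.sum_congr rfl fun s hs => ?_
      rw [Finset.mul_sum, Finset.sum_eq_single s]
      · exact hEi s
      · exact fun t ht hts => horth s (Finset.mem_filter.1 hs).1 t (Finset.mem_filter.1 ht).1 (Ne.symm hts)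
      · exact fun h => absurd hs h
    rw [hsum]
    refine idem_ext (k := k) he hTi fun h => ?_
    rw [map_sum]
    obtain ⟨s, hs, hhs⟩ := hS h
    by_cases hse : s e = 1
    · rw [Finset.sum_eq_single s, (hE s h).1 hhs, hhs e he, hse]
      · exact fun t ht hts => (hE t h).2 fun hht =>
          hts (hS' t (Finset.mem_filter.1 ht).1 s hs fun e he => (hht e he).symm.trans (hhs e he))
      · exact fun hsT => absurd (Finset.mem_filter.2 ⟨hs, hse⟩) hsT
    · rw [hhs e he, (pt_idem s he).resolve_right hse, Finset.sum_eq_zero]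
      intro t ht
      refine (hE t h).2 fun hht => hse ?_
      rw [← hhs e he, hht e he]
      exact (Finset.mem_filter.1 ht).2
  | zero => simp
  | add x y _ _ hx hy =>
    simp only [map_add, add_smul, Finset.sum_add_distrib]
    rw [← hx, ← hy]
  | smul c x _ hx =>
    simp only [map_smul, smul_eq_mul, mul_smul, ← Finset.smul_sum]
    rw [← hx]

/-- Elements of `M ⊗ D` are determined by their values at points of `C`. -/
theorem ext_tensor_idem {M : Type u} [AddCommGroup M] [Module k M] {z : M ⊗[k] C}
    (hz : z ∈ LinearMap.range ((idemSpan C k).subtype.lTensor M))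
    (h : ∀ q : C →ₐ[k] k, slice q.toLinearMap z = 0) : z = 0 := by
  obtain ⟨S, E, -, -, -, hdec⟩ := exists_decomp (k := k) (C := C)
  obtain ⟨w, rfl⟩ := hz
  have e : ∀ w : M ⊗[k] idemSpan C k, (idemSpan C k).subtype.lTensor M w =
      ∑ s ∈ S, slice s.toLinearMap ((idemSpan C k).subtype.lTensor M w) ⊗ₜ[k] E s := by
    intro w
    induction w using TensorProduct.induction_on with
    | zero => simp
    | tmul x d =>
      simp only [LinearMap.lTensor_tmul, Submodule.subtype_apply, slice_tmul, AlgHom.toLinearMap_apply]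
      conv_lhs => rw [hdec d d.2, TensorProduct.tmul_sum]
      exact Finset.sum_congr rfl fun s _ => (TensorProduct.smul_tmul _ _ _).symm
    | add p q hp hq =>
      simp only [map_add, TensorProduct.add_tmul, Finset.sum_add_distrib]
      rw [← hp, ← hq]
  rw [e]
  exact Finset.sum_eq_zero fun s _ => by rw [h, TensorProduct.zero_tmul]

theorem comul_idemSpan {d : C} (hd : d ∈ idemSpan C k) :
    Coalgebra.comul (R := k) d ∈ LinearMap.range ((idemSpan C k).subtype.lTensor C) := by
  classical
  induction hd using Submodule.span_induction with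
  | mem e he =>
    obtain ⟨S, E, hS, hS', hE, -⟩ := exists_decomp (k := k) (C := C)
    haveI : Algebra.FiniteType k (C ⊗[k] C) := Algebra.FiniteType.trans (S := C) inferInstance inferInstance
    let T := (S ×ˢ S).filter fun p => (toConv p.1 * toConv p.2).ofConv e = 1
    let w : C ⊗[k] C := ∑ p ∈ T, E p.1 ⊗ₜ[k] E p.2
    have hw : w ∈ LinearMap.range ((idemSpan C k).subtype.lTensor C) := Submodule.sum_mem _ fun p hp =>
      ⟨E p.1 ⊗ₜ[k] ⟨E p.2, Submodule.subset_span (hE _ (Finset.mem_product.1 (Finset.mem_filter.1 hp).1).2).1⟩, rfl⟩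
    suffices h : Coalgebra.comul (R := k) e = w by rw [h]; exact hw
    have hwi : IsIdempotentElem w := by
      show _ * _ = _
      rw [Finset.sum_mul]
      refine Finset.sum_congr rfl fun p hp => ?_
      have hp' := Finset.mem_product.1 (Finset.mem_filter.1 hp).1
      rw [Finset.mul_sum, Finset.sum_eq_single p]
      · rw [Algebra.TensorProduct.tmul_mul_tmul, (hE _ hp'.1).1, (hE _ hp'.2).1]
      · intro q hq hqp
        have hq' := Finset.mem_product.1 (Finset.mem_filter.1 hq).1
        have horth : ∀ s ∈ S, ∀ t ∈ S, s ≠ t → E s * E t = 0 := fun s hs t ht hst =>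
          idem_ext (k := k) ((hE s hs).1.mul (hE t ht).1) IsIdempotentElem.zero fun h => by
            rw [map_mul, map_zero]
            by_cases hh : SameComp h s
            · rw [((hE t ht).2 h).2 fun hht => hst (hS' s hs t ht fun e he => (hh e he).symm.trans (hht e he)), mul_zero]
            · rw [((hE s hs).2 h).2 hh, zero_mul]
        rw [Algebra.TensorProduct.tmul_mul_tmul]
        by_cases h1 : p.1 = q.1
        · rw [horth _ hp'.2 _ hq'.2 fun h2 => hqp (Prod.ext h1.symm h2.symm), TensorProduct.tmul_zero]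
        · rw [horth _ hp'.1 _ hq'.1 h1, TensorProduct.zero_tmul]
      · exact fun h => absurd hp h
    refine idem_ext (k := k) (he.map (Bialgebra.comulAlgHom k C)) hwi fun G => ?_
    let a := G.comp (Algebra.TensorProduct.includeLeft : C →ₐ[k] C ⊗[k] C)
    let b := G.comp (Algebra.TensorProduct.includeRight : C →ₐ[k] C ⊗[k] C)
    have hG : ∀ z : C ⊗[k] C, G z = Algebra.TensorProduct.lift a b (fun _ _ => Commute.all _ _) z := fun z => by
      induction z using TensorProduct.induction_on with
      | zero => simp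
      | tmul x y => simp [a, b, ← map_mul]
      | add x y hx hy => simp only [map_add, hx, hy]
    obtain ⟨s, hs, has⟩ := hS a
    obtain ⟨t, ht, hbt⟩ := hS b
    have hval : G (Coalgebra.comul (R := k) e) = (toConv s * toConv t).ofConv e := by
      rw [← sameComp_mul has hbt e he, GrpSchLib.HopfQuot.convMul_apply, hG]
      induction Coalgebra.comul (R := k) e using TensorProduct.induction_on with
      | zero => simp
      | tmul x y => simp
      | add x y hx hy => simp only [map_add, hx, hy]
    show G (Coalgebra.comul (R := k) e) = G w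
    rw [hval, map_sum]
    have hterm : ∀ p : (C →ₐ[k] k) × (C →ₐ[k] k), p.1 ∈ S → p.2 ∈ S →
        G (E p.1 ⊗ₜ[k] E p.2) = if p = (s, t) then 1 else 0 := fun p h1 h2 => by
      rw [hG, Algebra.TensorProduct.lift_tmul]
      split_ifs with h
      · subst h
        rw [((hE s hs).2 a).1 has, ((hE t ht).2 b).1 hbt, mul_one]
      · by_cases h' : p.1 = s
        · rw [((hE _ h2).2 b).2 fun hh => h (Prod.ext h' (hS' _ h2 _ ht fun e he => (hh e he).symm.trans (hbt e he))),
            mul_zero]
        · rw [((hE _ h1).2 a).2 fun hh => h' (hS' _ h1 _ hs fun e he => (hh e he).symm.trans (has e he)), zero_mul]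
    rw [Finset.sum_congr rfl fun p hp => hterm p (Finset.mem_product.1 (Finset.mem_filter.1 hp).1).1
      (Finset.mem_product.1 (Finset.mem_filter.1 hp).1).2, Finset.sum_ite_eq']
    rcases pt_idem (toConv s * toConv t).ofConv he with h0 | h0
    · rw [h0, if_neg]
      intro h
      have := (Finset.mem_filter.1 h).2
      rw [h0] at this
      exact zero_ne_one this
    · rw [h0, if_pos (Finset.mem_filter.2 ⟨Finset.mem_product.2 ⟨hs, ht⟩, h0⟩)]
  | zero => simp
  | add x y _ _ hx hy => rw [map_add]; exact add_mem hx hy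
  | smul c x _ hx => rw [map_smul]; exact Submodule.smul_mem _ c hx

end Groth.Agent.AlgGrpQ.CharKernel
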