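import Groth.Agent.AlgGrpQ.CharKernelConn

/-!
# Idempotents of the kernel of the largest torus quotient are trivial

The functions on the group whose restriction along the kernel is locally constant form a finite extension
of the functions on the torus which is stable under translations; the `n`-th power map identifies it with
functions on the torus, so it is spanned by characters, hence equal to the functions on the torus.
-/

set_option autoImplicit false
set_option backward.isDefEq.respectTransparency false
set_option backward.isDefEq.respectTransparency.types false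
set_option maxSynthPendingDepth 5
set_option linter.style.haveILetI false
set_option linter.unusedSectionVars false

universe u

noncomputable section

open TensorProduct WithConv

namespace Groth.Agent.AlgGrpQ.CharKernel

open Groth.Agent.ComodLib

variable {k : Type u} [Field k] [IsAlgClosed k] {A B C : Type u} [CommRing A] [CommRing B] [CommRing C]
  [HopfAlgebra k A] [HopfAlgebra k B] [HopfAlgebra k C] [Algebra.FiniteType k A] [Algebra.FiniteType k B]
  [Algebra.FiniteType k C]

/-- Restricting a rational point along a morphism of Hopf algebras. -/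
def ptMap (f : B →ₐc[k] A) : WithConv (A →ₐ[k] k) →* WithConv (B →ₐ[k] k) where
  toFun x := toConv (x.ofConv.comp (f : B →ₐ[k] A))
  map_one' := by
    refine WithConv.ext (AlgHom.ext fun b => ?_)
    show algebraMap k k (Coalgebra.counit (R := k) (f b)) = algebraMap k k (Coalgebra.counit (R := k) b)
    rw [CoalgHomClass.counit_comp_apply f b]
  map_mul' x y := congrArg toConv (AlgHom.convMul_comp_bialgHom_distrib x y f)

theorem ptMap_apply (f : B →ₐc[k] A) (x : WithConv (A →ₐ[k] k)) (b : B) : (ptMap f x).ofConv b = x.ofConv (f b) :=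
  rfl

theorem convMul_pt (x y : WithConv (A →ₐ[k] k)) (a : A) :
    x.ofConv (slice y.ofConv.toLinearMap (Coalgebra.comul (R := k) a)) = (x * y).ofConv a := by
  rw [show x * y = toConv x.ofConv * toConv y.ofConv from rfl, GrpSchLib.HopfQuot.convMul_apply]
  induction Coalgebra.comul (R := k) a using TensorProduct.induction_on with
  | zero => simp
  | tmul p q => simp [mul_comm]
  | add p q hp hq => simp only [map_add, hp, hq]

variable (k) in
/-- The `n`-th power map. -/
def powHom (n : ℕ) : A →ₐ[k] A := ((toConv (AlgHom.id k A)) ^ n).ofConv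

theorem powHom_succ (n : ℕ) :
    powHom k (A := A) (n + 1) = (toConv (powHom k n) * toConv (AlgHom.id k A)).ofConv := by
  unfold powHom
  rw [pow_succ, toConv_ofConv]

theorem pt_powHom (x : WithConv (A →ₐ[k] k)) (n : ℕ) : toConv (x.ofConv.comp (powHom k n)) = x ^ n := by
  induction n with
  | zero =>
    refine WithConv.ext (AlgHom.ext fun a => ?_)
    show x.ofConv (algebraMap k A (Coalgebra.counit (R := k) a)) = algebraMap k k (Coalgebra.counit (R := k) a)
    rw [AlgHom.commutes]
  | succ n ih =>
    rw [pow_succ x, powHom_succ, AlgHom.comp_convMul_distrib, toConv_ofConv,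
      ofConv_toConv, ofConv_toConv, AlgHom.comp_id, ih, toConv_ofConv]

theorem pt_powHom' (x : WithConv (A →ₐ[k] k)) (n : ℕ) (a : A) : x.ofConv (powHom k n a) = (x ^ n).ofConv a := by
  rw [← pt_powHom]
  rfl

theorem powHom_map [IsReduced A] (f : B →ₐc[k] A) (n : ℕ) (b : B) : powHom k n (f b) = f (powHom k n b) := by
  refine eq_of_pts (k := k) fun g => ?_
  have h1 := pt_powHom' (toConv g) n (f b)
  have h2 := pt_powHom' (ptMap f (toConv g)) n b
  rw [← map_pow, ptMap_apply, ptMap_apply] at h2
  exact h1.trans h2.symm

/-- Elements of `A ⊗ A` are determined by their slices at points. -/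
theorem ext_tensor_pts [IsReduced A] {z w : A ⊗[k] A}
    (h : ∀ x : WithConv (A →ₐ[k] k), slice x.ofConv.toLinearMap z = slice x.ofConv.toLinearMap w) : z = w := by
  classical
  suffices H : ∀ z : A ⊗[k] A, (∀ x : A →ₐ[k] k, slice x.toLinearMap z = 0) → z = 0 from
    sub_eq_zero.1 (H _ fun x => by rw [map_sub, h (toConv x), sub_self])
  intro z hz
  let b := Module.Free.chooseBasis k A
  have hcoord : ∀ i, TensorProduct.lid k A ((b.coord i).rTensor A z) = 0 := fun i => by
    refine eq_of_pts (k := k) fun g => ?_
    rw [map_zero]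
    have e : ∀ w : A ⊗[k] A, g (TensorProduct.lid k A ((b.coord i).rTensor A w)) = b.coord i (slice g.toLinearMap w) :=
      fun w => by
        induction w using TensorProduct.induction_on with
        | zero => simp
        | tmul p q => simp [mul_comm]
        | add p q hp hq => simp only [map_add, hp, hq]
    rw [e, hz, map_zero]
  have e2 : TensorProduct.equivFinsuppOfBasisLeft (M := A) (N := A) b z = 0 := by
    refine Finsupp.ext fun i => ?_
    rw [Finsupp.coe_zero, Pi.zero_apply]
    refine Eq.trans ?_ (hcoord i)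
    clear hz hcoord
    induction z using TensorProduct.induction_on with
    | zero => simp
    | tmul p q => simp
    | add p q hp hq => simp only [map_add, Finsupp.coe_add, Pi.add_apply, hp, hq]
  exact (LinearEquiv.map_eq_zero_iff _).1 e2

variable {ψ : B →ₐc[k] A} {π : A →ₐc[k] C} (hπ : Function.Surjective π)
  (hker : RingHom.ker (π : A →ₐ[k] C) = Ideal.map (ψ : B →+* A) (RingHom.ker (Bialgebra.counitAlgHom k B)))

include hker in
theorem pt_psi (h : WithConv (C →ₐ[k] k)) (b : B) : (ptMap π h).ofConv (ψ b) = Coalgebra.counit (R := k) b := by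
  rw [ptMap_apply, pi_psi hker, AlgHom.commutes]
  rfl

include hπ hker in
theorem exists_kpt (x : WithConv (A →ₐ[k] k)) (hx : ∀ b, x.ofConv (ψ b) = Coalgebra.counit (R := k) b) :
    ∃ h, ptMap π h = x := by
  have hle : RingHom.ker (π : A →ₐ[k] C) ≤ RingHom.ker x.ofConv.toRingHom := by
    rw [hker]
    refine Ideal.map_le_iff_le_comap.2 fun b hb => ?_
    show x.ofConv (ψ b) = 0
    rw [hx]
    exact hb
  exact ⟨toConv (AlgHom.liftOfSurjective (π : A →ₐ[k] C) hπ x.ofConv hle),
    WithConv.ext (AlgHom.ext fun a => AlgHom.liftOfSurjective_apply (π : A →ₐ[k] C) hπ x.ofConv hle a)⟩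

theorem pts_comm (hspan : Submodule.span k {t : B | IsGroupLikeElem k t} = ⊤) (p q : WithConv (B →ₐ[k] k)) :
    p * q = q * p := by
  refine WithConv.ext (AlgHom.ext fun b => ?_)
  have hb : b ∈ Submodule.span k {t : B | IsGroupLikeElem k t} := hspan ▸ Submodule.mem_top
  induction hb using Submodule.span_induction with
  | mem t ht =>
    rw [show p * q = toConv p.ofConv * toConv q.ofConv from rfl, show q * p = toConv q.ofConv * toConv p.ofConv from rfl,
      GrpSchLib.HopfQuot.convMul_apply, GrpSchLib.HopfQuot.convMul_apply, ht.comul_eq_tmul_self]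
    simp [mul_comm]
  | zero => simp
  | add x y _ _ hx hy => simp only [map_add, hx, hy]
  | smul c x _ hx => simp only [map_smul, hx]

theorem pt_phi (x : WithConv (A →ₐ[k] k)) (h : WithConv (C →ₐ[k] k)) (a : A) :
    x.ofConv (slice h.ofConv.toLinearMap (phi π a)) = (x * ptMap π h).ofConv a := by
  rw [← convMul_pt]
  congr 1
  show slice _ (Algebra.TensorProduct.map (AlgHom.id k A) (π : A →ₐ[k] C) (Coalgebra.comul (R := k) a)) = _
  induction Coalgebra.comul (R := k) a using TensorProduct.induction_on with
  | zero => simp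
  | tmul p q => simp [ptMap]
  | add p q hp hq => simp only [map_add, hp, hq]

/-- Values on the preimage of locally constant functions depend on the component only. -/
theorem lift_congr {a : A} (ha : a ∈ liftSpace π (idemSpan C k)) (x : WithConv (A →ₐ[k] k))
    {h h' : WithConv (C →ₐ[k] k)} (hh : SameComp h.ofConv h'.ofConv) :
    (x * ptMap π h).ofConv a = (x * ptMap π h').ofConv a := by
  rw [← pt_phi, ← pt_phi]
  refine congrArg x.ofConv ?_
  obtain ⟨w, hw⟩ := ha
  rw [show phi π a = _ from hw.symm]
  clear hw
  induction w using TensorProduct.induction_on with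
  | zero => simp
  | tmul p d => simp [sameComp_mem hh d.2]
  | add p q hp hq => simp only [map_add, hp, hq]

theorem idemSpan_mul {d d' : C} (hd : d ∈ idemSpan C k) (hd' : d' ∈ idemSpan C k) : d * d' ∈ idemSpan C k := by
  induction hd, hd' using Submodule.span_induction₂ with
  | mem_mem x y hx hy => exact Submodule.subset_span (hx.mul hy)
  | zero_left y _ => rw [zero_mul]; exact zero_mem _
  | zero_right x _ => rw [mul_zero]; exact zero_mem _
  | add_left x y z _ _ _ h1 h2 => rw [add_mul]; exact add_mem h1 h2
  | add_right x y z _ _ _ h1 h2 => rw [mul_add]; exact add_mem h1 h2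
  | smul_left r x y _ _ h => rw [smul_mul_assoc]; exact Submodule.smul_mem _ r h
  | smul_right r x y _ _ h => rw [mul_smul_comm]; exact Submodule.smul_mem _ r h

variable (k π) in
/-- The functions which are locally constant along the kernel. -/
def liftAlg : Subalgebra k A :=
  (liftSpace π (idemSpan C k)).toSubalgebra
    ⟨(1 : A) ⊗ₜ[k] ⟨1, Submodule.subset_span IsIdempotentElem.one⟩, by
      show _ = phi π 1
      rw [map_one]; rfl⟩
    fun x y hx hy => by
      obtain ⟨z, hz⟩ := hx
      obtain ⟨w, hw⟩ := hy
      show phi π (x * y) ∈ LinearMap.range _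
      rw [map_mul, show phi π x = _ from hz.symm, show phi π y = _ from hw.symm]
      clear hz hw
      induction z using TensorProduct.induction_on with
      | zero => simp
      | tmul p d =>
        induction w using TensorProduct.induction_on with
        | zero => simp
        | tmul q d' => exact ⟨(p * q) ⊗ₜ[k] ⟨d.1 * d'.1, idemSpan_mul d.2 d'.2⟩, by simp⟩
        | add q q' h h' => rw [map_add, mul_add]; exact add_mem h h'
      | add p p' h h' => rw [map_add, add_mul]; exact add_mem h h'

theorem mem_liftAlg {a : A} : a ∈ liftAlg k π ↔ a ∈ liftSpace π (idemSpan C k) := Iff.rfl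

include hker in
theorem psi_mem (b : B) : ψ b ∈ liftAlg k π :=
  ⟨ψ b ⊗ₜ[k] ⟨1, Submodule.subset_span IsIdempotentElem.one⟩, (phi_psi hker b).symm⟩

/-- Left translation. -/
def transl (g : WithConv (A →ₐ[k] k)) : A →ₐ[k] A :=
  (toConv ((Algebra.ofId k A).comp g.ofConv) * toConv (AlgHom.id k A)).ofConv

theorem pt_transl (g x : WithConv (A →ₐ[k] k)) (a : A) : x.ofConv (transl g a) = (g * x).ofConv a :=
  eval_translate x.ofConv g.ofConv a

theorem transl_mem (g : WithConv (A →ₐ[k] k)) {a : A} (ha : a ∈ liftAlg k π) : transl g a ∈ liftAlg k π := by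
  obtain ⟨z, hz⟩ := ha
  show phi π (transl g a) ∈ LinearMap.range _
  rw [transl, phi_translate, show phi π a = _ from hz.symm]
  clear hz
  induction z using TensorProduct.induction_on with
  | zero => simp
  | tmul p d => exact ⟨transl g p ⊗ₜ[k] d, by simp [transl]⟩
  | add p q hp hq => rw [map_add, map_add]; exact add_mem hp hq

variable [IsDomain A] (hspan : Submodule.span k {t : B | IsGroupLikeElem k t} = ⊤)

include hπ hker hspan in
/-- Functions in the lift are central functions. -/
theorem lift_comm {a : A} (ha : a ∈ liftAlg k π) (x y : WithConv (A →ₐ[k] k)) :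
    (x * y).ofConv a = (y * x).ofConv a := by
  have hc : ∀ u : WithConv (A →ₐ[k] k), ∃ h, ptMap π h = u⁻¹ * y⁻¹ * u * y := fun u => by
    refine exists_kpt hπ hker _ fun b => ?_
    rw [← ptMap_apply ψ, map_mul, map_mul, map_mul, pts_comm hspan (ptMap ψ u⁻¹) (ptMap ψ y⁻¹),
      mul_assoc (ptMap ψ y⁻¹), ← map_mul, inv_mul_cancel, map_one, mul_one, ← map_mul, inv_mul_cancel, map_one]
    rfl
  obtain ⟨h, hh⟩ := hc x
  have hsame : SameComp h.ofConv (1 : WithConv (C →ₐ[k] k)).ofConv := fun e he => by
    obtain ⟨e', rfl⟩ := hπ e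
    let c : WithConv (A →ₐ[k] k) → A →ₐ[k] A := fun z => (Algebra.ofId k A).comp z.ofConv
    let Φ : A →ₐ[k] A := (toConv (HopfAlgebra.antipodeAlgHom k A) * toConv (c y⁻¹) * toConv (AlgHom.id k A) *
      toConv (c y)).ofConv
    have hΦ : ∀ u : WithConv (A →ₐ[k] k), u.ofConv (Φ e') = (u⁻¹ * y⁻¹ * u * y).ofConv e' := fun u => by
      rw [← AlgHom.comp_apply]
      simp only [Φ, AlgHom.comp_convMul_distrib, toConv_ofConv]
      refine congrArg (fun f : WithConv (A →ₐ[k] k) => f.ofConv e')
        (congrArg₂ (· * ·) (congrArg₂ (· * ·) (congrArg₂ (· * ·) rfl ?_) ?_) ?_)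
      · exact congrArg toConv (AlgHom.ext fun z => u.ofConv.commutes _)
      · exact congrArg toConv (AlgHom.ext fun z => rfl)
      · exact congrArg toConv (AlgHom.ext fun z => u.ofConv.commutes _)
    have hidem : ∀ u : WithConv (A →ₐ[k] k), u.ofConv (Φ e') = 0 ∨ u.ofConv (Φ e') = 1 := fun u => by
      obtain ⟨g, hg⟩ := hc u
      rw [hΦ, ← hg, ptMap_apply]
      exact pt_idem g.ofConv he
    have hIdem : IsIdempotentElem (Φ e') := eq_of_pts (k := k) fun g => by
      rcases hidem (toConv g) with h0 | h0 <;> rw [map_mul] <;> change g (Φ e') = _ at h0 <;> simp [h0]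
    have hconst : x.ofConv (Φ e') = (1 : WithConv (A →ₐ[k] k)).ofConv (Φ e') := by
      rcases IsIdempotentElem.iff_eq_zero_or_one.1 hIdem with h0 | h0 <;> simp [h0]
    rw [hΦ, hΦ, inv_one, one_mul, mul_one, inv_mul_cancel, ← hh, ptMap_apply, ← map_one (ptMap π), ptMap_apply]
      at hconst
    exact hconst
  have e1 : x * y = y * x * ptMap π h := by rw [hh]; group
  rw [e1, lift_congr ha _ hsame, map_one, mul_one]

include hπ hker hspan in
theorem lift_comm₃ {a : A} (ha : a ∈ liftAlg k π) (u x y : WithConv (A →ₐ[k] k)) :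
    (u * (x * y)).ofConv a = (u * (y * x)).ofConv a := by
  rw [← pt_transl u (x * y), ← pt_transl u (y * x)]
  exact lift_comm hπ hker hspan (transl_mem u ha) x y

variable (k π) in
/-- Points agreeing on the lift. -/
def ptCon (h : ∀ a ∈ liftAlg k π, ∀ x y : WithConv (A →ₐ[k] k), (x * y).ofConv a = (y * x).ofConv a) :
    Con (WithConv (A →ₐ[k] k)) where
  r x y := ∀ a ∈ liftAlg k π, x.ofConv a = y.ofConv a
  iseqv := ⟨fun _ _ _ => rfl, fun h a ha => (h a ha).symm, fun h h' a ha => (h a ha).trans (h' a ha)⟩
  mul' {w x y z} h1 h2 a ha := by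
    rw [← pt_transl, h2 _ (transl_mem w ha), pt_transl, h a ha, ← pt_transl, h1 _ (transl_mem z ha), pt_transl,
      h a ha]

include hπ hker hspan in
theorem lift_pow {a : A} (ha : a ∈ liftAlg k π) (x y : WithConv (A →ₐ[k] k)) (n : ℕ) :
    ((x * y) ^ n).ofConv a = (x ^ n * y ^ n).ofConv a := by
  let c := ptCon k π fun a ha => lift_comm hπ hker hspan ha
  have hcomm : Commute (c.mk' x) (c.mk' y) :=
    ((map_mul _ _ _).symm.trans ((Con.eq c).2 fun a ha => lift_comm hπ hker hspan ha x y)).trans (map_mul _ _ _)
  have := hcomm.mul_pow n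
  rw [← map_mul, ← map_pow, ← map_pow, ← map_pow, ← map_mul] at this
  exact (Con.eq c).1 this a ha

include hπ hker hspan in
theorem exists_comul_lift {a : A} (ha : a ∈ liftAlg k π) :
    ∃ w, TensorProduct.map (Subalgebra.toSubmodule (liftAlg k π)).subtype
      (Subalgebra.toSubmodule (liftAlg k π)).subtype w = Coalgebra.comul (R := k) a := by
  let M := Subalgebra.toSubmodule (liftAlg k π)
  obtain ⟨P, hP⟩ := M.subtype.exists_leftInverse_of_injective M.ker_subtype
  let f := M.subtype ∘ₗ P
  have hPm : ∀ z ∈ M, f z = z := fun z hz => congrArg Subtype.val (LinearMap.congr_fun hP ⟨z, hz⟩)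
  have hslice : ∀ y : WithConv (A →ₐ[k] k), slice y.ofConv.toLinearMap (Coalgebra.comul (R := k) a) ∈ M := fun y => by
    have : slice y.ofConv.toLinearMap (Coalgebra.comul (R := k) a) = transl y a := eq_of_pts (k := k) fun g => by
      have h1 := convMul_pt (toConv g) y a
      rw [lift_comm hπ hker hspan ha, ← pt_transl] at h1
      exact h1
    rw [this]
    exact transl_mem y ha
  have h1 : f.rTensor A (Coalgebra.comul (R := k) a) = Coalgebra.comul (R := k) a := ext_tensor_pts fun y => by
    rw [slice_rTensor, hPm _ (hslice y)]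
  have hcc : TensorProduct.comm k A A (Coalgebra.comul (R := k) a) = Coalgebra.comul (R := k) a :=
    ext_tensor_pts fun y => eq_of_pts (k := k) fun g => by
      have e : ∀ z : A ⊗[k] A, g (slice y.ofConv.toLinearMap (TensorProduct.comm k A A z)) =
          y.ofConv (slice g.toLinearMap z) := fun z => by
        induction z using TensorProduct.induction_on with
        | zero => simp
        | tmul p q => simp [mul_comm]
        | add p q hp hq => simp only [map_add, hp, hq]
      have h1 := convMul_pt y (toConv g) a
      have h2 := convMul_pt (toConv g) y a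
      rw [lift_comm hπ hker hspan ha] at h2
      rw [e]
      exact h1.trans h2.symm
  have h2 : f.lTensor A (Coalgebra.comul (R := k) a) = Coalgebra.comul (R := k) a := by
    have e : ∀ z : A ⊗[k] A, f.lTensor A (TensorProduct.comm k A A z) = TensorProduct.comm k A A (f.rTensor A z) :=
      fun z => by
        induction z using TensorProduct.induction_on with
        | zero => simp
        | tmul p q => simp
        | add p q hp hq => simp only [map_add, hp, hq]
    have := e (Coalgebra.comul (R := k) a)
    rw [h1, hcc] at this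
    exact this
  refine ⟨TensorProduct.map P P (Coalgebra.comul (R := k) a), ?_⟩
  have e : ∀ z : A ⊗[k] A, TensorProduct.map M.subtype M.subtype (TensorProduct.map P P z) =
      f.lTensor A (f.rTensor A z) := fun z => by
    induction z using TensorProduct.induction_on with
    | zero => simp
    | tmul p q => simp [f]
    | add p q hp hq => simp only [map_add, hp, hq]
  exact (e _).trans (by rw [h1, h2])

include hπ hker hspan in
theorem powHom_mem (n : ℕ) : ∀ a ∈ liftAlg k π, powHom k n a ∈ liftAlg k π := by
  induction n with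
  | zero => exact fun a _ => Subalgebra.algebraMap_mem _ _
  | succ n ih =>
    intro a ha
    obtain ⟨w, hw⟩ := exists_comul_lift hπ hker hspan ha
    have e : powHom k (n + 1) a = Algebra.TensorProduct.lift (powHom k n) (AlgHom.id k A) (fun _ _ => Commute.all _ _)
        (Coalgebra.comul (R := k) a) := by
      rw [powHom_succ, GrpSchLib.HopfQuot.convMul_apply]
      induction Coalgebra.comul (R := k) a using TensorProduct.induction_on with
      | zero => simp
      | tmul p q => simp
      | add p q hp hq => simp only [map_add, hp, hq]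
    rw [e, ← hw]
    clear hw
    induction w using TensorProduct.induction_on with
    | zero => simp
    | tmul p q =>
      simp only [TensorProduct.map_tmul, Submodule.subtype_apply, Algebra.TensorProduct.lift_tmul, AlgHom.id_apply]
      exact mul_mem (ih _ p.2) q.2
    | add p q hp hq => simp only [map_add]; exact add_mem hp hq

variable (hψ : Function.Injective ψ)

include hπ hker hψ hspan in
theorem exists_powHom_eq : ∃ n : ℕ, 0 < n ∧ ∀ a ∈ liftAlg k π, ∃ b, ψ b = powHom k n a := by
  let N : Subgroup (WithConv (C →ₐ[k] k)) :=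
    { carrier := {h | SameComp h.ofConv (1 : WithConv (C →ₐ[k] k)).ofConv}
      one_mem' := fun e _ => rfl
      mul_mem' := fun {g h} hg hh => by
        have := sameComp_mul hg hh
        rw [toConv_ofConv, toConv_ofConv, one_mul] at this
        exact this
      inv_mem' := fun {g} hg => by
        have := sameComp_mul (fun e _ => rfl : SameComp (g⁻¹).ofConv (g⁻¹).ofConv) hg
        rw [toConv_ofConv, toConv_ofConv, toConv_ofConv, inv_mul_cancel, mul_one] at this
        exact fun e he => (this e he).symm }
  haveI : N.Normal := ⟨fun g hg u => by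
    have := sameComp_mul (sameComp_mul (fun e _ => rfl : SameComp u.ofConv u.ofConv) hg)
      (fun e _ => rfl : SameComp (u⁻¹).ofConv (u⁻¹).ofConv)
    simp only [toConv_ofConv, mul_one, mul_inv_cancel] at this
    exact this⟩
  obtain ⟨S, hS, -⟩ := exists_reps (k := k) (C := C)
  haveI : Finite (WithConv (C →ₐ[k] k) ⧸ N) := by
    refine Finite.of_surjective (fun s : S => (QuotientGroup.mk (toConv s.1) : WithConv (C →ₐ[k] k) ⧸ N)) fun q => ?_
    obtain ⟨g, rfl⟩ := QuotientGroup.mk_surjective q
    obtain ⟨s, hs, hgs⟩ := hS g.ofConv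
    refine ⟨⟨s, hs⟩, QuotientGroup.eq.2 ?_⟩
    have := sameComp_mul (fun e _ => rfl : SameComp ((toConv s)⁻¹).ofConv ((toConv s)⁻¹).ofConv) hgs
    simp only [toConv_ofConv, inv_mul_cancel] at this
    exact this
  refine ⟨Nat.card (WithConv (C →ₐ[k] k) ⧸ N), Nat.card_pos, fun a ha => exists_eq_psi hπ hker hψ ?_⟩
  generalize hn : Nat.card (WithConv (C →ₐ[k] k) ⧸ N) = n
  have hmem : powHom k n a ∈ liftAlg k π := powHom_mem hπ hker hspan n a ha
  refine sub_eq_zero.1 (ext_tensor_idem (k := k) (sub_mem hmem
    ⟨powHom k n a ⊗ₜ[k] ⟨1, Submodule.subset_span IsIdempotentElem.one⟩, rfl⟩) fun q => ?_)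
  rw [map_sub, sub_eq_zero, slice_tmul, AlgHom.toLinearMap_apply, map_one, one_smul]
  refine eq_of_pts (k := k) fun g => ?_
  have hq : toConv q ^ n ∈ N := by
    rw [← hn, ← QuotientGroup.eq_one_iff, QuotientGroup.mk_pow, pow_card_eq_one']
  refine (pt_phi (π := π) (toConv g) (toConv q) (powHom k n a)).trans ?_
  rw [pt_powHom', lift_pow hπ hker hspan ha, ← map_pow, lift_congr ha _ hq, map_one, mul_one, ← pt_powHom']

include hπ hker hψ hspan in
theorem powHom_inj (n : ℕ) (hpow : Function.Injective (powHom k n : B →ₐ[k] B)) :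
    ∀ a ∈ liftAlg k π, powHom k n a = 0 → a = 0 := by
  classical
  intro a ha h0
  obtain ⟨S, E, hS, hS', -, -⟩ := exists_decomp (k := k) (C := C)
  let p : (C →ₐ[k] k) → WithConv (A →ₐ[k] k) := fun s => ptMap π (toConv s)
  let Na := ∏ s : S, transl (p s.1) a
  have hNa : Na ∈ liftAlg k π := Subalgebra.prod_mem _ fun s _ => transl_mem _ ha
  obtain ⟨β, hβ⟩ : ∃ β, ψ β = Na := by
    refine exists_eq_psi hπ hker hψ (sub_eq_zero.1 (ext_tensor_idem (k := k) (sub_mem hNa
      ⟨Na ⊗ₜ[k] ⟨1, Submodule.subset_span IsIdempotentElem.one⟩, rfl⟩) fun q => ?_))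
    rw [map_sub, sub_eq_zero, slice_tmul, AlgHom.toLinearMap_apply, map_one, one_smul]
    refine eq_of_pts (k := k) fun g => ?_
    refine (pt_phi (π := π) (toConv g) (toConv q) Na).trans ?_
    let σ : S → S := fun s => ⟨(hS (toConv q * toConv s.1).ofConv).choose,
      (hS (toConv q * toConv s.1).ofConv).choose_spec.1⟩
    have hσ : ∀ s : S, SameComp (toConv q * toConv s.1).ofConv (σ s).1 := fun s =>
      (hS (toConv q * toConv s.1).ofConv).choose_spec.2
    have hbij : Function.Bijective σ := Finite.injective_iff_bijective.1 fun s t hst => by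
      have h1 : SameComp (toConv q * toConv s.1).ofConv (toConv q * toConv t.1).ofConv := fun e he => by
        rw [hσ s e he, hst, hσ t e he]
      have := sameComp_mul (fun e _ => rfl : SameComp ((toConv q)⁻¹).ofConv ((toConv q)⁻¹).ofConv) h1
      simp only [toConv_ofConv, ← mul_assoc, inv_mul_cancel, one_mul] at this
      exact Subtype.ext (hS' _ s.2 _ t.2 this)
    show (toConv g * ptMap π (toConv q)).ofConv (∏ s : S, transl (p s.1) a) = g (∏ s : S, transl (p s.1) a)
    rw [map_prod, map_prod, ← hbij.prod_comp fun s : S => g (transl (p s.1) a)]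
    refine Finset.prod_congr rfl fun s _ => ?_
    show _ = (toConv g).ofConv (transl _ a)
    rw [pt_transl, pt_transl, lift_comm hπ hker hspan ha (p (σ s).1), lift_comm hπ hker hspan ha (p s.1), mul_assoc,
      ← map_mul]
    exact lift_congr ha _ (hσ s)
  have h00 : powHom k n Na = 0 := by
    show powHom k n (∏ s : S, transl (p s.1) a) = 0
    rw [map_prod]
    obtain ⟨s, hs, hs1⟩ := hS (1 : WithConv (C →ₐ[k] k)).ofConv
    refine Finset.prod_eq_zero (Finset.mem_univ ⟨s, hs⟩) ?_
    have : transl (p s) a = a := eq_of_pts (k := k) fun g => by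
      show (toConv g).ofConv _ = (toConv g).ofConv a
      rw [pt_transl, lift_comm hπ hker hspan ha, lift_congr ha _ (fun e he => (hs1 e he).symm :
        SameComp (toConv s).ofConv (1 : WithConv (C →ₐ[k] k)).ofConv), map_one, mul_one]
    rw [this, h0]
  have hβ0 : β = 0 := by
    refine hpow (hψ ?_)
    rw [← powHom_map, hβ, h00, map_zero, map_zero]
  rw [hβ0, map_zero] at hβ
  obtain ⟨s, -, hs⟩ := Finset.prod_eq_zero_iff.1 hβ.symm
  refine eq_of_pts (k := k) fun g => ?_
  have := pt_transl (p s.1) ((p s.1)⁻¹ * toConv g) a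
  rw [hs, map_zero, mul_inv_cancel_left] at this
  rw [map_zero]
  exact this.symm

include hπ hker hψ hspan in
/-- The kernel of the largest torus quotient has no nontrivial idempotents. -/
theorem idempotent_trivial (hgl : ∀ χ : A, IsGroupLikeElem k χ → ∃ b, ψ b = χ)
    (hpow : ∀ n : ℕ, 0 < n → Function.Injective (powHom k n : B →ₐ[k] B)) {e : C} (he : IsIdempotentElem e) :
    e = 0 ∨ e = 1 := by
  classical
  let M := Subalgebra.toSubmodule (liftAlg k π)
  obtain ⟨n, hn, hrange⟩ := exists_powHom_eq hπ hker hspan hψ
  let N0 : M →ₗ[k] A := (powHom k n).toLinearMap ∘ₗ M.subtype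
  have hN0 : LinearMap.ker N0 = ⊥ := LinearMap.ker_eq_bot'.2 fun z hz =>
    Subtype.ext (powHom_inj hπ hker hspan hψ n (hpow n hn) z.1 z.2 hz)
  have hN0i : Function.Injective N0 := LinearMap.ker_eq_bot.1 hN0
  obtain ⟨Q, hQ⟩ := N0.exists_leftInverse_of_injective hN0
  have hNN : Function.Injective (TensorProduct.map N0 N0) := fun z w hzw => by
    have e : ∀ z, TensorProduct.map Q Q (TensorProduct.map N0 N0 z) = z := fun z => by
      rw [← LinearMap.comp_apply, ← TensorProduct.map_comp, hQ, TensorProduct.map_id, LinearMap.id_apply]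
    rw [← e z, ← e w, hzw]
  have hcomul : ∀ a : M, ∃ w, TensorProduct.map M.subtype M.subtype w = Coalgebra.comul (R := k) (a : A) ∧
      TensorProduct.map N0 N0 w = Coalgebra.comul (R := k) (N0 a) := fun a => by
    obtain ⟨w, hw⟩ := exists_comul_lift hπ hker hspan a.2
    refine ⟨w, hw, ext_tensor_pts fun y => eq_of_pts (k := k) fun g => ?_⟩
    have e : g (slice y.ofConv.toLinearMap (TensorProduct.map N0 N0 w)) =
        (toConv (g.comp (powHom k n))).ofConv (slice ((toConv (y.ofConv.comp (powHom k n))).ofConv).toLinearMap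
          (Coalgebra.comul (R := k) (a : A))) := by
      rw [← hw]
      clear hw
      induction w using TensorProduct.induction_on with
      | zero => simp
      | tmul p q => simp [N0]
      | add p q hp hq => simp only [map_add, hp, hq]
    rw [e, convMul_pt, show toConv (g.comp (powHom k n)) = toConv g ^ n from pt_powHom (toConv g) n,
      pt_powHom y n, ← lift_pow hπ hker hspan a.2, ← pt_powHom', ← convMul_pt]
    rfl
  -- every element of the lift is a combination of characters
  have key : ∀ a ∈ liftAlg k π, ∃ b, ψ b = a := by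
    intro a ha
    let G : Set A := {t | IsGroupLikeElem k t}
    have hli : LinearIndepOn k id G := linearIndepOn_isGroupLikeElem
    obtain ⟨b, hb⟩ := hrange a ha
    have hspanA : powHom k n a ∈ Submodule.span k G := by
      rw [← hb]
      clear hb
      have hb' : b ∈ Submodule.span k {t : B | IsGroupLikeElem k t} := hspan ▸ Submodule.mem_top
      induction hb' using Submodule.span_induction with
      | mem t ht => exact Submodule.subset_span (ht.map ψ)
      | zero => rw [map_zero]; exact zero_mem _
      | add x y _ _ hx hy => rw [map_add]; exact add_mem hx hy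
      | smul c x _ hx => rw [map_smul]; exact Submodule.smul_mem _ c hx
    obtain ⟨f, hf⟩ : ∃ f : G →₀ k, f.sum (fun t c => c • (t : A)) = powHom k n a := by
      rw [← Finsupp.mem_span_range_iff_exists_finsupp, Subtype.range_coe_subtype]
      exact hspanA
    have hat : ∀ t ∈ f.support, ∃ z : M, N0 z = t.1 := by
      intro t ht
      have hv : LinearIndependent k (fun s : G => (s : A)) := hli
      obtain ⟨φ, hφ⟩ := (((Finsupp.lapply t : (G →₀ k) →ₗ[k] k).comp hv.repr)).exists_extend
      have hφs : ∀ s : G, φ (s : A) = if s = t then 1 else 0 := fun s => by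
        have := LinearMap.congr_fun hφ ⟨(s : A), Submodule.subset_span ⟨s, rfl⟩⟩
        rw [LinearMap.comp_apply, LinearMap.comp_apply, Submodule.subtype_apply] at this
        rw [this, hv.repr_eq_single s _ rfl, Finsupp.lapply_apply, Finsupp.single_apply]
      have h1 : slice φ (Coalgebra.comul (R := k) (powHom k n a)) = f t • (t : A) := by
        rw [← hf, map_finsuppSum, map_finsuppSum, Finsupp.sum, Finset.sum_eq_single t]
        · rw [map_smul, map_smul, t.2.comul_eq_tmul_self, slice_tmul, hφs, if_pos rfl, one_smul]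
        · intro s _ hst
          rw [map_smul, map_smul, s.2.comul_eq_tmul_self, slice_tmul, hφs, if_neg hst, zero_smul, smul_zero]
        · exact fun h => absurd ht h
      obtain ⟨w, -, hw⟩ := hcomul ⟨a, ha⟩
      have h2 : slice φ (Coalgebra.comul (R := k) (powHom k n a)) ∈ LinearMap.range N0 := by
        rw [show powHom k n a = N0 ⟨a, ha⟩ from rfl, ← hw]
        clear hw
        induction w using TensorProduct.induction_on with
        | zero => simp
        | tmul p q => rw [TensorProduct.map_tmul, slice_tmul]; exact Submodule.smul_mem _ _ (LinearMap.mem_range_self _ _)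
        | add p q hp hq => simp only [map_add]; exact add_mem hp hq
      rw [h1, Submodule.smul_mem_iff _ (Finsupp.mem_support_iff.1 ht)] at h2
      exact h2
    choose z hz using hat
    have hzgl : ∀ t ht, IsGroupLikeElem k ((z t ht : M) : A) := fun t ht => by
      refine ⟨?_, ?_⟩
      · have h1 := congrArg (Coalgebra.counit (R := k)) (hz t ht)
        rw [t.2.counit_eq_one] at h1
        have h2 := pt_powHom' (1 : WithConv (A →ₐ[k] k)) n ((z t ht : M) : A)
        rw [one_pow] at h2
        exact h2.symm.trans h1
      · obtain ⟨w, hw1, hw2⟩ := hcomul (z t ht)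
        rw [hz t ht, t.2.comul_eq_tmul_self] at hw2
        have : w = (z t ht) ⊗ₜ[k] (z t ht) := hNN (by rw [hw2, TensorProduct.map_tmul, hz t ht])
        rw [← hw1, this]
        rfl
    have hmem : ∀ t ht, ∃ b, ψ b = ((z t ht : M) : A) := fun t ht => hgl _ (hzgl t ht)
    choose β hβ using hmem
    refine ⟨∑ t : f.support, f t.1 • β t.1 t.2, ?_⟩
    have hzsum : (∑ t : f.support, f t.1 • z t.1 t.2 : M) = ⟨a, ha⟩ := hN0i (by
      rw [map_sum]
      simp only [map_smul, hz]
      rw [Finset.sum_coe_sort f.support fun t => f t • (t : A)]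
      exact hf)
    rw [map_sum]
    simp only [map_smul, hβ]
    refine Eq.trans ?_ (congrArg Subtype.val hzsum)
    simp
  obtain ⟨a, ha, rfl⟩ := exists_lift hπ hker hψ (idemSpan C k) (fun d hd => comul_idemSpan hd)
    (Submodule.subset_span he : e ∈ idemSpan C k)
  obtain ⟨b, rfl⟩ := key a ha
  rw [pi_psi hker] at he ⊢
  rcases eq_or_ne (Coalgebra.counit (R := k) b) 0 with h0 | h0
  · exact Or.inl (by rw [h0, map_zero])
  · refine Or.inr ?_
    have hu : IsUnit (algebraMap k C (Coalgebra.counit (R := k) b)) := (isUnit_iff_ne_zero.2 h0).map _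
    exact hu.mul_eq_left.1 he

end Groth.Agent.AlgGrpQ.CharKernel
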