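import Groth.Prelude.Def_AlgGrp
import Groth.Prelude.Def_Red2
import Groth.Prelude.Def_GmPts
import Groth.Agent.GrpSchLib.GaPts
import Mathlib.AlgebraicGeometry.ValuativeCriterion
import Mathlib.AlgebraicGeometry.Morphisms.Separated
import Mathlib.RingTheory.DedekindDomain.Dvr
import Mathlib.RingTheory.Polynomial.UniqueFactorization
import Mathlib.RingTheory.Localization.Away.Basic

/-!
# Limits of orbits of the line groups on proper schemes

The limit point `x∞ = lim_{t → ∞} t · x₀` of the additive or multiplicative group acting on a proper scheme is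
fixed: both `g · x∞` and `x∞` are limits of the same orbit.
-/

universe u

open CategoryTheory CategoryTheory.Limits MonoidalCategory CartesianMonoidalCategory MonObj AlgebraicGeometry
open Polynomial

noncomputable section

namespace Groth.Agent.AlgGrpQ.LineLimit

section Action

variable {S : Scheme.{u}} {G X : Over S} [GrpObj G] (a : AlgGrp.Action G X)

/-- The action on points. -/
abbrev smul {T : Over S} (g : T ⟶ G) (y : T ⟶ X) : T ⟶ X := lift g y ≫ a.act

theorem comp_smul {T T' : Over S} (f : T' ⟶ T) (g : T ⟶ G) (y : T ⟶ X) :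
    f ≫ smul a g y = smul a (f ≫ g) (f ≫ y) := by
  rw [← Category.assoc, comp_lift]

theorem mul_smul {T : Over S} (g h : T ⟶ G) (y : T ⟶ X) :
    smul a (g * h) y = smul a g (smul a h y) := by
  have h1 : lift (g * h) y = lift (lift g h) y ≫ (μ[G] ▷ X) := by
    rw [lift_whiskerRight, Hom.mul_def]
  rw [smul, h1, Category.assoc, a.mul_act, lift_lift_associator_hom_assoc, lift_whiskerLeft_assoc]

end Action

section Ring

variable (k : Type u) [Field k] (F : Type u) [Field F] [Algebra k F]

instance isPrime_X : (Ideal.span {(X : F[X])}).IsPrime :=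
  (Ideal.span_singleton_prime X_ne_zero).mpr prime_X

/-- The local ring of the affine line over `F` at the origin. -/
abbrev O : Type u := Localization.AtPrime (Ideal.span {(X : F[X])})

instance : IsDiscreteValuationRing (O F) :=
  IsLocalization.AtPrime.isDiscreteValuationRing_of_dedekind_domain F[X]
    (P := Ideal.span {(X : F[X])}) (by simp) _

/-- The coordinate. -/
abbrev t : O F := algebraMap F[X] (O F) X

/-- Evaluation at the origin. -/
def ev : O F →ₐ[k] F :=
  IsLocalization.liftAlgHom (M := (Ideal.span {(X : F[X])}).primeCompl)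
    (f := ((Polynomial.aeval (0 : F)).restrictScalars k)) fun y => by
      refine Ne.isUnit fun h => y.2 ?_
      show (y : F[X]) ∈ Ideal.span {(X : F[X])}
      rw [Ideal.mem_span_singleton, X_dvd_iff, coeff_zero_eq_eval_zero]
      simpa using h

theorem ev_algebraMap (p : F[X]) : ev k F (algebraMap F[X] (O F) p) = p.eval 0 := by
  simp [ev]

theorem ev_t : ev k F (t F) = 0 := by rw [ev_algebraMap, eval_X]

theorem isUnit_of_ev {z : O F} (h : ev k F z ≠ 0) : IsUnit z := by
  by_contra hz
  have hz' : z ∈ IsLocalRing.maximalIdeal (O F) := hz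
  rw [← IsLocalization.AtPrime.map_eq_maximalIdeal (Ideal.span {(X : F[X])}) (O F), Ideal.map_span,
    Set.image_singleton, Ideal.mem_span_singleton] at hz'
  obtain ⟨w, rfl⟩ := hz'
  exact h (by rw [map_mul, ev_algebraMap, eval_X, zero_mul])

theorem t_ne_zero : t F ≠ 0 :=
  (map_ne_zero_iff _ (IsLocalization.injective (O F)
    (Ideal.span {(X : F[X])}).primeCompl_le_nonZeroDivisors)).mpr X_ne_zero

variable {F}

/-- Substitution of an element vanishing at the origin for the coordinate. -/
def subst (σ : O F) (hσ0 : ev k F σ = 0) : O k →ₐ[k] O F :=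
  IsLocalization.liftAlgHom (M := (Ideal.span {(X : k[X])}).primeCompl)
    (f := (Polynomial.aeval σ : k[X] →ₐ[k] O F)) fun y => by
      refine isUnit_of_ev k F fun h => y.2 ?_
      rw [← Polynomial.aeval_algHom_apply, hσ0, ← coeff_zero_eq_aeval_zero', map_eq_zero] at h
      show (y : k[X]) ∈ Ideal.span {(X : k[X])}
      rw [Ideal.mem_span_singleton, X_dvd_iff]
      exact h

theorem subst_t (σ : O F) (hσ0 : ev k F σ = 0) : subst k σ hσ0 (t k) = σ := by
  simp [subst]

theorem subst_injective (σ : O F) (hσ : σ ≠ 0) (hσ0 : ev k F σ = 0) :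
    Function.Injective (subst k σ hσ0) := by
  rw [injective_iff_map_eq_zero]
  intro z hz
  by_contra hz0
  have hp : (RingHom.ker (subst k σ hσ0 : O k →+* O F)).IsPrime := RingHom.ker_isPrime _
  have hne : RingHom.ker (subst k σ hσ0 : O k →+* O F) ≠ ⊥ := fun e =>
    hz0 ((Submodule.eq_bot_iff _).mp e z hz)
  have hmax := IsLocalRing.eq_maximalIdeal (hp.isMaximal hne)
  have ht : t k ∈ RingHom.ker (subst k σ hσ0 : O k →+* O F) := by
    rw [hmax, IsLocalRing.mem_maximalIdeal, mem_nonunits_iff]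
    intro hu
    exact not_isUnit_zero (ev_t k k ▸ hu.map (ev k k))
  exact hσ (subst_t k σ hσ0 ▸ ht)

theorem ev_comp_subst (σ : O F) (hσ0 : ev k F σ = 0) :
    (ev k F).comp (subst k σ hσ0) = (Algebra.ofId k F).comp (ev k k) := by
  refine IsLocalization.algHom_ext (Ideal.span {(X : k[X])}).primeCompl (Polynomial.algHom_ext ?_)
  show ev k F (subst k σ hσ0 (t k)) = Algebra.ofId k F (ev k k (t k))
  rw [subst_t, hσ0, ev_t, map_zero]

/-- The induced substitution on fraction fields. -/
def substK (σ : O F) (hσ : σ ≠ 0) (hσ0 : ev k F σ = 0) :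
    FractionRing (O k) →ₐ[k] FractionRing (O F) :=
  IsFractionRing.liftAlgHom (g := (IsScalarTower.toAlgHom k (O F) (FractionRing (O F))).comp (subst k σ hσ0))
    ((IsFractionRing.injective (O F) (FractionRing (O F))).comp (subst_injective k σ hσ hσ0))

theorem substK_algebraMap (σ : O F) (hσ : σ ≠ 0) (hσ0 : ev k F σ = 0) (x : O k) :
    substK k σ hσ hσ0 (algebraMap (O k) (FractionRing (O k)) x) =
      algebraMap (O F) (FractionRing (O F)) (subst k σ hσ0 x) :=
  IsFractionRing.lift_algebraMap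
    (g := ((IsScalarTower.toAlgHom k (O F) (FractionRing (O F))).comp (subst k σ hσ0)).toRingHom)
    ((IsFractionRing.injective (O F) (FractionRing (O F))).comp (subst_injective k σ hσ hσ0)) x

theorem substK_t_inv (σ : O F) (hσ : σ ≠ 0) (hσ0 : ev k F σ = 0) :
    substK k σ hσ hσ0 (algebraMap (O k) (FractionRing (O k)) (t k))⁻¹ =
      (algebraMap (O F) (FractionRing (O F)) σ)⁻¹ := by
  rw [map_inv₀, substK_algebraMap, subst_t]

end Ring

section Spec

variable (k : Type u) [Field k]

/-- The spectrum of a `k`-algebra over `k`. -/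
abbrev sp (A : Type u) [CommRing A] [Algebra k A] : Over (Spec (CommRingCat.of k)) :=
  Over.mk (Spec.map (CommRingCat.ofHom (algebraMap k A)))

/-- The morphism of spectra of an algebra map. -/
def spMap {A B : Type u} [CommRing A] [Algebra k A] [CommRing B] [Algebra k B] (φ : A →ₐ[k] B) :
    sp k B ⟶ sp k A :=
  Over.homMk (Spec.map (CommRingCat.ofHom φ.toRingHom)) (by
    show Spec.map (CommRingCat.ofHom φ.toRingHom) ≫ Spec.map (CommRingCat.ofHom (algebraMap k A)) =
      Spec.map (CommRingCat.ofHom (algebraMap k B))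
    rw [← Spec.map_comp, ← CommRingCat.ofHom_comp]
    congr 2
    exact φ.comp_algebraMap)

theorem spMap_comp {A B C : Type u} [CommRing A] [Algebra k A] [CommRing B] [Algebra k B] [CommRing C]
    [Algebra k C] (φ : B →ₐ[k] C) (ψ : A →ₐ[k] B) : spMap k φ ≫ spMap k ψ = spMap k (φ.comp ψ) := by
  refine Over.OverMorphism.ext ?_
  show Spec.map (CommRingCat.ofHom φ.toRingHom) ≫ Spec.map (CommRingCat.ofHom ψ.toRingHom) = _
  rw [← Spec.map_comp, ← CommRingCat.ofHom_comp]
  rfl

theorem appTop_spMap {A B : Type u} [CommRing A] [Algebra k A] [CommRing B] [Algebra k B] (φ : A →ₐ[k] B)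
    (a : A) : (spMap k φ).left.appTop ((Scheme.ΓSpecIso (CommRingCat.of A)).inv a) =
      (Scheme.ΓSpecIso (CommRingCat.of B)).inv (φ a) :=
  (congrArg (fun ψ => (ConcreteCategory.hom ψ) a)
    (Scheme.ΓSpecIso_inv_naturality (CommRingCat.ofHom φ.toRingHom))).symm

/-- The base as the spectrum of `k`. -/
def unitToSp : 𝟙_ (Over (Spec (CommRingCat.of k))) ⟶ sp k k :=
  Over.homMk (𝟙 _) (by
    show 𝟙 _ ≫ Spec.map (CommRingCat.ofHom (algebraMap k k)) = 𝟙 _
    rw [Algebra.algebraMap_self, CommRingCat.ofHom_id, Spec.map_id, Category.comp_id])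

theorem eq_toUnit {T : Over (Spec (CommRingCat.of k))} (f : T ⟶ sp k k) : f = toUnit T ≫ unitToSp k := by
  have key : ∀ g : T ⟶ sp k k, g.left = T.hom := fun g => by
    have h : g.left ≫ Spec.map (CommRingCat.ofHom (algebraMap k k)) = T.hom := Over.w g
    rw [Algebra.algebraMap_self, CommRingCat.ofHom_id, Spec.map_id] at h
    exact (Category.comp_id _).symm.trans h
  exact Over.OverMorphism.ext ((key _).trans (key _).symm)

theorem spMap_cancel {A B : Type u} [CommRing A] [IsDomain A] [Algebra k A] [CommRing B] [Algebra k B]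
    (φ : A →ₐ[k] B) (hφ : Function.Injective φ) {X : Over (Spec (CommRingCat.of k))} [IsSeparated X.hom]
    {f g : sp k A ⟶ X} (h : spMap k φ ≫ f = spMap k φ ≫ g) : f = g := by
  have : IsDominant (Spec.map (CommRingCat.ofHom φ.toRingHom)) := by
    refine ⟨?_⟩
    show DenseRange (PrimeSpectrum.comap φ.toRingHom)
    rw [PrimeSpectrum.denseRange_comap_iff_ker_le_nilRadical]
    intro x hx
    have : x = 0 := hφ (by simpa using hx)
    exact this ▸ zero_mem _
  refine Over.OverMorphism.ext ?_
  have : AlgebraicGeometry.IsReduced (sp k A).left :=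
    show AlgebraicGeometry.IsReduced (Spec (CommRingCat.of A)) from inferInstance
  exact ext_of_isDominant_of_isSeparated X.hom ((Over.w f).trans (Over.w g).symm)
    (Spec.map (CommRingCat.ofHom φ.toRingHom)) (congrArg CommaMorphism.left h)

/-- A morphism to a spectrum from a compatible ring map to the global functions. -/
def toSp (T : Over (Spec (CommRingCat.of k))) {A : Type u} [CommRing A] [Algebra k A]
    (φ : CommRingCat.of A ⟶ Γ(T.left, ⊤))
    (hφ : CommRingCat.ofHom (algebraMap k A) ≫ φ = (Scheme.ΓSpecIso (CommRingCat.of k)).inv ≫ T.hom.appTop) :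
    T ⟶ sp k A :=
  Over.homMk (T.left.toSpecΓ ≫ Spec.map φ) (by
    show (T.left.toSpecΓ ≫ Spec.map φ) ≫ Spec.map (CommRingCat.ofHom (algebraMap k A)) = T.hom
    rw [Category.assoc, ← Spec.map_comp, hφ, Spec.map_comp, ← Category.assoc,
      ← Scheme.toSpecΓ_naturality, Category.assoc, ← SpecMap_ΓSpecIso_hom, ← Spec.map_comp,
      Iso.inv_hom_id, Spec.map_id]
    exact Category.comp_id _)

theorem appTop_toSp (T : Over (Spec (CommRingCat.of k))) {A : Type u} [CommRing A] [Algebra k A]
    (φ : CommRingCat.of A ⟶ Γ(T.left, ⊤))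
    (hφ : CommRingCat.ofHom (algebraMap k A) ≫ φ = (Scheme.ΓSpecIso (CommRingCat.of k)).inv ≫ T.hom.appTop)
    (a : A) : (toSp k T φ hφ).left.appTop ((Scheme.ΓSpecIso (CommRingCat.of A)).inv a) = φ a := by
  have h : (Scheme.ΓSpecIso (CommRingCat.of A)).inv ≫ (toSp k T φ hφ).left.appTop = φ := by
    show (Scheme.ΓSpecIso (CommRingCat.of A)).inv ≫ (T.left.toSpecΓ ≫ Spec.map φ).appTop = φ
    rw [Scheme.Hom.comp_appTop, ← Category.assoc, ← Scheme.ΓSpecIso_inv_naturality,
      Category.assoc, Scheme.toSpecΓ_appTop]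
    simp
  exact congrArg (fun ψ => (ConcreteCategory.hom ψ) a) h

end Spec

variable {k : Type u} [Field k]

/-- The fixed point criterion: a line of points `c` of the group defined near infinity, translated by the
universal point, is a reparametrization of itself. -/
theorem exists_fixedPt_of_line {G X : Over (Spec (CommRingCat.of k))} [GrpObj G] [IsProper X.hom]
    (a : AlgGrp.Action G X) (x₀ : 𝟙_ (Over (Spec (CommRingCat.of k))) ⟶ X)
    (P : Type u) [CommRing P] [IsDomain P] [Algebra k P] (g₀ : sp k P ⟶ G)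
    (huniv : ∀ (T : Over (Spec (CommRingCat.of k))) (g : T ⟶ G), ∃ f : T ⟶ sp k P, f ≫ g₀ = g)
    (c : sp k (FractionRing (O k)) ⟶ G)
    (σ : O (FractionRing P)) (hσ : σ ≠ 0) (hσ0 : ev k (FractionRing P) σ = 0)
    (h : (spMap k ((IsScalarTower.toAlgHom k (O (FractionRing P)) (FractionRing (O (FractionRing P)))).comp
          ((IsScalarTower.toAlgHom k (FractionRing P) (O (FractionRing P))).comp
            (IsScalarTower.toAlgHom k P (FractionRing P)))) ≫ g₀) *
        (spMap k (substK k (t (FractionRing P)) (t_ne_zero _) (ev_t k _)) ≫ c) =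
      spMap k (substK k σ hσ hσ0) ≫ c) :
    ∃ x : 𝟙_ (Over (Spec (CommRingCat.of k))) ⟶ X, a.IsFixedPt x := by
  obtain ⟨φ, hφdef⟩ : ∃ φ : sp k (FractionRing (O k)) ⟶ X,
      φ = smul a c (toUnit _ ≫ x₀) := ⟨_, rfl⟩
  have hprop : ValuativeCriterion.Existence X.hom := by
    have hp : IsProper X.hom := inferInstance
    rw [IsProper.eq_valuativeCriterion] at hp
    exact hp.1.1.1.existence
  let sq : ValuativeCommSq X.hom :=
    { R := O k
      K := FractionRing (O k)
      i₁ := φ.left
      i₂ := (sp k (O k)).hom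
      commSq := ⟨by
        refine (Over.w φ).trans ?_
        show Spec.map (CommRingCat.ofHom (algebraMap k (FractionRing (O k)))) =
          Spec.map (CommRingCat.ofHom (algebraMap (O k) (FractionRing (O k)))) ≫
            Spec.map (CommRingCat.ofHom (algebraMap k (O k)))
        rw [← Spec.map_comp, ← CommRingCat.ofHom_comp, ← IsScalarTower.algebraMap_eq]⟩ }
  obtain ⟨l⟩ := (hprop sq).exists_lift
  let ψ : sp k (O k) ⟶ X := Over.homMk l.l l.fac_right
  have hψ : spMap k (IsScalarTower.toAlgHom k (O k) (FractionRing (O k))) ≫ ψ = φ :=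
    Over.OverMorphism.ext l.fac_left
  refine ⟨unitToSp k ≫ spMap k (ev k k) ≫ ψ, fun T g => ?_⟩
  -- the lift along a substitution
  have hsub : ∀ (τ : O (FractionRing P)) (hτ : τ ≠ 0) (hτ0 : ev k _ τ = 0),
      spMap k (IsScalarTower.toAlgHom k (O (FractionRing P)) (FractionRing (O (FractionRing P)))) ≫
        spMap k (subst k τ hτ0) ≫ ψ =
      smul a (spMap k (substK k τ hτ hτ0) ≫ c) (toUnit _ ≫ x₀) := by
    intro τ hτ hτ0
    rw [← Category.assoc, spMap_comp]
    have e : (IsScalarTower.toAlgHom k (O (FractionRing P)) (FractionRing (O (FractionRing P)))).comp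
        (subst k τ hτ0) = (substK k τ hτ hτ0).comp (IsScalarTower.toAlgHom k (O k) (FractionRing (O k))) :=
      AlgHom.ext fun x => (substK_algebraMap k τ hτ hτ0 x).symm
    rw [e, ← spMap_comp, Category.assoc, hψ, hφdef, comp_smul, comp_toUnit_assoc]
  have h0 : ∀ (τ : O (FractionRing P)) (hτ0 : ev k _ τ = 0),
      spMap k (ev k (FractionRing P)) ≫ spMap k (subst k τ hτ0) ≫ ψ =
        toUnit _ ≫ unitToSp k ≫ spMap k (ev k k) ≫ ψ := by
    intro τ hτ0
    rw [← Category.assoc, spMap_comp, ev_comp_subst, ← spMap_comp, Category.assoc,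
      eq_toUnit k (spMap k (Algebra.ofId k (FractionRing P))), Category.assoc]
  have h1 : smul a (spMap k ((IsScalarTower.toAlgHom k (FractionRing P) (O (FractionRing P))).comp
          (IsScalarTower.toAlgHom k P (FractionRing P))) ≫ g₀)
        (spMap k (subst k (t (FractionRing P)) (ev_t k _)) ≫ ψ) =
      spMap k (subst k σ hσ0) ≫ ψ := by
    refine spMap_cancel k (IsScalarTower.toAlgHom k (O (FractionRing P)) (FractionRing (O (FractionRing P))))
      (IsFractionRing.injective _ _) ?_
    rw [comp_smul, hsub _ (t_ne_zero _) _, hsub σ hσ hσ0, ← Category.assoc, spMap_comp, ← mul_smul, h]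
  have h2 : smul a g₀ (toUnit _ ≫ unitToSp k ≫ spMap k (ev k k) ≫ ψ) =
      toUnit _ ≫ unitToSp k ≫ spMap k (ev k k) ≫ ψ := by
    refine spMap_cancel k (IsScalarTower.toAlgHom k P (FractionRing P)) (IsFractionRing.injective _ _) ?_
    have h3 := congrArg (fun q => spMap k (ev k (FractionRing P)) ≫ q) h1
    rw [comp_smul, h0, h0, ← Category.assoc, spMap_comp] at h3
    rw [comp_smul, comp_toUnit_assoc]
    refine Eq.trans ?_ h3
    congr 4
    ext x
    simp [ev_algebraMap, IsScalarTower.algebraMap_apply (FractionRing P) (FractionRing P)[X]]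
  obtain ⟨f, rfl⟩ := huniv T g
  have h4 := congrArg (fun q => f ≫ q) h2
  rw [comp_smul, comp_toUnit_assoc] at h4
  exact h4

section Lines

open Groth.Agent.GrpSchLib

variable (k)

/-- An element of an algebra as a global function on its spectrum. -/
abbrev fn {A : Type u} [CommRing A] [Algebra k A] (x : A) : Γ((sp k A).left, ⊤) :=
  (Scheme.ΓSpecIso (CommRingCat.of A)).inv x

theorem fn_injective {A : Type u} [CommRing A] [Algebra k A] : Function.Injective (fn k (A := A)) :=
  (Scheme.ΓSpecIso (CommRingCat.of A)).symm.commRingCatIsoToRingEquiv.injective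

variable {k}

theorem ga_of_hom {G X : Over (Spec (CommRingCat.of k))} [GrpObj G] [IsProper X.hom]
    (e : Red.Ga (Spec (CommRingCat.of k)) ≅ G) [IsMonHom e.hom]
    (a : AlgGrp.Action G X) (x₀ : 𝟙_ (Over (Spec (CommRingCat.of k))) ⟶ X) :
    ∃ x : 𝟙_ (Over (Spec (CommRingCat.of k))) ⟶ X, a.IsFixedPt x := by
  let F := FractionRing k[X]
  let u0 : F := algebraMap k[X] F Polynomial.X
  have hev : ev k F (1 + algebraMap F (O F) u0 * t F) = 1 := by
    rw [map_add, map_one, map_mul, ev_t, mul_zero, add_zero]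
  obtain ⟨v, hv⟩ := isUnit_of_ev k F (z := 1 + algebraMap F (O F) u0 * t F) (hev ▸ one_ne_zero)
  let σ : O F := t F * (↑v⁻¹ : O F)
  have hσ : σ ≠ 0 := mul_ne_zero (t_ne_zero F) v⁻¹.ne_zero
  have hσ0 : ev k F σ = 0 := by rw [map_mul, ev_t, zero_mul]
  let g₀ : sp k k[X] ⟶ Red.Ga (Spec (CommRingCat.of k)) := GaPts.ptOfFn (fn k Polynomial.X)
  let c : sp k (FractionRing (O k)) ⟶ Red.Ga (Spec (CommRingCat.of k)) :=
    GaPts.ptOfFn (fn k (algebraMap (O k) (FractionRing (O k)) (t k))⁻¹)
  refine exists_fixedPt_of_line a x₀ k[X] (g₀ ≫ e.hom) (fun T g => ?_) (c ≫ e.hom) σ hσ hσ0 ?_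
  · let ψ : CommRingCat.of k[X] ⟶ Γ(T.left, ⊤) :=
      CommRingCat.ofHom (Polynomial.eval₂RingHom
        ((Scheme.ΓSpecIso (CommRingCat.of k)).inv ≫ T.hom.appTop).hom (Red.gaFn (g ≫ e.inv)))
    refine ⟨toSp k T ψ ?_, ?_⟩
    · ext r
      simp [ψ]
    · rw [← Category.assoc]
      refine ((congrArg (· ≫ e.hom) ?_).trans (Category.assoc _ _ _)).trans
        ((g ≫= e.inv_hom_id).trans (Category.comp_id g))
      refine GaPts.gaFn_injective ?_
      show Red.gaFn _ = Red.gaFn _
      rw [GaPts.gaFn_comp, GaPts.gaFn_ptOfFn, appTop_toSp]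
      simp [ψ]
  · have key : ∀ (L : Type u) [CommRing L] [Algebra k L] (φ : k[X] →ₐ[k] L)
        (j j' : FractionRing (O k) →ₐ[k] L)
        (_ : φ Polynomial.X + j (algebraMap (O k) _ (t k))⁻¹ = j' (algebraMap (O k) _ (t k))⁻¹),
        (spMap k φ ≫ g₀ ≫ e.hom) * (spMap k j ≫ c ≫ e.hom) = spMap k j' ≫ c ≫ e.hom := by
      intro L _ _ φ j j' hj
      rw [← Category.assoc, ← Category.assoc, ← Category.assoc, ← MonObj.mul_comp (spMap k φ ≫ g₀) (spMap k j ≫ c) e.hom]
      refine congrArg (· ≫ e.hom) (GaPts.gaFn_injective ?_)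
      show Red.gaFn _ = Red.gaFn _
      rw [GaPts.gaFn_mul, GaPts.gaFn_comp, GaPts.gaFn_comp, GaPts.gaFn_comp, GaPts.gaFn_ptOfFn,
        GaPts.gaFn_ptOfFn, fn, fn, appTop_spMap, appTop_spMap, appTop_spMap, ← map_add, hj]
    refine key _ _ _ _ ?_
    rw [substK_t_inv, substK_t_inv]
    show algebraMap (O F) (FractionRing (O F)) (algebraMap F (O F) u0) +
        (algebraMap (O F) (FractionRing (O F)) (t F))⁻¹ = _
    have ht : algebraMap (O F) (FractionRing (O F)) (t F) ≠ 0 :=
      (map_ne_zero_iff _ (IsFractionRing.injective _ _)).mpr (t_ne_zero F)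
    have hs : algebraMap (O F) (FractionRing (O F)) σ *
        (1 + algebraMap (O F) (FractionRing (O F)) (algebraMap F (O F) u0) *
          algebraMap (O F) (FractionRing (O F)) (t F)) = algebraMap (O F) (FractionRing (O F)) (t F) := by
      rw [← map_mul, ← map_one (algebraMap (O F) (FractionRing (O F))), ← map_add, ← hv, ← map_mul,
        _root_.mul_assoc, Units.inv_mul, _root_.mul_one]
    have hσL : algebraMap (O F) (FractionRing (O F)) σ ≠ 0 :=
      (map_ne_zero_iff _ (IsFractionRing.injective _ _)).mpr hσ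
    refine eq_inv_of_mul_eq_one_left ?_
    field_simp
    linear_combination hs

theorem gm_of_hom {G X : Over (Spec (CommRingCat.of k))} [GrpObj G] [IsProper X.hom]
    (e : Red.Gm (Spec (CommRingCat.of k)) ≅ G) [IsMonHom e.hom]
    (a : AlgGrp.Action G X) (x₀ : 𝟙_ (Over (Spec (CommRingCat.of k))) ⟶ X) :
    ∃ x : 𝟙_ (Over (Spec (CommRingCat.of k))) ⟶ X, a.IsFixedPt x := by
  let P := Localization.Away (Polynomial.X : k[X])
  have : IsDomain P := IsLocalization.isDomain_localization
    (powers_le_nonZeroDivisors_of_noZeroDivisors Polynomial.X_ne_zero)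
  let F := FractionRing P
  obtain ⟨uP, huP⟩ : IsUnit (algebraMap k[X] P Polynomial.X) :=
    IsLocalization.Away.algebraMap_isUnit _
  let u0 : F := algebraMap P F uP
  have hu0 : u0 ≠ 0 := (map_ne_zero_iff _ (IsFractionRing.injective P F)).mpr uP.ne_zero
  let σ : O F := algebraMap F (O F) u0⁻¹ * t F
  have hσ : σ ≠ 0 := mul_ne_zero
    ((map_ne_zero_iff _ (algebraMap F (O F)).injective).mpr (inv_ne_zero hu0)) (t_ne_zero F)
  have hσ0 : ev k F σ = 0 := by rw [map_mul, ev_t, mul_zero]
  have ht : algebraMap (O k) (FractionRing (O k)) (t k) ≠ 0 :=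
    (map_ne_zero_iff _ (IsFractionRing.injective _ _)).mpr (t_ne_zero k)
  let g₀ : sp k P ⟶ Red.Gm (Spec (CommRingCat.of k)) :=
    GmPts.ptOfUnit (Units.map (Scheme.ΓSpecIso (CommRingCat.of P)).inv.hom.toMonoidHom uP)
  let c : sp k (FractionRing (O k)) ⟶ Red.Gm (Spec (CommRingCat.of k)) :=
    GmPts.ptOfUnit (Units.map (Scheme.ΓSpecIso (CommRingCat.of (FractionRing (O k)))).inv.hom.toMonoidHom
      (Units.mk0 _ (inv_ne_zero ht)))
  have hg₀ : Red.gmFn g₀ = fn k (uP : P) := GmPts.gmFn_ptOfUnit _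
  have hc : Red.gmFn c = fn k (algebraMap (O k) (FractionRing (O k)) (t k))⁻¹ := GmPts.gmFn_ptOfUnit _
  refine exists_fixedPt_of_line a x₀ P (g₀ ≫ e.hom) (fun T g => ?_) (c ≫ e.hom) σ hσ hσ0 ?_
  · let ρ : k[X] →+* Γ(T.left, ⊤) := Polynomial.eval₂RingHom
        ((Scheme.ΓSpecIso (CommRingCat.of k)).inv ≫ T.hom.appTop).hom (Red.gmFn (g ≫ e.inv))
    have hρ : IsUnit (ρ Polynomial.X) := by
      simpa [ρ] using GmPts.isUnit_gmFn (g ≫ e.inv)
    let ψ : CommRingCat.of P ⟶ Γ(T.left, ⊤) :=
      CommRingCat.ofHom (IsLocalization.Away.lift (S := P) Polynomial.X hρ)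
    refine ⟨toSp k T ψ ?_, ?_⟩
    · ext r
      show IsLocalization.Away.lift (S := P) Polynomial.X hρ (algebraMap k P r) = _
      rw [IsScalarTower.algebraMap_apply k k[X] P, IsLocalization.Away.lift_eq]
      simp [ρ]
    · rw [← Category.assoc]
      refine ((congrArg (· ≫ e.hom) ?_).trans (Category.assoc _ _ _)).trans
        ((g ≫= e.inv_hom_id).trans (Category.comp_id g))
      refine GmPts.gmFn_injective ?_
      show Red.gmFn _ = Red.gmFn _
      rw [GmPts.gmFn_comp, hg₀, fn, appTop_toSp]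
      show IsLocalization.Away.lift (S := P) Polynomial.X hρ (uP : P) = _
      rw [huP, IsLocalization.Away.lift_eq]
      simp [ρ]
  · have key : ∀ (L : Type u) [CommRing L] [Algebra k L] (φ : P →ₐ[k] L)
        (j j' : FractionRing (O k) →ₐ[k] L)
        (_ : φ (uP : P) * j (algebraMap (O k) _ (t k))⁻¹ = j' (algebraMap (O k) _ (t k))⁻¹),
        (spMap k φ ≫ g₀ ≫ e.hom) * (spMap k j ≫ c ≫ e.hom) = spMap k j' ≫ c ≫ e.hom := by
      intro L _ _ φ j j' hj
      rw [← Category.assoc, ← Category.assoc, ← Category.assoc, ← MonObj.mul_comp (spMap k φ ≫ g₀) (spMap k j ≫ c) e.hom]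
      refine congrArg (· ≫ e.hom) (GmPts.gmFn_injective ?_)
      show Red.gmFn _ = Red.gmFn _
      rw [GmPts.gmFn_mul, GmPts.gmFn_comp, GmPts.gmFn_comp, GmPts.gmFn_comp, hg₀, hc,
        fn, fn, appTop_spMap, appTop_spMap, appTop_spMap, ← map_mul, hj]
    refine key _ _ _ _ ?_
    rw [substK_t_inv, substK_t_inv, map_mul, mul_inv]
    congr 1
    show algebraMap (O F) (FractionRing (O F)) (algebraMap F (O F) u0) = _
    rw [← IsScalarTower.algebraMap_apply F (O F) (FractionRing (O F)),
      ← IsScalarTower.algebraMap_apply F (O F) (FractionRing (O F)), map_inv₀, inv_inv]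

end Lines

end Groth.Agent.AlgGrpQ.LineLimit
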