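import Groth.Agent.ComodLib.Reductive
import Groth.Agent.AlgGrpQ.LineLimit
import Groth.Prelude.Def_CoactBr
import Mathlib.RingTheory.SimpleModule.IsAlgClosed
import Mathlib.LinearAlgebra.Trace
import Mathlib.LinearAlgebra.Eigenspace.Triangularizable
import Mathlib.Data.Matrix.Basis

/-!
# Characters

Over an algebraically closed field the forms on a coalgebra act on finitely many pairwise non-isomorphic
simple comodules by arbitrary endomorphisms. Hence characters of such comodules are independent, and
for a cosemisimple coalgebra they span the cocommutative elements, which for a Hopf algebra are the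
class functions.
-/

set_option linter.style.haveILetI false

universe u v w w'

open TensorProduct WithConv

namespace Groth.Agent.AlgGrpQ.Characters

section Density

variable {k : Type u} [Field k] [IsAlgClosed k] {R : Type v} [Ring R] [Algebra k R]

/-- Schur's lemma. -/
theorem exists_scalar {V : Type w} [AddCommGroup V] [Module k V] [Module R V] [IsScalarTower k R V]
    [IsSimpleModule R V] [FiniteDimensional k V] (f : V →ₗ[R] V) : ∃ c : k, ∀ x, f x = c • x := by
  haveI := IsSimpleModule.nontrivial R V
  obtain ⟨c, hc⟩ := Module.End.exists_eigenvalue (f.restrictScalars k : Module.End k V)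
  obtain ⟨x, hx, hx0⟩ := hc.exists_hasEigenvector
  refine ⟨c, fun y => ?_⟩
  have hmem : x ∈ LinearMap.ker (f - c • (LinearMap.id : V →ₗ[R] V)) := by
    rw [LinearMap.mem_ker, LinearMap.sub_apply, LinearMap.smul_apply, LinearMap.id_apply, sub_eq_zero]
    exact Module.End.mem_eigenspace_iff.mp hx
  have := (eq_bot_or_eq_top (LinearMap.ker (f - c • (LinearMap.id : V →ₗ[R] V)))).resolve_left
    fun h => hx0 ((Submodule.mem_bot R).mp (h ▸ hmem))
  exact sub_eq_zero.mp (LinearMap.congr_fun (LinearMap.ker_eq_top.mp this) y)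

variable {ι : Type w'} [Fintype ι] {V : ι → Type w} [∀ i, AddCommGroup (V i)] [∀ i, Module k (V i)]
  [∀ i, Module R (V i)] [∀ i, IsScalarTower k R (V i)] [∀ i, IsSimpleModule R (V i)]
  [∀ i, FiniteDimensional k (V i)]

/-- Burnside's density theorem for several simple modules. -/
theorem density (hne : ∀ i j, i ≠ j → IsEmpty (V i ≃ₗ[R] V j)) (T : ∀ i, Module.End k (V i)) :
    ∃ r : R, ∀ i (x : V i), r • x = T i x := by
  classical
  have hg : ∀ g : Module.End R (∀ i, V i), ∃ c : ι → k, ∀ m j, g m j = c j • m j := by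
    intro g
    choose c hc using fun i => exists_scalar (k := k)
      ((LinearMap.proj i).comp (g.comp (LinearMap.single R V i)))
    have hoff : ∀ i j, i ≠ j → ∀ x : V i, g (LinearMap.single R V i x) j = 0 := by
      intro i j hij x
      rcases ((LinearMap.proj j).comp (g.comp (LinearMap.single R V i))).bijective_or_eq_zero with h | h
      · exact ((hne i j hij).false (LinearEquiv.ofBijective _ h)).elim
      · exact LinearMap.congr_fun h x
    refine ⟨c, fun m j => ?_⟩
    conv_lhs => rw [← Finset.univ_sum_single m, map_sum, Finset.sum_apply]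
    exact (Finset.sum_eq_single j (fun i _ hij => hoff i j hij (m i))
      (fun h => absurd (Finset.mem_univ j) h)).trans (hc j (m j))
  let f : Module.End (Module.End R (∀ i, V i)) (∀ i, V i) :=
    { toFun := fun m i => T i (m i)
      map_add' := fun a b => funext fun i => map_add (T i) _ _
      map_smul' := fun g m => by
        obtain ⟨c, hc⟩ := hg g
        refine funext fun i => ?_
        show T i (g m i) = g (fun i => T i (m i)) i
        rw [hc, hc, map_smul] }
  let b := fun i => Module.finBasis k (V i)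
  let s : Finset (∀ i, V i) := Finset.univ.biUnion fun i => Finset.univ.image fun t => Pi.single i (b i t)
  obtain ⟨r, hr⟩ := jacobson_density f s
  refine ⟨r, fun i x => ?_⟩
  suffices h : (Module.toModuleEnd k (S := R) (V i) r : Module.End k (V i)) = T i from LinearMap.congr_fun h x
  refine (b i).ext fun t => ?_
  show r • b i t = T i (b i t)
  have h := congrFun (hr (Pi.single i (b i t)) (by simp [s]; exact ⟨i, t, rfl⟩)) i
  rw [Pi.smul_apply, Pi.single_eq_same] at h
  exact h.symm.trans (congrArg (T i) (Pi.single_eq_same i (b i t)))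

end Density

section Trace

variable {k : Type u} [Field k] {V : Type w} [AddCommGroup V] [Module k V] [FiniteDimensional k V]

/-- A functional vanishing on commutators is a multiple of the trace. -/
theorem exists_smul_trace (L : Module.End k V →ₗ[k] k) (hL : ∀ a b, L (a * b) = L (b * a)) :
    ∃ c : k, ∀ a, L a = c * LinearMap.trace k V a := by
  classical
  let b := Module.finBasis k V
  let e := LinearMap.toMatrixAlgEquiv b
  rcases isEmpty_or_nonempty (Fin (Module.finrank k V)) with hn | ⟨⟨i0⟩⟩
  · refine ⟨0, fun a => ?_⟩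
    rw [show a = 0 from b.ext fun i => isEmptyElim i, map_zero, map_zero, mul_zero]
  let L' : Matrix (Fin (Module.finrank k V)) (Fin (Module.finrank k V)) k →ₗ[k] k :=
    L ∘ₗ e.symm.toLinearMap
  have hL' : ∀ a b, L' (a * b) = L' (b * a) := fun x y => by
    simp only [L', LinearMap.comp_apply, AlgEquiv.toLinearMap_apply, map_mul, hL]
  refine ⟨L' (Matrix.single i0 i0 1), fun a => ?_⟩
  have key : L' = L' (Matrix.single i0 i0 1) • Matrix.traceLinearMap _ k k := by
    refine Matrix.ext_linearMap (R := k) fun i j => LinearMap.ext_ring ?_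
    show L' (Matrix.single i j 1) = L' (Matrix.single i0 i0 1) • (Matrix.single i j (1 : k)).trace
    rcases eq_or_ne i j with rfl | hij
    · rw [Matrix.trace_single_eq_same, smul_eq_mul, mul_one]
      have h := hL' (Matrix.single i i0 1) (Matrix.single i0 i 1)
      rwa [Matrix.single_mul_single_same, Matrix.single_mul_single_same, mul_one] at h
    · rw [Matrix.trace_single_eq_of_ne _ _ _ hij, smul_zero]
      have h := hL' (Matrix.single i j 1) (Matrix.single j j 1)
      rwa [Matrix.single_mul_single_same, mul_one, Matrix.single_mul_single_of_ne _ _ _ _ hij.symm,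
        map_zero] at h
  have h := LinearMap.congr_fun key (e a)
  simp only [L', LinearMap.comp_apply, AlgEquiv.toLinearMap_apply, AlgEquiv.symm_apply_apply,
    LinearMap.smul_apply, Matrix.traceLinearMap_apply, smul_eq_mul] at h
  rw [h, LinearMap.trace_eq_matrix_trace k b]
  rfl

end Trace

open ComodLib

section Char

variable {k : Type u} [Field k] {A : Type v} [AddCommGroup A] [Module k A] [Coalgebra k A]

/-- The character of a comodule structure on a coordinate space. -/
noncomputable def chi {d : ℕ} (c : HopfRep.Comod k A (Fin d → k)) : A :=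
  ∑ i : Fin d, TensorProduct.lid k A (LinearMap.rTensor A (LinearMap.proj i)
    (c.coact (Pi.single i 1)))

theorem apply_chi {d : ℕ} (c : HopfRep.Comod k A (Fin d → k)) (φ : A →ₗ[k] k) :
    φ (chi c) = LinearMap.trace k (Fin d → k) (@actF k _ A _ _ (Fin d → k) _ _ _ c φ) := by
  letI := c
  rw [LinearMap.trace_eq_matrix_trace k (Pi.basisFun k (Fin d)), Matrix.trace, chi, map_sum]
  refine Finset.sum_congr rfl fun i _ => ?_
  rw [Matrix.diag_apply, LinearMap.toMatrix_apply, Pi.basisFun_apply, Pi.basisFun_repr, actF_apply]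
  induction c.coact (Pi.single i 1) using TensorProduct.induction_on with
  | zero => simp
  | tmul x a => simp [mul_comm]
  | add p q hp hq => simp only [map_add, Pi.add_apply, hp, hq]

/-- Cocommutativity at an element, through pairs of forms. -/
def IsCentral (f : A) : Prop :=
  ∀ φ ψ : WithConv (A →ₗ[k] k), (φ * ψ).ofConv f = (ψ * φ).ofConv f

theorem isCentral_chi {d : ℕ} (c : HopfRep.Comod k A (Fin d → k)) : IsCentral (k := k) (chi c) := by
  letI := c
  intro φ ψ
  rw [apply_chi, apply_chi]
  have h : ∀ φ ψ : WithConv (A →ₗ[k] k), (actF (φ * ψ).ofConv : Module.End k (Fin d → k)) =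
      (actF φ.ofConv : Module.End k (Fin d → k)) * actF ψ.ofConv :=
    fun φ ψ => LinearMap.ext fun v => actF_convMul φ ψ v
  rw [h, h, LinearMap.trace_mul_comm]

theorem isCentral_of_mem_span {f : A}
    (hf : f ∈ Submodule.span k (Set.range fun p : (Σ d : ℕ, HopfRep.Comod k A (Fin d → k)) => chi p.2)) :
    IsCentral (k := k) f := by
  induction hf using Submodule.span_induction with
  | mem x hx => obtain ⟨p, rfl⟩ := hx; exact isCentral_chi p.2
  | zero => intro φ ψ; rw [map_zero, map_zero]
  | add x y _ _ hx hy => intro φ ψ; rw [map_add, map_add, hx, hy]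
  | smul r x _ hx => intro φ ψ; rw [map_smul, map_smul, hx]

theorem counit_actF (φ : A →ₗ[k] k) (a : A) :
    Coalgebra.counit (R := k) (actF (C := A) φ a) = φ a := by
  have h := congrArg (TensorProduct.lid k A) (Coalgebra.rTensor_counit_comul (R := k) a)
  rw [TensorProduct.lid_tmul, one_smul] at h
  conv_rhs => rw [← h]
  rw [actF_apply]
  show Coalgebra.counit (slice φ (Coalgebra.comul (R := k) a)) = _
  induction Coalgebra.comul (R := k) a using TensorProduct.induction_on with
  | zero => simp
  | tmul x y => simp [mul_comm]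
  | add p q hp hq => simp only [map_add, hp, hq]

variable [IsAlgClosed k]

/-- Characters of pairwise non-isomorphic simple comodules are linearly independent. -/
theorem linearIndependent_chi (n : ℕ) (d : Fin n → ℕ) (c : ∀ i, HopfRep.Comod k A (Fin (d i) → k))
    (hs : ∀ i, @HopfRep.IsSimpleComod k A _ _ _ _ (Fin (d i) → k) _ _ (c i))
    (hne : ∀ i j, i ≠ j → ∀ P : (Fin (d i) → k) ≃ₗ[k] (Fin (d j) → k),
      LinearMap.rTensor A P.toLinearMap ∘ₗ (c i).coact ≠ (c j).coact ∘ₗ P.toLinearMap) :
    LinearIndependent k fun i : Fin n => chi (c i) := by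
  classical
  letI : ∀ i, HopfRep.Comod k A (Fin (d i) → k) := c
  haveI : ∀ i, IsSimpleModule (WithConv (A →ₗ[k] k)) (Fin (d i) → k) :=
    fun i => isSimpleComod_iff_isSimpleModule.mp (hs i)
  rw [Fintype.linearIndependent_iff]
  intro g hg j
  have hpos : 0 < d j := by
    rcases Nat.eq_zero_or_pos (d j) with h | h
    · haveI := (hs j).1
      haveI : IsEmpty (Fin (d j)) := h ▸ Fin.isEmpty'
      exact absurd (inferInstance : Subsingleton (Fin (d j) → k)) (not_subsingleton _)
    · exact h
  let E : Module.End k (Fin (d j) → k) :=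
    (LinearMap.proj (⟨0, hpos⟩ : Fin (d j))).smulRight (Pi.single (⟨0, hpos⟩ : Fin (d j)) (1 : k))
  obtain ⟨r, hr⟩ := density (R := WithConv (A →ₗ[k] k)) (V := fun i => Fin (d i) → k)
    (fun a b hab => ⟨fun P => hne a b hab (P.restrictScalars k)
      (LinearMap.ext fun x => (LinearMap.congr_fun (isComodHom_of_convLinear P.toLinearMap) x).symm)⟩)
    (Pi.single j E)
  have h := congrArg r.ofConv hg
  rw [map_zero, map_sum, Finset.sum_eq_single j] at h
  · rw [map_smul, apply_chi, show (@actF k _ A _ _ (Fin (d j) → k) _ _ _ (c j) r.ofConv) = E from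
      LinearMap.ext fun x => (hr j x).trans (LinearMap.congr_fun (Pi.single_eq_same (M := fun i => Module.End k (Fin (d i) → k)) j E) x),
      LinearMap.trace_smulRight, LinearMap.proj_apply, Pi.single_eq_same, smul_eq_mul, mul_one] at h
    exact h
  · intro i _ hij
    rw [map_smul, apply_chi, show (@actF k _ A _ _ (Fin (d i) → k) _ _ _ (c i) r.ofConv) = 0 from
      LinearMap.ext fun x => (hr i x).trans (LinearMap.congr_fun (Pi.single_eq_of_ne (M := fun i => Module.End k (Fin (d i) → k)) hij E) x),
      map_zero, smul_zero]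
  · exact fun h => absurd (Finset.mem_univ j) h

end Char

section Span

variable {k : Type u} [Field k] [IsAlgClosed k] {A : Type v} [CommRing A] [Bialgebra k A]

/-- An element whose values are a linear function of the action on pairwise non-isomorphic simple
subcomodules, and which is cocommutative, is a combination of their characters. -/
theorem mem_span_chi_of_family {U : Type v} [AddCommGroup U] [Module k U] [cU : HopfRep.Comod k A U]
    {Q : Type w} [Fintype Q] (N : Q → Submodule (WithConv (A →ₗ[k] k)) U)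
    [∀ q, IsSimpleModule (WithConv (A →ₗ[k] k)) (N q)] [∀ q, FiniteDimensional k (N q)]
    (hne : ∀ p q, p ≠ q → IsEmpty (N p ≃ₗ[WithConv (A →ₗ[k] k)] N q))
    (L : (∀ q, Module.End k (N q)) →ₗ[k] k) {f : A} (hf : IsCentral (k := k) f)
    (hL : ∀ r : WithConv (A →ₗ[k] k),
      r.ofConv f = L fun q => Module.toModuleEnd k (S := WithConv (A →ₗ[k] k)) (N q) r) :
    f ∈ Submodule.span k (Set.range fun p : (Σ d : ℕ, HopfRep.Comod k A (Fin d → k)) => chi p.2) := by
  classical
  let Φ : WithConv (A →ₗ[k] k) → ∀ q, Module.End k (N q) := fun r q =>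
    Module.toModuleEnd k (S := WithConv (A →ₗ[k] k)) (N q) r
  have hΦ : ∀ T, ∃ r, Φ r = T := fun T => by
    obtain ⟨r, hr⟩ := density (R := WithConv (A →ₗ[k] k)) (V := fun q : Q => N q) hne T
    exact ⟨r, funext fun q => LinearMap.ext fun y => hr q y⟩
  have hmul : ∀ r r', Φ (r * r') = Φ r * Φ r' := fun r r' => funext fun q =>
    map_mul (Module.toModuleEnd k (S := WithConv (A →ₗ[k] k)) (N q)) r r'
  have hLc : ∀ a b, L (a * b) = L (b * a) := fun a b => by
    obtain ⟨r, rfl⟩ := hΦ a
    obtain ⟨r', rfl⟩ := hΦ b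
    rw [← hmul, ← hmul, ← hL, ← hL]
    exact hf r r'
  choose lam hlam using fun q => exists_smul_trace
    (L ∘ₗ LinearMap.single k (fun q => Module.End k (N q)) q) fun a b => by
      simp only [LinearMap.comp_apply, LinearMap.single_apply, Pi.single_mul, hLc]
  let bq := fun q : Q => Module.finBasis k (N q)
  have hsub : ∀ q : Q, HopfRep.IsSubcomod (k := k) (A := A) ((N q).restrictScalars k) :=
    fun q => isSubcomod_restrictScalars _
  let cq : ∀ q : Q, HopfRep.Comod k A (N q) := fun q =>
    ComodSub.Comod.restr cU ((N q).restrictScalars k) (hsub q)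
  let cd : ∀ q : Q, HopfRep.Comod k A (Fin (Module.finrank k (N q)) → k) := fun q =>
    ComodTens.Comod.ofEquiv (bq q).equivFun (cq q)
  have htr : ∀ r q, LinearMap.trace k _ (Φ r q) = r.ofConv (chi (cd q)) := fun r q => by
    letI := cq q
    letI : HopfRep.Comod k A ((N q).restrictScalars k) := cq q
    letI := cd q
    rw [apply_chi, ← LinearMap.trace_conj' (Φ r q) (bq q).equivFun]
    refine congrArg _ (LinearMap.ext fun y => ?_)
    rw [LinearEquiv.conj_apply_apply]
    refine (congrArg (bq q).equivFun ?_).trans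
      ((comodHom_actF (isComodHom_ofEquiv (bq q).equivFun (cq q)) r.ofConv ((bq q).equivFun.symm y)).trans
        (congrArg _ ((bq q).equivFun.apply_symm_apply y)))
    exact Subtype.ext (comodHom_actF (ComodSub.isComodHom_subtype cU ((N q).restrictScalars k) (hsub q))
      r.ofConv ((bq q).equivFun.symm y)).symm
  have key : f = ∑ q, lam q • chi (cd q) := by
    rw [← sub_eq_zero, ← Module.forall_dual_apply_eq_zero_iff k]
    intro φ
    rw [map_sub, map_sum, sub_eq_zero]
    refine (hL (toConv φ)).trans ?_
    show L (Φ (toConv φ)) = _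
    conv_lhs => rw [← Finset.univ_sum_single (Φ (toConv φ)), map_sum]
    refine Finset.sum_congr rfl fun q _ => ?_
    rw [map_smul, smul_eq_mul]
    exact (hlam q _).trans (congrArg _ (htr (toConv φ) q))
  rw [key]
  exact Submodule.sum_mem _ fun q _ => Submodule.smul_mem _ _
    (Submodule.subset_span ⟨⟨_, cd q⟩, rfl⟩)

/-- For a linearly reductive group the cocommutative functions are combinations of characters. -/
theorem mem_span_chi (hred : HopfRep.IsLinearlyReductive k A) {f : A} (hf : IsCentral (k := k) f) :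
    f ∈ Submodule.span k (Set.range fun p : (Σ d : ℕ, HopfRep.Comod k A (Fin d → k)) => chi p.2) := by
  classical
  obtain ⟨U, hUf, hfU, hU⟩ := exists_finite_subcomod_mem (k := k) (C := A) (V := A) f
  letI cU : HopfRep.Comod k A U := ComodSub.Comod.restr (HopfRep.Comod.regular k A) U hU
  have hUh : Hoch.IsComodHom A U.subtype :=
    ComodSub.isComodHom_subtype (HopfRep.Comod.regular k A) U hU
  haveI := isSemisimpleComod_iff_isSemisimpleModule.mp (hred U hUf)
  obtain ⟨s, -, htop, hsimp⟩ :=
    IsSemisimpleModule.exists_sSupIndep_sSup_simples_eq_top (WithConv (A →ₗ[k] k)) U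
  have hfs : (⟨f, hfU⟩ : U) ∈ ⨆ N : s, (N : Submodule (WithConv (A →ₗ[k] k)) U) := by
    rw [← sSup_eq_iSup', htop]; exact Submodule.mem_top
  obtain ⟨x, hx, hsum⟩ := (Submodule.mem_iSup_iff_exists_finsupp _ _).mp hfs
  let N : x.support → Submodule (WithConv (A →ₗ[k] k)) U := fun a => a.1.1
  haveI : ∀ a, IsSimpleModule (WithConv (A →ₗ[k] k)) (N a) := fun a => hsimp _ a.1.2
  haveI hNf : ∀ a, FiniteDimensional k (N a) := fun a =>
    Module.Finite.equiv (Submodule.restrictScalarsEquiv k (WithConv (A →ₗ[k] k)) U (N a) |>.restrictScalars k)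
  let S : Setoid x.support :=
    ⟨fun a b => Nonempty (N a ≃ₗ[WithConv (A →ₗ[k] k)] N b), fun a => ⟨LinearEquiv.refl _ _⟩,
      fun ⟨e⟩ => ⟨e.symm⟩, fun ⟨e⟩ ⟨e'⟩ => ⟨e.trans e'⟩⟩
  let V : Quotient S → Type v := fun q => N q.out
  letI : Fintype (Quotient S) := Fintype.ofFinite _
  let e : ∀ a : x.support, N (Quotient.mk S a).out ≃ₗ[WithConv (A →ₗ[k] k)] N a :=
    fun a => Classical.choice (Quotient.mk_out (s := S) a)
  let incl : ∀ a, (N a) →ₗ[k] A := fun a => U.subtype ∘ₗ ((N a).subtype.restrictScalars k)
  let v : ∀ a : x.support, N (Quotient.mk S a).out := fun a => (e a).symm ⟨x a.1, hx a.1⟩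
  let L : (∀ q : Quotient S, Module.End k (N q.out)) →ₗ[k] k :=
    ∑ a : x.support, (Coalgebra.counit ∘ₗ incl a ∘ₗ ((e a).restrictScalars k).toLinearMap) ∘ₗ
      (LinearMap.applyₗ (v a)) ∘ₗ (LinearMap.proj (Quotient.mk S a))
  have hincl : ∀ (r : WithConv (A →ₗ[k] k)) a (y : N a),
      incl a (r • y) = actF (C := A) r.ofConv (incl a y) := fun r a y =>
    comodHom_actF hUh r.ofConv y.1
  have hfx : f = ∑ a : x.support, incl a ⟨x a.1, hx a.1⟩ := by
    have h := congrArg U.subtype hsum
    rw [Finsupp.sum, map_sum] at h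
    exact h.symm.trans (Finset.sum_coe_sort x.support fun a => U.subtype (x a)).symm
  have hL : ∀ r : WithConv (A →ₗ[k] k), r.ofConv f =
      L fun q => Module.toModuleEnd k (S := WithConv (A →ₗ[k] k)) (N q.out) r := by
    intro r
    rw [← counit_actF r.ofConv f, hfx, map_sum, map_sum]
    simp only [L, LinearMap.sum_apply, LinearMap.comp_apply]
    refine Finset.sum_congr rfl fun a _ => congrArg Coalgebra.counit ?_
    rw [← hincl r a]
    refine congrArg (incl a) ?_
    show _ = (e a) (r • v a)
    rw [map_smul, LinearEquiv.apply_symm_apply]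
  refine mem_span_chi_of_family (fun q : Quotient S => N q.out)
    (fun p q hpq => ⟨fun E => hpq (by rw [← p.out_eq, ← q.out_eq]; exact Quotient.sound ⟨E⟩)⟩) L hf hL

end Span

section ClassFn

open CategoryTheory MonoidalCategory CartesianMonoidalCategory MonObj AlgebraicGeometry

variable {k : Type u} [Field k] {A : Type u} [CommRing A] [HopfAlgebra k A]

omit [HopfAlgebra k A] in
theorem appTop_pt {B K : Type u} [CommRing B] [Algebra k B] [CommRing K] [Algebra k K] (φ : B →ₐ[k] K)
    (b : B) : (CoactBr.pt φ).left.appTop ((Scheme.ΓSpecIso (CommRingCat.of B)).inv b) =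
      (Scheme.ΓSpecIso (CommRingCat.of K)).inv (φ b) :=
  LineLimit.appTop_spMap k φ b

/-- Cocommutativity at an element. -/
def IsCocomm (f : A) : Prop :=
  TensorProduct.comm k A A (Coalgebra.comul (R := k) f) = Coalgebra.comul (R := k) f

theorem isCocomm_iff_isCentral (f : A) : IsCocomm (k := k) f ↔ IsCentral (k := k) f := by
  have key : ∀ φ ψ : WithConv (A →ₗ[k] k), (φ * ψ).ofConv f =
      slice (V := k) ψ.ofConv (φ.ofConv.rTensor A (Coalgebra.comul (R := k) f)) := fun φ ψ => by
    show LinearMap.mul' k k (TensorProduct.map φ.ofConv ψ.ofConv (Coalgebra.comul (R := k) f)) = _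
    induction Coalgebra.comul (R := k) f using TensorProduct.induction_on with
    | zero => simp
    | tmul a b => simp [mul_comm]
    | add p q hp hq => simp only [map_add, hp, hq]
  have key' : ∀ φ ψ : WithConv (A →ₗ[k] k), (ψ * φ).ofConv f =
      slice (V := k) ψ.ofConv (φ.ofConv.rTensor A (TensorProduct.comm k A A (Coalgebra.comul (R := k) f))) :=
    fun φ ψ => by
    show LinearMap.mul' k k (TensorProduct.map ψ.ofConv φ.ofConv (Coalgebra.comul (R := k) f)) = _
    induction Coalgebra.comul (R := k) f using TensorProduct.induction_on with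
    | zero => simp
    | tmul a b => simp [mul_comm]
    | add p q hp hq => simp only [map_add, hp, hq]
  constructor
  · intro h φ ψ
    rw [key, key', show TensorProduct.comm k A A (Coalgebra.comul (R := k) f) = _ from h]
  · intro h
    refine ext_of_forall_slice_eq fun ψ => ?_
    rw [← sub_eq_zero, ← Module.forall_dual_apply_eq_zero_iff k]
    intro φ
    have h' := h (toConv φ) (toConv ψ)
    rw [key, key'] at h'
    have e : ∀ z : A ⊗[k] A, slice (V := k) ψ (φ.rTensor A z) = φ (slice ψ z) := fun z => slice_rTensor ψ φ z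
    rw [map_sub, sub_eq_zero, ← e, ← e]
    exact h'.symm

theorem appTop_mul_pt {K : Type u} [CommRing K] [Algebra k K] (g h : A →ₐ[k] K) (f : A) :
    (CoactBr.pt g * CoactBr.pt h).left.appTop ((Scheme.ΓSpecIso (CommRingCat.of A)).inv f) =
      (Scheme.ΓSpecIso (CommRingCat.of K)).inv
        (LinearMap.mul' k K (TensorProduct.map g.toLinearMap h.toLinearMap (Coalgebra.comul (R := k) f))) := by
  refine ((congrArg (fun p : CoactBr.sp k K ⟶ CoactBr.sp k A => p.left.appTop
    ((Scheme.ΓSpecIso (CommRingCat.of A)).inv f)) (CoactBr.pt_mul_pt g h))).trans ((appTop_pt _ f).trans ?_)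
  refine congrArg _ ?_
  show Algebra.TensorProduct.lift g h (fun _ _ => .all _ _) (Coalgebra.comul (R := k) f) = _
  induction Coalgebra.comul (R := k) f using TensorProduct.induction_on with
  | zero => simp
  | tmul a b => simp
  | add p q hp hq => simp only [map_add, hp, hq]

/-- The conjugation of the two universal points, evaluated. -/
theorem isCocomm_of_classFn (f : A)
    (h : ∀ (T : Over (Spec (CommRingCat.of k))) (x g : T ⟶ CoactBr.sp k A),
      (x * g * x⁻¹).left.appTop ((Scheme.ΓSpecIso (CommRingCat.of A)).inv f) =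
        g.left.appTop ((Scheme.ΓSpecIso (CommRingCat.of A)).inv f)) : IsCocomm (k := k) f := by
  let l : CoactBr.sp k (A ⊗[k] A) ⟶ CoactBr.sp k A := CoactBr.pt Algebra.TensorProduct.includeLeft
  let r : CoactBr.sp k (A ⊗[k] A) ⟶ CoactBr.sp k A := CoactBr.pt Algebra.TensorProduct.includeRight
  have h' := h _ l (r * l)
  rw [show l * (r * l) * l⁻¹ = l * r from by group, appTop_mul_pt, appTop_mul_pt] at h'
  have h'' := LineLimit.fn_injective k h'
  rw [IsCocomm]
  refine Eq.trans ?_ (h''.symm.trans ?_)
  all_goals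
    induction Coalgebra.comul (R := k) f using TensorProduct.induction_on with
    | zero => simp
    | tmul a b => simp
    | add p q hp hq => simp only [map_add, hp, hq]

theorem classFn_of_isCocomm (f : A) (hf : IsCocomm (k := k) f)
    (T : Over (Spec (CommRingCat.of k))) (x g : T ⟶ CoactBr.sp k A) :
    (x * g * x⁻¹).left.appTop ((Scheme.ΓSpecIso (CommRingCat.of A)).inv f) =
      g.left.appTop ((Scheme.ΓSpecIso (CommRingCat.of A)).inv f) := by
  letI : Algebra k Γ(T.left, ⊤) := ((Scheme.ΓSpecIso (CommRingCat.of k)).inv ≫ T.hom.appTop).hom.toAlgebra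
  have hev : ∀ y : T ⟶ CoactBr.sp k A, ∀ c : k,
      y.left.appTop ((Scheme.ΓSpecIso (CommRingCat.of A)).inv (algebraMap k A c)) =
        algebraMap k Γ(T.left, ⊤) c := fun y c => by
    have hy := congrArg Scheme.Hom.appTop (Over.w y)
    rw [Scheme.Hom.comp_appTop] at hy
    refine Eq.trans ?_ (congrArg (fun ψ => (ConcreteCategory.hom ψ)
      ((Scheme.ΓSpecIso (CommRingCat.of k)).inv c)) hy)
    exact congrArg _ ((congrArg (fun ψ => (ConcreteCategory.hom ψ) c)
      (Scheme.ΓSpecIso_inv_naturality (CommRingCat.ofHom (algebraMap k A)))))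
  let ev : (T ⟶ CoactBr.sp k A) → A →ₐ[k] Γ(T.left, ⊤) := fun y =>
    { ((Scheme.ΓSpecIso (CommRingCat.of A)).inv ≫ y.left.appTop).hom with commutes' := hev y }
  let F : A ⊗[k] A →ₐ[k] Γ(T.left, ⊤) :=
    Algebra.TensorProduct.lift (ev x) (ev g) fun _ _ => .all _ _
  let p : T ⟶ CoactBr.sp k (A ⊗[k] A) := LineLimit.toSp k T (CommRingCat.ofHom F.toRingHom) (by
    ext c
    exact F.commutes c)
  haveI : IsAffine (CoactBr.sp k A).left :=
    inferInstanceAs (IsAffine (Spec (CommRingCat.of A)))
  have hp : ∀ (φ : A →ₐ[k] A ⊗[k] A) (y : T ⟶ CoactBr.sp k A), F.comp φ = ev y → y = p ≫ CoactBr.pt φ := by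
    intro φ y hy
    refine Over.OverMorphism.ext (ext_of_isAffine ?_)
    show y.left.appTop = (p.left ≫ (CoactBr.pt φ).left).appTop
    rw [Scheme.Hom.comp_appTop]
    ext a
    obtain ⟨b, rfl⟩ := (Scheme.ΓSpecIso (CommRingCat.of A)).symm.commRingCatIsoToRingEquiv.surjective a
    refine Eq.trans ?_ (congrArg p.left.appTop (appTop_pt φ b)).symm
    refine Eq.trans ?_ (LineLimit.appTop_toSp k T _ _ _).symm
    exact (DFunLike.congr_fun hy b).symm
  rw [hp Algebra.TensorProduct.includeLeft x (Algebra.TensorProduct.lift_comp_includeLeft _ _ fun _ _ => .all _ _),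
    hp Algebra.TensorProduct.includeRight g (Algebra.TensorProduct.lift_comp_includeRight _ _ fun _ _ => .all _ _),
    ← MonObj.comp_mul, ← GrpObj.comp_inv, ← MonObj.comp_mul, Over.comp_left, Over.comp_left,
    Scheme.Hom.comp_appTop, Scheme.Hom.comp_appTop]
  refine congrArg p.left.appTop ?_
  generalize (Algebra.TensorProduct.includeLeft : A →ₐ[k] A ⊗[k] A) = l
  generalize (Algebra.TensorProduct.includeRight : A →ₐ[k] A ⊗[k] A) = r
  have swap : ∀ (a b : A →ₐ[k] A ⊗[k] A),
      (CoactBr.pt a * CoactBr.pt b).left.appTop ((Scheme.ΓSpecIso (CommRingCat.of A)).inv f) =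
        (CoactBr.pt b * CoactBr.pt a).left.appTop ((Scheme.ΓSpecIso (CommRingCat.of A)).inv f) := by
    intro a b
    rw [appTop_mul_pt, appTop_mul_pt]
    congr 1
    conv_lhs => rw [← show TensorProduct.comm k A A (Coalgebra.comul (R := k) f) = _ from hf]
    induction Coalgebra.comul (R := k) f using TensorProduct.induction_on with
    | zero => simp
    | tmul u v => simp [mul_comm]
    | add p q hp hq => simp only [map_add, hp, hq]
  obtain ⟨m, hm⟩ : ∃ m, CoactBr.pt l * CoactBr.pt r = CoactBr.pt m := ⟨_, CoactBr.pt_mul_pt l r⟩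
  rw [hm, CoactBr.pt_inv]
  refine (swap _ _).trans ?_
  rw [← CoactBr.pt_inv, ← hm, inv_mul_cancel_left]
  rfl

end ClassFn

end Groth.Agent.AlgGrpQ.Characters
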