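import Groth.Agent.ComodLib.Criterion
import Groth.Agent.ComodLib.Integral
import Groth.Agent.ComodLib.Antipode
import Groth.Agent.ComodLib.HopfSubInv
import Groth.Agent.GrpSchLib.HopfFlat
import Mathlib.RingTheory.Flat.Equalizer

/-!
# Linear reductivity in an exact sequence of affine groups
-/

set_option autoImplicit false
set_option backward.isDefEq.respectTransparency false
set_option backward.isDefEq.respectTransparency.types false
set_option maxSynthPendingDepth 5

universe u

open TensorProduct WithConv

namespace Groth.Agent.AlgGrpQ.ExactReductive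

open Groth.Agent.ComodLib
open HopfRep (Comod)

variable {k : Type u} [Field k] {A B C : Type u} [CommRing A] [HopfAlgebra k A]
  [CommRing B] [HopfAlgebra k B] [CommRing C] [HopfAlgebra k C]

theorem isIntegral_antipode {β : A →ₗ[k] k} (hβ : IsRightIntegral k β) :
    IsIntegral k (β ∘ₗ HopfAlgebra.antipode k) := by
  intro a
  have key : ∀ z : A ⊗[k] A,
      TensorProduct.comm k A k ((HopfAlgebra.antipode k).rTensor k
        (β.lTensor A (TensorProduct.map (HopfAlgebra.antipode k) (HopfAlgebra.antipode k)
          (TensorProduct.comm k A A z)))) = (β ∘ₗ HopfAlgebra.antipode k).rTensor A z := fun z => by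
    induction z using TensorProduct.induction_on with
    | zero => simp
    | tmul p q => simp [antipode_antipode_apply]
    | add p q hp hq => simp only [map_add, hp, hq]
  rw [← key, ← comul_antipode, hβ]
  simp

theorem isRightIntegral_antipode {α : A →ₗ[k] k} (hα : IsIntegral k α) :
    IsRightIntegral k (α ∘ₗ HopfAlgebra.antipode k) :=
  hα.isRightIntegral_antipode

/-- A quotient group of a linearly reductive group is linearly reductive. -/
theorem isLinearlyReductive_quotient (φ : C →ₐc[k] A) (hφ : Function.Injective φ)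
    (hA : HopfRep.IsLinearlyReductive k A) : HopfRep.IsLinearlyReductive k C := by
  obtain ⟨α, hα, h1⟩ := exists_integral_of_isLinearlyReductive hA
  let φl : C →ₗ[k] A := (φ : C →ₐ[k] A).toLinearMap
  refine isLinearlyReductive_of_integral (α := α ∘ₗ φl) (fun c => ?_) (by simpa [φl] using h1)
  have hinj : Function.Injective (φl.lTensor k) :=
    Module.Flat.lTensor_preserves_injective_linearMap _ hφ
  apply hinj
  have key : ∀ z : C ⊗[k] C, φl.lTensor k ((α ∘ₗ φl).rTensor C z) = α.rTensor A (TensorProduct.map φl φl z) :=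
    fun z => by
      induction z using TensorProduct.induction_on with
      | zero => simp
      | tmul p q => simp
      | add p q hp hq => simp only [map_add, hp, hq]
  rw [key, show TensorProduct.map φl φl (Coalgebra.comul (R := k) c) = Coalgebra.comul (R := k) (φl c) from
    CoalgHomClass.map_comp_comul_apply φ c, hα]
  simp [φl]

variable (ψ : A →ₐc[k] B)

/-- The coaction of the subgroup on the functions of the group by right translation. -/
noncomputable def ρ₁ : A →ₐ[k] A ⊗[k] B :=
  (Algebra.TensorProduct.map (AlgHom.id k A) (ψ : A →ₐ[k] B)).comp (Bialgebra.comulAlgHom k A)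

theorem ρ₁_eq : toConv (Algebra.TensorProduct.includeLeft : A →ₐ[k] A ⊗[k] B) *
    toConv ((Algebra.TensorProduct.includeRight : B →ₐ[k] A ⊗[k] B).comp (ψ : A →ₐ[k] B)) = toConv (ρ₁ ψ) := by
  refine WithConv.ofConv_injective (AlgHom.ext fun a => ?_)
  rw [AlgHom.convMul_apply]
  show _ = Algebra.TensorProduct.map (AlgHom.id k A) (ψ : A →ₐ[k] B) (Coalgebra.comul (R := k) a)
  simp only [ofConv_toConv]
  induction Coalgebra.comul (R := k) a using TensorProduct.induction_on with
  | zero => simp
  | tmul p q => simp
  | add p q hp hq => simp only [map_add, hp, hq]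

/-- An element invariant under the kernel comes from the quotient. -/
theorem mem_range_of_invariant [Algebra.FiniteType k A] [Algebra.FiniteType k C] (φ : C →ₐc[k] A)
    (hφ : Function.Injective φ) (hψ : Function.Surjective ψ)
    (hker : RingHom.ker (ψ : A →ₐ[k] B) =
      Ideal.map (φ : C →ₐ[k] A) (RingHom.ker (Bialgebra.counitAlgHom k C)))
    (a : A) (ha : ρ₁ ψ a = a ⊗ₜ[k] (1 : B)) : a ∈ Set.range φ := by
  refine mem_range_of_comul_sub_mem φ hφ a ?_
  let I := ((Ideal.map (φ : C →+* A) (RingHom.ker (Bialgebra.counitAlgHom k C))).restrictScalars k)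
  have hex : Function.Exact I.subtype (ψ : A →ₐ[k] B).toLinearMap := by
    rw [LinearMap.exact_iff, Submodule.range_subtype]
    refine Submodule.ext fun x => ?_
    show x ∈ RingHom.ker (ψ : A →ₐ[k] B) ↔ _
    rw [hker]
    rfl
  have h := lTensor_exact A hex hψ
  refine ((h _).mp ?_)
  rw [map_sub, sub_eq_zero]
  show ρ₁ ψ a = (ψ : A →ₐ[k] B).toLinearMap.lTensor A (a ⊗ₜ[k] (1 : A))
  rw [ha, LinearMap.lTensor_tmul]
  simp

/-- A normal subgroup with linearly reductive quotient and which is linearly reductive itself. -/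
theorem isLinearlyReductive_of_exact [Algebra.FiniteType k A] [Algebra.FiniteType k C] (φ : C →ₐc[k] A)
    (hφ : Function.Injective φ) (hψ : Function.Surjective ψ)
    (hker : RingHom.ker (ψ : A →ₐ[k] B) =
      Ideal.map (φ : C →ₐ[k] A) (RingHom.ker (Bialgebra.counitAlgHom k C)))
    (hB : HopfRep.IsLinearlyReductive k B) (hC : HopfRep.IsLinearlyReductive k C) :
    HopfRep.IsLinearlyReductive k A := by
  obtain ⟨α, hα, hα1⟩ := exists_integral_of_isLinearlyReductive hB
  obtain ⟨γ, hγ, hγ1⟩ := exists_integral_of_isLinearlyReductive hC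
  let αr := α ∘ₗ HopfAlgebra.antipode k
  let γr := γ ∘ₗ HopfAlgebra.antipode k
  have hαr : IsRightIntegral k αr := hα.isRightIntegral_antipode
  have hγr : IsRightIntegral k γr := hγ.isRightIntegral_antipode
  let ψl : A →ₗ[k] B := (ψ : A →ₐ[k] B).toLinearMap
  let φl : C →ₗ[k] A := (φ : C →ₐ[k] A).toLinearMap
  let β : A →ₗ[k] k := αr ∘ₗ ψl
  let E : A →ₗ[k] A := (TensorProduct.rid k A).toLinearMap ∘ₗ β.lTensor A ∘ₗ Coalgebra.comul
  -- left translations commute with the projection
  have hE : ∀ a, Coalgebra.comul (R := k) (E a) = E.lTensor A (Coalgebra.comul (R := k) a) := by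
    intro a
    have e1 : ∀ z : A ⊗[k] A, Coalgebra.comul (R := k) (TensorProduct.rid k A (β.lTensor A z)) =
        ((TensorProduct.rid k A).toLinearMap ∘ₗ β.lTensor A).lTensor A
          (TensorProduct.assoc k A A A ((Coalgebra.comul (R := k)).rTensor A z)) := fun z => by
      induction z using TensorProduct.induction_on with
      | zero => simp
      | tmul p q =>
        simp only [LinearMap.lTensor_tmul, LinearMap.rTensor_tmul, TensorProduct.rid_tmul, map_smul]
        induction Coalgebra.comul (R := k) p using TensorProduct.induction_on with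
        | zero => simp
        | tmul x y => simp [TensorProduct.tmul_smul]
        | add x y hx hy => simp only [add_tmul, map_add, smul_add, hx, hy]
      | add p q hp hq => simp only [map_add, hp, hq]
    show Coalgebra.comul (R := k) (TensorProduct.rid k A (β.lTensor A (Coalgebra.comul (R := k) a))) = _
    rw [e1, Coalgebra.coassoc_apply, ← LinearMap.comp_apply, ← LinearMap.lTensor_comp]
    rfl
  have hinv : ∀ a, ρ₁ ψ (E a) = E a ⊗ₜ[k] (1 : B) := by
    intro a
    have e2 : ∀ c, ψl ((TensorProduct.rid k A) (β.lTensor A (Coalgebra.comul (R := k) c))) = β c • (1 : B) := by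
      intro c
      have h := congrArg (TensorProduct.rid k B) (hαr (ψl c))
      rw [show Coalgebra.comul (R := k) (ψl c) = TensorProduct.map ψl ψl (Coalgebra.comul (R := k) c) from
        (CoalgHomClass.map_comp_comul_apply ψ c).symm, TensorProduct.rid_tmul] at h
      refine Eq.trans ?_ h
      induction Coalgebra.comul (R := k) c using TensorProduct.induction_on with
      | zero => simp
      | tmul p q => simp [β]
      | add p q hp hq => simp only [map_add, hp, hq]
    show Algebra.TensorProduct.map (AlgHom.id k A) (ψ : A →ₐ[k] B) (Coalgebra.comul (R := k) (E a)) = _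
    rw [hE]
    show _ = TensorProduct.rid k A (β.lTensor A (Coalgebra.comul (R := k) a)) ⊗ₜ[k] (1 : B)
    induction Coalgebra.comul (R := k) a using TensorProduct.induction_on with
    | zero => simp
    | tmul p q =>
      show p ⊗ₜ[k] ψl (E q) = _
      rw [show ψl (E q) = β q • (1 : B) from e2 q, LinearMap.lTensor_tmul, TensorProduct.rid_tmul,
        TensorProduct.smul_tmul]
    | add p q hp hq => simp only [map_add, add_tmul, hp, hq]
  have hrange : ∀ a, E a ∈ LinearMap.range φl := fun a => mem_range_of_invariant ψ φ hφ hψ hker _ (hinv a)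
  let e := LinearEquiv.ofInjective φl hφ
  let E' : A →ₗ[k] C := e.symm.toLinearMap ∘ₗ E.codRestrict _ hrange
  have hE' : ∀ a, φl (E' a) = E a := fun a =>
    congrArg Subtype.val (e.apply_symm_apply ⟨E a, hrange a⟩)
  let δ : A →ₗ[k] k := γr ∘ₗ E'
  have hδ : IsRightIntegral k δ := by
    intro a
    have h := congrArg (φl.rTensor k) (hγr (E' a))
    simp only [LinearMap.rTensor_tmul] at h
    rw [show φl 1 = 1 from map_one φ] at h
    refine Eq.trans ?_ h
    have e3 : E'.lTensor A (Coalgebra.comul (R := k) a) = φl.rTensor C (Coalgebra.comul (R := k) (E' a)) := by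
      apply Module.Flat.lTensor_preserves_injective_linearMap (M := A) φl hφ
      rw [← LinearMap.comp_apply, ← LinearMap.lTensor_comp, show φl ∘ₗ E' = E from LinearMap.ext hE', ← hE,
        ← hE', show Coalgebra.comul (R := k) (φl (E' a)) = TensorProduct.map φl φl
          (Coalgebra.comul (R := k) (E' a)) from (CoalgHomClass.map_comp_comul_apply φ _).symm]
      induction Coalgebra.comul (R := k) (E' a) using TensorProduct.induction_on with
      | zero => simp
      | tmul p q => simp
      | add p q hp hq => simp only [map_add, hp, hq]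
    rw [show δ = γr ∘ₗ E' from rfl, LinearMap.lTensor_comp, LinearMap.comp_apply, e3]
    induction Coalgebra.comul (R := k) (E' a) using TensorProduct.induction_on with
    | zero => simp
    | tmul p q => simp
    | add p q hp hq => simp only [map_add, hp, hq]
  refine isLinearlyReductive_of_integral (isIntegral_antipode hδ) ?_
  have hE1 : E' 1 = 1 := hφ (by
    show φl (E' 1) = φ 1
    rw [hE', show φ 1 = (1 : A) from map_one φ]
    simp [E, β, αr, ψl, Bialgebra.comul_one, Algebra.TensorProduct.one_def, hα1])
  simp [δ, γr, hE1, hγ1]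

set_option maxHeartbeats 2000000 in
/-- A subgroup with affine quotient of a linearly reductive group is linearly reductive: the coordinate ring `A` is
faithfully flat over the invariants `C`, and the subgroup acts simply transitively on the fibres. -/
theorem isLinearlyReductive_of_galois {C : Type u} [CommRing C] [Algebra k C] [Algebra C A] [IsScalarTower k C A]
    [Module.FaithfullyFlat C A] (hψ : Function.Surjective ψ) (hA : HopfRep.IsLinearlyReductive k A)
    (hC : ∀ c : C, ρ₁ ψ (algebraMap C A c) = algebraMap C A c ⊗ₜ[k] (1 : B))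
    (hinv : ∀ a : A, ρ₁ ψ a = a ⊗ₜ[k] (1 : B) → a ∈ Set.range (algebraMap C A))
    (hθ : ∀ a : A, ψ a = 0 →
      (toConv (((Algebra.TensorProduct.includeRight : A →ₐ[C] A ⊗[C] A).restrictScalars k).comp
          (HopfAlgebra.antipodeAlgHom k A)) *
        toConv ((Algebra.TensorProduct.includeLeft : A →ₐ[C] A ⊗[C] A).restrictScalars k)).ofConv a = 0) :
    HopfRep.IsLinearlyReductive k B := by
  classical
  obtain ⟨α, hα, hα1⟩ := exists_integral_of_isLinearlyReductive hA
  refine isLinearlyReductive_of_hasFixedVectors ?_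
  intro V _ _ cV hfin π hsurj hπ
  have hπ' : ∀ v : V, π.rTensor B (Comod.coact (k := k) (A := B) v) = π v ⊗ₜ[k] (1 : B) :=
    fun v => LinearMap.congr_fun hπ v
  -- the diagonal coaction
  let mulB : B ⊗[k] B →ₗ[k] B := LinearMap.mul' k B
  let ρM₀ : A ⊗[k] V →ₗ[k] (A ⊗[k] V) ⊗[k] B :=
    mulB.lTensor (A ⊗[k] V) ∘ₗ (TensorProduct.tensorTensorTensorComm k A B V B).toLinearMap ∘ₗ
      TensorProduct.map (ρ₁ ψ).toLinearMap (Comod.coact (k := k) (A := B) (V := V))
  have hρM₀ : ∀ (a : A) (v : V), ρM₀ (a ⊗ₜ v) = mulB.lTensor (A ⊗[k] V)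
      (TensorProduct.tensorTensorTensorComm k A B V B (ρ₁ ψ a ⊗ₜ Comod.coact (k := k) (A := B) v)) :=
    fun a v => rfl
  let ρM : A ⊗[k] V →ₗ[C] (A ⊗[k] V) ⊗[k] B :=
    { toFun := ρM₀
      map_add' := map_add ρM₀
      map_smul' := fun c x => by
        induction x using TensorProduct.induction_on with
        | zero => simp
        | tmul a v =>
          rw [RingHom.id_apply, TensorProduct.smul_tmul', hρM₀, hρM₀, Algebra.smul_def, map_mul, hC]
          induction ρ₁ ψ a using TensorProduct.induction_on with
          | zero => simp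
          | tmul p q =>
            induction Comod.coact (k := k) (A := B) v using TensorProduct.induction_on with
            | zero => simp
            | tmul w d =>
              simp [Algebra.TensorProduct.tmul_mul_tmul, TensorProduct.smul_tmul', Algebra.smul_def]
            | add p' q' hp hq => simp only [tmul_add, map_add, smul_add, hp, hq]
          | add p q hp hq => simp only [mul_add, add_tmul, map_add, smul_add, hp, hq]
        | add p q hp hq => rw [smul_add, map_add, map_add, hp, hq, smul_add] }
  let one₁ : A ⊗[k] V →ₗ[C] (A ⊗[k] V) ⊗[k] B :=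
    { toFun := fun x => x ⊗ₜ[k] (1 : B)
      map_add' := fun x y => add_tmul x y 1
      map_smul' := fun c x => (TensorProduct.smul_tmul' c x (1 : B)).symm }
  let D : A ⊗[k] V →ₗ[C] (A ⊗[k] V) ⊗[k] B := ρM - one₁
  let π' : A ⊗[k] V →ₗ[C] A :=
    (TensorProduct.AlgebraTensorModule.rid k C A).toLinearMap ∘ₗ TensorProduct.AlgebraTensorModule.map LinearMap.id π
  have hπ'2 : ∀ x : A ⊗[k] V, ρ₁ ψ (π' x) = (π'.restrictScalars k).rTensor B (ρM x) := by
    intro x
    induction x using TensorProduct.induction_on with
    | zero => simp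
    | tmul a v =>
      show ρ₁ ψ (π v • a) = (π'.restrictScalars k).rTensor B (ρM₀ (a ⊗ₜ v))
      rw [hρM₀, map_smul]
      have hv := hπ' v
      have gen : ∀ (y : A ⊗[k] B) (w : V ⊗[k] B), (π'.restrictScalars k).rTensor B (mulB.lTensor (A ⊗[k] V)
          (TensorProduct.tensorTensorTensorComm k A B V B (y ⊗ₜ w))) =
          y * ((Algebra.TensorProduct.includeRight : B →ₐ[k] A ⊗[k] B)
            (TensorProduct.lid k B (π.rTensor B w))) := by
        intro y w
        induction y using TensorProduct.induction_on with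
        | zero => simp
        | tmul p q =>
          induction w using TensorProduct.induction_on with
          | zero => simp
          | tmul u d => simp [π', mulB, TensorProduct.smul_tmul]
          | add p' q' hp hq => simp only [tmul_add, map_add, mul_add, hp, hq]
        | add p q hp hq => simp only [add_tmul, map_add, add_mul, hp, hq]
      rw [gen, hv, TensorProduct.lid_tmul, map_smul, map_one, mul_smul_comm, mul_one]
    | add p q hp hq => simp only [map_add, hp, hq]
  let J := (LinearMap.ker D).map π'
  have hJ : ∀ y ∈ J, y ∈ Set.range (algebraMap C A) := by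
    rintro y ⟨x, hx, rfl⟩
    refine hinv _ ?_
    rw [hπ'2]
    have hx' : ρM x = x ⊗ₜ[k] (1 : B) := sub_eq_zero.mp hx
    rw [hx']
    rfl
  -- a preimage of `1` after base change to the group itself
  let L : A →ₐ[k] A ⊗[C] A := (Algebra.TensorProduct.includeLeft : A →ₐ[C] A ⊗[C] A).restrictScalars k
  let R : A →ₐ[k] A ⊗[C] A := (Algebra.TensorProduct.includeRight : A →ₐ[C] A ⊗[C] A).restrictScalars k
  let Θ : A →ₐ[k] A ⊗[C] A := (toConv (R.comp (HopfAlgebra.antipodeAlgHom k A)) * toConv L).ofConv
  have hΘker : ∀ a : A, ψ a = 0 → Θ a = 0 := hθ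
  obtain ⟨s, hs⟩ := (ψ : A →ₐ[k] B).toLinearMap.exists_rightInverse_of_surjective
    (LinearMap.range_eq_top.mpr hψ)
  let h : B →ₗ[k] A ⊗[C] A := Θ.toLinearMap ∘ₗ s
  have hh : ∀ a, h (ψ a) = Θ a := fun a => by
    refine sub_eq_zero.mp ?_
    show Θ (s (ψ a)) - Θ a = 0
    rw [← map_sub]
    refine hΘker _ ?_
    rw [map_sub, sub_eq_zero]
    exact LinearMap.congr_fun hs (ψ a)
  -- the coaction of the subgroup on the second factor
  let ρL : A →ₐ[C] A ⊗[C] (A ⊗[k] B) := Algebra.TensorProduct.includeLeft
  let ρR₀ : A →ₐ[C] A ⊗[k] B :=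
    { (ρ₁ ψ).toRingHom with
      commutes' := fun c => hC c }
  let ρR : A →ₐ[C] A ⊗[C] (A ⊗[k] B) := Algebra.TensorProduct.includeRight.comp ρR₀
  let ρX : A ⊗[C] A →ₐ[k] A ⊗[C] (A ⊗[k] B) :=
    (Algebra.TensorProduct.lift ρL ρR fun _ _ => Commute.all _ _).restrictScalars k
  let incB : B →ₐ[k] A ⊗[C] (A ⊗[k] B) :=
    ((Algebra.TensorProduct.includeRight : A ⊗[k] B →ₐ[C] A ⊗[C] (A ⊗[k] B)).restrictScalars k).comp
      Algebra.TensorProduct.includeRight
  let incX : A ⊗[C] A →ₐ[k] A ⊗[C] (A ⊗[k] B) :=
    (Algebra.TensorProduct.map (AlgHom.id C A) (Algebra.TensorProduct.includeLeft : A →ₐ[C] A ⊗[k] B)).restrictScalars k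
  let ψS : A →ₐ[k] A ⊗[C] (A ⊗[k] B) := incB.comp ((ψ : A →ₐ[k] B).comp (HopfAlgebra.antipodeAlgHom k A))
  have hΘ : toConv (ρX.comp Θ) = toConv ψS * toConv (incX.comp Θ) := by
    let S := HopfAlgebra.antipodeAlgHom k A
    have e1 : toConv (ρX.comp Θ) =
        toConv (ρX.comp (R.comp S)) * toConv (ρX.comp L) :=
      WithConv.ofConv_injective (AlgHom.comp_convMul_distrib ρX _ _)
    have e2 : toConv (incX.comp Θ) =
        toConv (incX.comp (R.comp S)) * toConv (incX.comp L) :=
      WithConv.ofConv_injective (AlgHom.comp_convMul_distrib incX _ _)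
    have e3 : ρX.comp L = incX.comp L := AlgHom.ext fun a => by simp [ρX, L, ρL, ρR, incX, Algebra.TensorProduct.one_def]
    have e4 : toConv (ρX.comp R) = toConv (incX.comp R) * toConv (incB.comp (ψ : A →ₐ[k] B)) := by
      let inc2 : A ⊗[k] B →ₐ[k] A ⊗[C] (A ⊗[k] B) :=
        (Algebra.TensorProduct.includeRight : A ⊗[k] B →ₐ[C] A ⊗[C] (A ⊗[k] B)).restrictScalars k
      have : ρX.comp R = inc2.comp (ρ₁ ψ) := AlgHom.ext fun a => by simp [ρX, R, ρR, ρL, ρR₀, inc2]
      rw [this, show ρ₁ ψ = (toConv (Algebra.TensorProduct.includeLeft : A →ₐ[k] A ⊗[k] B) *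
        toConv ((Algebra.TensorProduct.includeRight : B →ₐ[k] A ⊗[k] B).comp (ψ : A →ₐ[k] B))).ofConv from
          (congrArg WithConv.ofConv (ρ₁_eq ψ)).symm, AlgHom.comp_convMul_distrib]
      simp only [WithConv.ofConv_toConv, WithConv.toConv_ofConv]
      refine congrArg₂ (· * ·) (congrArg toConv (AlgHom.ext fun a => ?_)) rfl
      simp [inc2, incX, R]
    have e5 : toConv ((ρX.comp R).comp S) =
        toConv ((incB.comp (ψ : A →ₐ[k] B)).comp S) * toConv ((incX.comp R).comp S) := by
      refine left_inv_eq_right_inv (a := toConv (ρX.comp R)) (GrpSchLib.HopfQuot.inv_convMul_self _) ?_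
      rw [e4, mul_assoc, ← mul_assoc (toConv (incB.comp (ψ : A →ₐ[k] B))),
        GrpSchLib.HopfQuot.self_convMul_inv, one_mul, GrpSchLib.HopfQuot.self_convMul_inv]
    rw [e1, e2, e3, ← AlgHom.comp_assoc, e5, mul_assoc]
    rfl
  let ι : A ⊗[C] A ⊗[k] V →ₗ[k] A ⊗[C] (A ⊗[k] V) :=
    TensorProduct.lift
      { toFun := fun x =>
          { toFun := fun v => (((TensorProduct.AlgebraTensorModule.mk k C A V).flip v).lTensor A) x
            map_add' := fun v w => by
              induction x using TensorProduct.induction_on with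
              | zero => simp
              | tmul b a => simp [tmul_add]
              | add p q hp hq => simp only [map_add] at hp hq ⊢; rw [hp, hq, add_add_add_comm]
            map_smul' := fun r v => by
              induction x using TensorProduct.induction_on with
              | zero => simp
              | tmul b a => simp [TensorProduct.tmul_smul]
              | add p q hp hq => simp only [map_add, smul_add, hp, hq] }
        map_add' := fun x y => LinearMap.ext fun v => map_add (((TensorProduct.AlgebraTensorModule.mk k C A V).flip v).lTensor A) x y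
        map_smul' := fun r x => LinearMap.ext fun v => by
          induction x using TensorProduct.induction_on with
          | zero => simp
          | tmul b a =>
            show LinearMap.lTensor A _ (r • (b ⊗ₜ[C] a)) = r • LinearMap.lTensor A _ (b ⊗ₜ[C] a)
            simp [TensorProduct.smul_tmul']
          | add p q hp hq =>
            show LinearMap.lTensor A _ (r • (p + q)) = r • LinearMap.lTensor A _ (p + q)
            simp only [smul_add, map_add]
            exact congrArg₂ (· + ·) hp hq }
  have hι : ∀ b a v, ι ((b ⊗ₜ[C] a) ⊗ₜ[k] v) = b ⊗ₜ[C] (a ⊗ₜ[k] v) := fun b a v => by simp [ι]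
  let Z : V ⊗[k] B →ₗ[k] A ⊗[C] (A ⊗[k] V) :=
    ι ∘ₗ (TensorProduct.comm k V (A ⊗[C] A)).toLinearMap ∘ₗ h.lTensor V
  -- reading a tensor with a point of the subgroup on the right
  let κ : A ⊗[C] (A ⊗[k] B) →ₗ[k] (V ⊗[k] B) →ₗ[k] A ⊗[C] ((A ⊗[k] V) ⊗[k] B) :=
    LinearMap.flip
      { toFun := fun w =>
          (LinearMap.lTensor A
            ({ toFun := fun y => mulB.lTensor (A ⊗[k] V) (TensorProduct.tensorTensorTensorComm k A B V B (y ⊗ₜ w))
               map_add' := fun y y' => by simp only [add_tmul, map_add]
               map_smul' := fun c y => by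
                 induction y using TensorProduct.induction_on with
                 | zero => simp
                 | tmul p q =>
                   induction w using TensorProduct.induction_on with
                   | zero => simp
                   | tmul u d => simp [TensorProduct.smul_tmul', Algebra.smul_def]
                   | add p' q' hp hq => simp only [RingHom.id_apply, tmul_add, map_add, smul_add] at hp hq ⊢; rw [hp, hq]
                 | add p q hp hq => simp only [RingHom.id_apply, smul_add, add_tmul, map_add] at hp hq ⊢; rw [hp, hq] } :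
              A ⊗[k] B →ₗ[C] (A ⊗[k] V) ⊗[k] B)).restrictScalars k
        map_add' := fun w w' => LinearMap.ext fun x => by
          induction x using TensorProduct.induction_on with
          | zero => simp
          | tmul b y => simp [tmul_add]
          | add p q hp hq => simp only [map_add, hp, hq]
        map_smul' := fun r w => LinearMap.ext fun x => by
          induction x using TensorProduct.induction_on with
          | zero => simp
          | tmul b y => simp [TensorProduct.tmul_smul]
          | add p q hp hq => simp only [map_add, hp, hq] }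
  have hκ : ∀ b y w, κ (b ⊗ₜ[C] y) w =
      b ⊗ₜ[C] mulB.lTensor (A ⊗[k] V) (TensorProduct.tensorTensorTensorComm k A B V B (y ⊗ₜ w)) :=
    fun b y w => by simp [κ]
  have hρι : ∀ (x : A ⊗[C] A) (w : V), ρM.lTensor A (ι (x ⊗ₜ w)) = κ (ρX x) (Comod.coact (k := k) (A := B) w) := by
    intro x w
    induction x using TensorProduct.induction_on with
    | zero => simp
    | tmul b a =>
      rw [hι, show ρX (b ⊗ₜ[C] a) = b ⊗ₜ[C] ρ₁ ψ a by simp [ρX, ρL, ρR, ρR₀, Algebra.TensorProduct.tmul_mul_tmul],
        hκ, LinearMap.lTensor_tmul]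
      rfl
    | add p q hp hq => simp only [add_tmul, map_add, LinearMap.add_apply, hp, hq]
  let addB : A ⊗[C] A →ₗ[k] (V ⊗[k] B) →ₗ[k] A ⊗[C] ((A ⊗[k] V) ⊗[k] B) := κ ∘ₗ incX.toLinearMap
  have hκmul : ∀ (c : B) (x : A ⊗[C] A) (w : V) (d : B),
      κ (incB c * incX x) (w ⊗ₜ d) = addB x (w ⊗ₜ (d * c)) := by
    intro c x w d
    induction x using TensorProduct.induction_on with
    | zero => simp
    | tmul b a => simp [addB, hκ, incB, incX, Algebra.TensorProduct.tmul_mul_tmul, mulB, mul_comm d c]
    | add p q hp hq => simp only [map_add, mul_add, LinearMap.add_apply, hp, hq]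
  let μ' : B ⊗[k] (B ⊗[k] B) →ₐ[k] B ⊗[k] B :=
    Algebra.TensorProduct.lift Algebra.TensorProduct.includeLeft
      (Algebra.TensorProduct.lift ((Algebra.TensorProduct.includeLeft : B →ₐ[k] B ⊗[k] B).comp
        (HopfAlgebra.antipodeAlgHom k B)) Algebra.TensorProduct.includeRight fun _ _ => Commute.all _ _)
      fun _ _ => Commute.all _ _
  have hμ : ∀ b : B, μ' ((Coalgebra.comul (R := k)).lTensor B (Coalgebra.comul (R := k) b)) = (1 : B) ⊗ₜ[k] b := by
    intro b
    let iL : B →ₐ[k] B ⊗[k] B := Algebra.TensorProduct.includeLeft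
    let iR : B →ₐ[k] B ⊗[k] B := Algebra.TensorProduct.includeRight
    let S := HopfAlgebra.antipodeAlgHom k B
    have e : (toConv iL * ((toConv iL)⁻¹ * toConv iR)).ofConv = iR := by
      rw [← mul_assoc, mul_inv_cancel (toConv iL), one_mul]
    refine Eq.trans ?_ (AlgHom.congr_fun e b)
    rw [AlgHom.convMul_apply]
    induction Coalgebra.comul (R := k) b using TensorProduct.induction_on with
    | zero => simp
    | tmul p q =>
      show μ' (p ⊗ₜ[k] Coalgebra.comul (R := k) q) = iL p * (toConv (iL.comp S) * toConv iR).ofConv q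
      rw [AlgHom.convMul_apply]
      induction Coalgebra.comul (R := k) q using TensorProduct.induction_on with
      | zero => simp
      | tmul x y => simp [μ', iL, iR, S]
      | add x y hx hy => simp only [tmul_add, map_add, mul_add, hx, hy]
    | add p q hp hq => simp only [map_add, hp, hq]
  let N : V ⊗[k] (B ⊗[k] B) →ₗ[k] A ⊗[C] ((A ⊗[k] V) ⊗[k] B) :=
    TensorProduct.lift addB ∘ₗ (TensorProduct.comm k (V ⊗[k] B) (A ⊗[C] A)).toLinearMap ∘ₗ
      h.lTensor (V ⊗[k] B) ∘ₗ (TensorProduct.assoc k V B B).symm.toLinearMap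
  let T : (V ⊗[k] B) ⊗[k] (B ⊗[k] B) →ₗ[k] A ⊗[C] ((A ⊗[k] V) ⊗[k] B) :=
    N ∘ₗ μ'.toLinearMap.lTensor V ∘ₗ (TensorProduct.assoc k V B (B ⊗[k] B)).toLinearMap
  have hT : ∀ (w : V) (b : B), ρM.lTensor A (Z (w ⊗ₜ b)) =
      T (Comod.coact (k := k) (A := B) w ⊗ₜ Coalgebra.comul (R := k) b) := by
    intro w b
    obtain ⟨a, rfl⟩ := hψ b
    show ρM.lTensor A (ι (h (ψ a) ⊗ₜ w)) = _
    rw [hh, hρι, ← CoalgHomClass.map_comp_comul_apply ψ a,
      show ρX (Θ a) = (toConv ψS * toConv (incX.comp Θ)).ofConv a from
        AlgHom.congr_fun (congrArg WithConv.ofConv hΘ) a, AlgHom.convMul_apply]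
    induction Coalgebra.comul (R := k) a using TensorProduct.induction_on with
    | zero => simp
    | tmul p q =>
      induction Comod.coact (k := k) (A := B) w using TensorProduct.induction_on with
      | zero => simp
      | tmul u d =>
        show κ (incB (ψ (HopfAlgebra.antipode k p)) * incX (Θ q)) (u ⊗ₜ d) = N (u ⊗ₜ μ' (d ⊗ₜ (ψ p ⊗ₜ ψ q)))
        rw [hκmul, ← GrpSchLib.HopfGalois.antipode_bialgHom ψ p]
        simp [N, μ', hh, Algebra.TensorProduct.tmul_mul_tmul]
      | add p' q' hp hq => simp only [map_add, add_tmul, hp, hq]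
    | add p q hp hq => simp only [map_add, tmul_add, LinearMap.add_apply, hp, hq]
  have hZ : ∀ v : V, (D.lTensor A) (Z (Comod.coact (k := k) (A := B) v)) = 0 := by
    intro v
    rw [show D = ρM - one₁ from rfl, LinearMap.lTensor_sub, LinearMap.sub_apply, sub_eq_zero]
    have eT : ∀ z : V ⊗[k] B, ρM.lTensor A (Z z) =
        T (TensorProduct.map (Comod.coact (k := k) (A := B)) (Coalgebra.comul (R := k)) z) := fun z => by
      induction z using TensorProduct.induction_on with
      | zero => simp
      | tmul w b => rw [hT, TensorProduct.map_tmul]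
      | add p q hp hq => simp only [map_add, hp, hq]
    have eco : ∀ z : V ⊗[k] B, TensorProduct.assoc k V B (B ⊗[k] B)
        (TensorProduct.map (Comod.coact (k := k) (A := B)) (Coalgebra.comul (R := k)) z) =
        ((Coalgebra.comul (R := k)).lTensor B).lTensor V
          (TensorProduct.assoc k V B B ((Comod.coact (k := k) (A := B)).rTensor B z)) := fun z => by
      induction z using TensorProduct.induction_on with
      | zero => simp
      | tmul w b =>
        rw [TensorProduct.map_tmul, LinearMap.rTensor_tmul]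
        induction Comod.coact (k := k) (A := B) w using TensorProduct.induction_on with
        | zero => simp
        | tmul u d => simp
        | add p q hp hq => simp only [add_tmul, map_add, hp, hq]
      | add p q hp hq => simp only [map_add, hp, hq]
    have hco : TensorProduct.assoc k V B B ((Comod.coact (k := k) (A := B)).rTensor B
        (Comod.coact (k := k) (A := B) v)) =
        (Coalgebra.comul (R := k)).lTensor V (Comod.coact (k := k) (A := B) v) :=
      LinearMap.congr_fun (Comod.coassoc (k := k) (A := B) (V := V)) v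
    rw [eT]
    show N (μ'.toLinearMap.lTensor V (TensorProduct.assoc k V B (B ⊗[k] B) _)) = _
    rw [eco, hco]
    induction Comod.coact (k := k) (A := B) v using TensorProduct.induction_on with
    | zero => simp
    | tmul w b =>
      show N (w ⊗ₜ μ' ((Coalgebra.comul (R := k)).lTensor B (Coalgebra.comul (R := k) b))) = _
      rw [hμ]
      show addB (h b) (w ⊗ₜ (1 : B)) = one₁.lTensor A (ι (h b ⊗ₜ w))
      induction h b using TensorProduct.induction_on with
      | zero => simp
      | tmul x y =>
        show κ (incX (x ⊗ₜ[C] y)) (w ⊗ₜ (1 : B)) = _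
        rw [hι, show incX (x ⊗ₜ[C] y) = x ⊗ₜ[C] (y ⊗ₜ[k] (1 : B)) by simp [incX], hκ]
        simp [one₁, mulB]
      | add p q hp hq => simp only [map_add, LinearMap.add_apply, add_tmul, hp, hq]
    | add p q hp hq => simp only [map_add, hp, hq]
  -- the ideal contains one
  obtain ⟨v₁, hv₁⟩ := hsurj 1
  let I : Ideal C := J.comap (Algebra.linearMap C A)
  have hone : (1 : A) ∈ I.map (algebraMap C A) := by
    obtain ⟨y, hy⟩ := (Module.Flat.lTensor_exact A (LinearMap.exact_subtype_ker_map D) _).mp (hZ v₁)
    let Φ : A ⊗[C] (A ⊗[k] V) →ₗ[C] A := LinearMap.mul' C A ∘ₗ π'.lTensor A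
    have hmem : ∀ y, Φ ((LinearMap.ker D).subtype.lTensor A y) ∈ I.map (algebraMap C A) := fun y => by
      induction y using TensorProduct.induction_on with
      | zero => simp
      | tmul b x =>
        obtain ⟨c, hc⟩ := hJ _ ⟨x.1, x.2, rfl⟩
        have hcI : c ∈ I := ⟨x.1, x.2, hc.symm⟩
        show b * π' x.1 ∈ _
        rw [← hc]
        exact Ideal.mul_mem_left _ b (Ideal.mem_map_of_mem _ hcI)
      | add p q hp hq => rw [map_add, map_add]; exact add_mem hp hq
    have hΦ : ∀ z : V ⊗[k] B, Φ (Z z) = TensorProduct.lid k k ((TensorProduct.map π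
        (Coalgebra.counit (R := k) (A := B))) z) • (1 : A) := fun z => by
      induction z using TensorProduct.induction_on with
      | zero => simp
      | tmul w b =>
        obtain ⟨a, rfl⟩ := hψ b
        have e1 : ∀ x, Φ (ι (x ⊗ₜ w)) = π w • Algebra.TensorProduct.lmul' C (S := A) x := fun x => by
          induction x using TensorProduct.induction_on with
          | zero => simp
          | tmul p q => simp [hι, Φ, π']
          | add p q hp hq => simp only [add_tmul, map_add, smul_add, hp, hq]
        show Φ (ι (h (ψ a) ⊗ₜ w)) = _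
        rw [hh, e1]
        let μA : A ⊗[C] A →ₐ[k] A := (Algebra.TensorProduct.lmul' C (S := A)).restrictScalars k
        have e2 : μA.comp Θ = (1 : WithConv (A →ₐ[k] A)).ofConv := by
          show μA.comp (toConv (R.comp (HopfAlgebra.antipodeAlgHom k A)) * toConv L).ofConv = _
          rw [AlgHom.comp_convMul_distrib]
          simp only [WithConv.ofConv_toConv, ← AlgHom.comp_assoc]
          rw [show μA.comp R = AlgHom.id k A from AlgHom.ext fun x => by simp [μA, R],
            show μA.comp L = AlgHom.id k A from AlgHom.ext fun x => by simp [μA, L]]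
          exact congrArg WithConv.ofConv (inv_mul_cancel (toConv (AlgHom.id k A)))
        rw [show Algebra.TensorProduct.lmul' C (S := A) (Θ a) = algebraMap k A (Coalgebra.counit (R := k) a) from
          AlgHom.congr_fun e2 a]
        simp [Algebra.algebraMap_eq_smul_one, smul_smul, CoalgHomClass.counit_comp_apply]
      | add p q hp hq => simp only [map_add, add_smul, hp, hq]
    have h1 := hΦ (Comod.coact (k := k) (A := B) v₁)
    rw [← hy] at h1
    have hc : ∀ z : V ⊗[k] B, TensorProduct.lid k k (TensorProduct.map π (Coalgebra.counit (R := k) (A := B)) z) =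
        π (TensorProduct.rid k V ((Coalgebra.counit (R := k)).lTensor V z)) := fun z => by
      induction z using TensorProduct.induction_on with
      | zero => simp
      | tmul w b => simp [mul_comm]
      | add p q hp hq => simp only [map_add, hp, hq]
    rw [hc, show (Coalgebra.counit (R := k)).lTensor V (Comod.coact (k := k) (A := B) v₁) = v₁ ⊗ₜ[k] (1 : k) from
      LinearMap.congr_fun (Comod.counit_comp (k := k) (A := B) (V := V)) v₁] at h1
    simp [hv₁] at h1
    exact h1 ▸ hmem y
  have hI : (1 : C) ∈ I := by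
    rw [← Ideal.comap_map_eq_self_of_faithfullyFlat (B := A) I, Ideal.mem_comap, map_one]
    exact hone
  obtain ⟨x, hx, hx1⟩ := hI
  have hx' : ρM₀ x = x ⊗ₜ[k] (1 : B) := sub_eq_zero.mp hx
  let ev : A ⊗[k] V →ₗ[k] V := (TensorProduct.lid k V).toLinearMap ∘ₗ α.rTensor V
  have hev : ∀ z, ev.rTensor B (ρM₀ z) = Comod.coact (k := k) (A := B) (ev z) := fun z => by
    induction z using TensorProduct.induction_on with
    | zero => simp
    | tmul a w =>
      rw [hρM₀]
      have hca : α.rTensor B (ρ₁ ψ a) = α a ⊗ₜ[k] (1 : B) := by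
        show α.rTensor B (Algebra.TensorProduct.map (AlgHom.id k A) (ψ : A →ₐ[k] B) (Coalgebra.comul (R := k) a)) = _
        have : ∀ z : A ⊗[k] A, α.rTensor B (Algebra.TensorProduct.map (AlgHom.id k A) (ψ : A →ₐ[k] B) z) =
            (ψ : A →ₐ[k] B).toLinearMap.lTensor k (α.rTensor A z) := fun z => by
          induction z using TensorProduct.induction_on with
          | zero => simp
          | tmul p q => simp
          | add p q hp hq => simp only [map_add, hp, hq]
        rw [this, hα, LinearMap.lTensor_tmul]
        simp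
      have gen : ∀ (y : A ⊗[k] B) (u : V ⊗[k] B), ev.rTensor B (mulB.lTensor (A ⊗[k] V)
          (TensorProduct.tensorTensorTensorComm k A B V B (y ⊗ₜ u))) =
          mulB.lTensor V (TensorProduct.assoc k V B B ((TensorProduct.comm k B (V ⊗[k] B))
            (TensorProduct.lid k B (α.rTensor B y) ⊗ₜ u))) := fun y u => by
        induction y using TensorProduct.induction_on with
        | zero => simp
        | tmul p q =>
          induction u using TensorProduct.induction_on with
          | zero => simp
          | tmul u' d => simp [ev, mulB, mul_comm q d, TensorProduct.smul_tmul', TensorProduct.tmul_smul]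
          | add p' q' hp hq => simp only [tmul_add, map_add, hp, hq]
        | add p q hp hq => simp only [add_tmul, map_add, hp, hq]
      rw [gen, hca, TensorProduct.lid_tmul]
      show _ = Comod.coact (k := k) (A := B) (α a • w)
      rw [map_smul]
      induction Comod.coact (k := k) (A := B) w using TensorProduct.induction_on with
      | zero => simp
      | tmul u' d => simp [mulB, TensorProduct.smul_tmul', TensorProduct.tmul_smul]
      | add p q hp hq => simp only [tmul_add, map_add, smul_add, hp, hq]
    | add p q hp hq => simp only [map_add, hp, hq]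
  refine ⟨ev x, ?_, ?_⟩
  · show Comod.coact (k := k) (A := B) (ev x) = ev x ⊗ₜ[k] (1 : B)
    rw [← hev, hx', LinearMap.rTensor_tmul]
  · have : ∀ z, π (ev z) = α (π' z) := fun z => by
      induction z using TensorProduct.induction_on with
      | zero => simp
      | tmul a w => simp [ev, π', mul_comm]
      | add p q hp hq => simp only [map_add, hp, hq]
    rw [this, show π' x = 1 from hx1.trans (map_one (algebraMap C A)), hα1]
    exact one_ne_zero

section Normal

variable (φ : C →ₐc[k] A)

theorem ρ₁_φ (hker : RingHom.ker (ψ : A →ₐ[k] B) =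
      Ideal.map (φ : C →ₐ[k] A) (RingHom.ker (Bialgebra.counitAlgHom k C))) (c : C) :
    ρ₁ ψ (φ c) = φ c ⊗ₜ[k] (1 : B) := by
  have key : ∀ d : C, ψ (φ d) = Coalgebra.counit (R := k) d • (1 : B) := fun d => by
    have hd : d - algebraMap k C (Coalgebra.counit (R := k) d) ∈ RingHom.ker (Bialgebra.counitAlgHom k C) := by
      simp
    have h : φ (d - algebraMap k C (Coalgebra.counit (R := k) d)) ∈ RingHom.ker (ψ : A →ₐ[k] B) :=
      hker ▸ Ideal.mem_map_of_mem _ hd
    have h' : (ψ : A →ₐ[k] B) ((φ : C →ₐ[k] A) (d - algebraMap k C (Coalgebra.counit (R := k) d))) = 0 := h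
    rw [map_sub, map_sub, AlgHom.commutes, AlgHom.commutes, sub_eq_zero] at h'
    rw [← Algebra.algebraMap_eq_smul_one]
    exact h'
  show Algebra.TensorProduct.map (AlgHom.id k A) (ψ : A →ₐ[k] B) (Coalgebra.comul (R := k) (φ c)) = _
  rw [← CoalgHomClass.map_comp_comul_apply φ c]
  have e : TensorProduct.rid k C ((Coalgebra.counit (R := k)).lTensor C (Coalgebra.comul (R := k) c)) = c := by
    rw [Coalgebra.lTensor_counit_comul]
    simp
  conv_rhs => rw [← e]
  induction Coalgebra.comul (R := k) c using TensorProduct.induction_on with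
  | zero => simp
  | tmul p q =>
    show φ p ⊗ₜ[k] ψ (φ q) = _
    simp [key, TensorProduct.smul_tmul', TensorProduct.tmul_smul]
  | add p q hp hq => simp only [map_add, add_tmul, hp, hq]

/-- A normal subgroup of a linearly reductive group is linearly reductive. -/
theorem isLinearlyReductive_normal [Algebra.FiniteType k A] [Algebra.FiniteType k C]
    (hφ : Function.Injective φ) (hψ : Function.Surjective ψ)
    (hker : RingHom.ker (ψ : A →ₐ[k] B) =
      Ideal.map (φ : C →ₐ[k] A) (RingHom.ker (Bialgebra.counitAlgHom k C)))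
    (hA : HopfRep.IsLinearlyReductive k A) : HopfRep.IsLinearlyReductive k B := by
  letI : Algebra C A := (φ : C →ₐ[k] A).toRingHom.toAlgebra
  haveI : IsScalarTower k C A := IsScalarTower.of_algebraMap_eq fun c => ((φ : C →ₐ[k] A).commutes c).symm
  haveI : Module.FaithfullyFlat C A := GrpSchLib.HopfFlat.faithfullyFlat φ hφ
  let L : A →ₐ[k] A ⊗[C] A := (Algebra.TensorProduct.includeLeft : A →ₐ[C] A ⊗[C] A).restrictScalars k
  let R : A →ₐ[k] A ⊗[C] A := (Algebra.TensorProduct.includeRight : A →ₐ[C] A ⊗[C] A).restrictScalars k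
  let Θ : A →ₐ[k] A ⊗[C] A := (toConv (R.comp (HopfAlgebra.antipodeAlgHom k A)) * toConv L).ofConv
  have hΘφ : Θ.comp (φ : C →ₐ[k] A) = (1 : WithConv (C →ₐ[k] A ⊗[C] A)).ofConv := by
    show AlgHom.comp _ (φ : C →ₐ[k] A) = _
    rw [AlgHom.convMul_comp_bialgHom_distrib]
    simp only [WithConv.ofConv_toConv, AlgHom.comp_assoc]
    rw [show (HopfAlgebra.antipodeAlgHom k A).comp (φ : C →ₐ[k] A) =
        (φ : C →ₐ[k] A).comp (HopfAlgebra.antipodeAlgHom k C) from AlgHom.ext fun c =>
          GrpSchLib.HopfGalois.antipode_bialgHom φ c, ← AlgHom.comp_assoc,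
      show R.comp (φ : C →ₐ[k] A) = L.comp (φ : C →ₐ[k] A) from AlgHom.ext fun c =>
        (Algebra.TensorProduct.includeRight : A →ₐ[C] A ⊗[C] A).commutes c |>.trans
          ((Algebra.TensorProduct.includeLeft : A →ₐ[C] A ⊗[C] A).commutes c).symm,
      GrpSchLib.HopfQuot.inv_convMul_self]
  have hΘker : ∀ a : A, ψ a = 0 → Θ a = 0 := by
    intro a ha
    have ha' : a ∈ RingHom.ker (ψ : A →ₐ[k] B) := ha
    rw [hker] at ha'
    refine (Ideal.map_le_iff_le_comap.mpr (fun c hc => ?_) : _ ≤ RingHom.ker Θ.toRingHom) ha'
    show Θ ((φ : C →ₐ[k] A) c) = 0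
    refine (AlgHom.congr_fun hΘφ c).trans ?_
    show algebraMap k _ (Coalgebra.counit (R := k) c) = 0
    rw [show Coalgebra.counit (R := k) c = 0 from hc, map_zero]
  exact isLinearlyReductive_of_galois ψ hψ hA (ρ₁_φ ψ φ hker)
    (fun a ha => mem_range_of_invariant ψ φ hφ hψ hker a ha) hΘker

end Normal

end Groth.Agent.AlgGrpQ.ExactReductive
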