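import Mathlib.AlgebraicGeometry.Morphisms.Smooth
import Mathlib.AlgebraicGeometry.Morphisms.Separated
import Mathlib.AlgebraicGeometry.Morphisms.Affine
import Mathlib.RingTheory.RingHom.Smooth
import Mathlib.RingTheory.Smooth.Basic

/-!
# Fixed points of a finite group of invertible order
-/

universe u v

open CategoryTheory AlgebraicGeometry Limits

namespace Groth.Agent.AlgGrpQ

/-- The algebra of fixed points of a finite group of invertible order acting on a smooth algebra is smooth. -/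
theorem smooth_quotient_fixed {R A : Type u} [CommRing R] [CommRing A] [Algebra R A] [Algebra.Smooth R A]
    {G : Type v} [Group G] [Fintype G] (hn : IsUnit (Fintype.card G : R)) (σ : G → A →ₐ[R] A)
    (hσ : ∀ g h a, σ g (σ h a) = σ (h * g) a) :
    Algebra.Smooth R (A ⧸ Ideal.span (Set.range fun p : G × A => σ p.1 p.2 - p.2)) := by
  classical
  set J := Ideal.span (Set.range fun p : G × A => σ p.1 p.2 - p.2) with hJ
  obtain ⟨s, hs⟩ := Algebra.FiniteType.out (R := R) (A := A)
  have hfg : J.FG := by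
    refine ⟨(Finset.univ ×ˢ s).image fun p : G × A => σ p.1 p.2 - p.2, le_antisymm (Ideal.span_mono ?_) ?_⟩
    · rintro _ hx
      obtain ⟨p, -, rfl⟩ := Finset.mem_image.mp hx
      exact ⟨p, rfl⟩
    · refine Ideal.span_le.mpr ?_
      rintro _ ⟨⟨g, a⟩, rfl⟩
      have ha : a ∈ Algebra.adjoin R (s : Set A) := hs ▸ Algebra.mem_top
      induction ha using Algebra.adjoin_induction with
      | mem x hx => exact Ideal.subset_span (Finset.mem_image.mpr ⟨(g, x), Finset.mem_product.mpr ⟨Finset.mem_univ _, hx⟩, rfl⟩)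
      | algebraMap r => simp
      | add x y _ _ hx hy =>
        rw [SetLike.mem_coe] at hx hy ⊢
        simpa [map_add, add_sub_add_comm] using add_mem hx hy
      | mul x y _ _ hx hy =>
        rw [SetLike.mem_coe] at hx hy ⊢
        show σ g (x * y) - x * y ∈ _
        rw [show σ g (x * y) - x * y = σ g x * (σ g y - y) + y * (σ g x - x) by rw [map_mul]; ring]
        exact add_mem (Ideal.mul_mem_left _ _ hy) (Ideal.mul_mem_left _ _ hx)
  haveI : Algebra.FinitePresentation R (A ⧸ J) := Algebra.FinitePresentation.quotient hfg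
  haveI : Algebra.FormallySmooth R (A ⧸ J) := by
    refine Algebra.FormallySmooth.of_comp_surjective fun B _ _ I hI f => ?_
    obtain ⟨F, hF⟩ := Algebra.FormallySmooth.comp_surjective (R := R) (A := A) I hI (f.comp (Ideal.Quotient.mkₐ R J))
    let c : R := ↑hn.unit⁻¹
    have hc : (c * Fintype.card G : R) = 1 := hn.val_inv_mul
    let d : G → A → B := fun g a => F (σ g a) - F a
    have hd : ∀ g a, d g a ∈ I := fun g a => by
      have h1 : f (Ideal.Quotient.mk J (σ g a)) = f (Ideal.Quotient.mk J a) :=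
        congrArg f (Ideal.Quotient.eq.mpr (Ideal.subset_span ⟨(g, a), rfl⟩))
      refine Ideal.Quotient.eq.mp ?_
      exact ((AlgHom.congr_fun hF (σ g a)).trans h1).trans (AlgHom.congr_fun hF a).symm
    have hI' : ∀ x ∈ I, ∀ y ∈ I, x * y = 0 := fun x hx y hy => by
      have h : x * y ∈ I ^ 2 := by rw [pow_two]; exact Ideal.mul_mem_mul hx hy
      rwa [hI, Ideal.mem_bot] at h
    let M : A →ₗ[R] B := c • ∑ g, (F.comp (σ g)).toLinearMap
    have hM : ∀ a, M a = F a + c • ∑ g, d g a := fun a => by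
      simp only [M, d, LinearMap.smul_apply, LinearMap.sum_apply, AlgHom.toLinearMap_apply, AlgHom.comp_apply,
        Finset.sum_sub_distrib, smul_sub, Finset.sum_const, Finset.card_univ]
      rw [← Nat.cast_smul_eq_nsmul R, smul_smul, hc, one_smul]
      abel
    have hM1 : M 1 = 1 := by rw [hM]; simp [d]
    have hMmul : ∀ a b, M (a * b) = M a * M b := fun a b => by
      have hsum : ∀ a, c • ∑ g, d g a ∈ I := fun a => Submodule.smul_of_tower_mem I c (Ideal.sum_mem I fun g _ => hd g a)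
      rw [hM, hM, hM, map_mul, mul_add, add_mul, add_mul, hI' _ (hsum a) _ (hsum b), add_zero, smul_mul_assoc, mul_smul_comm,
        Finset.mul_sum, Finset.sum_mul, add_assoc, ← smul_add, ← Finset.sum_add_distrib]
      congr 2
      refine Finset.sum_congr rfl fun g _ => ?_
      have h0 := hI' _ (hd g a) _ (hd g b)
      simp only [d, map_mul] at h0 ⊢
      linear_combination h0
    let M' : A →ₐ[R] B := AlgHom.ofLinearMap M hM1 hMmul
    have hMinv : ∀ a ∈ J, M' a = 0 := fun a ha => by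
      refine (Ideal.span_le (I := RingHom.ker M')).mpr ?_ ha
      rintro _ ⟨⟨g, x⟩, rfl⟩
      rw [SetLike.mem_coe, RingHom.mem_ker, map_sub, sub_eq_zero]
      show c • (∑ h, (F.comp (σ h)).toLinearMap) (σ g x) = c • (∑ h, (F.comp (σ h)).toLinearMap) x
      congr 1
      simp only [LinearMap.sum_apply, AlgHom.toLinearMap_apply, AlgHom.comp_apply, hσ]
      exact Equiv.sum_comp (Equiv.mulLeft g) fun h => F (σ h x)
    refine ⟨Ideal.Quotient.liftₐ J M' hMinv, AlgHom.ext fun y => ?_⟩
    obtain ⟨a, rfl⟩ := Ideal.Quotient.mk_surjective y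
    show Ideal.Quotient.mk I (M a) = _
    rw [hM, map_add, Ideal.Quotient.eq_zero_iff_mem.mpr
      (Submodule.smul_of_tower_mem I c (Ideal.sum_mem I fun g _ => hd g a)), add_zero]
    exact AlgHom.congr_fun hF a
  exact ⟨inferInstance, inferInstance⟩

section Scheme

variable {S : Scheme.{u}} {X : Over S} {G : Type v} [Group G] [Finite G] (ρ : G →* Aut X)

theorem exists_fixed_closed [IsSeparated X.hom] :
    ∃ (W : Over S) (i : W ⟶ X), IsClosedImmersion i.left ∧ (∀ g, i ≫ (ρ g).hom = i) ∧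
      ∀ (T : Over S) (t : T ⟶ X), (∀ g, t ≫ (ρ g).hom = t) → ∃ t' : T ⟶ W, t' ≫ i = t := by
  classical
  haveI := Fintype.ofFinite G
  suffices h : ∀ L : List G, ∃ (W : Over S) (i : W ⟶ X), IsClosedImmersion i.left ∧ (∀ g ∈ L, i ≫ (ρ g).hom = i) ∧
      ∀ (T : Over S) (t : T ⟶ X), (∀ g ∈ L, t ≫ (ρ g).hom = t) → ∃ t' : T ⟶ W, t' ≫ i = t by
    obtain ⟨W, i, h1, h2, h3⟩ := h Finset.univ.toList
    exact ⟨W, i, h1, fun g => h2 g (by simp), fun T t ht => h3 T t fun g _ => ht g⟩
  intro L
  induction L with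
  | nil => exact ⟨X, 𝟙 X, inferInstanceAs (IsClosedImmersion (𝟙 X.left)), by simp, fun T t _ => ⟨t, by simp⟩⟩
  | cons g L ih =>
    obtain ⟨W, i, h1, h2, h3⟩ := ih
    haveI := h1
    refine ⟨equalizer (i ≫ (ρ g).hom) i, equalizer.ι (i ≫ (ρ g).hom) i ≫ i, ?_, fun h hh => ?_, fun T t ht => ?_⟩
    · show IsClosedImmersion ((equalizer.ι (i ≫ (ρ g).hom) i).left ≫ i.left)
      infer_instance
    · rcases List.mem_cons.mp hh with rfl | hh
      · rw [Category.assoc, equalizer.condition]
      · rw [Category.assoc, h2 h hh]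
    · obtain ⟨t', ht'⟩ := h3 T t fun h hh => ht h (List.mem_cons_of_mem _ hh)
      exact ⟨equalizer.lift t' (by rw [← Category.assoc, ht']; exact ht g List.mem_cons_self),
        by rw [← Category.assoc, equalizer.lift_ι, ht']⟩

variable [IsSeparated X.hom] [Smooth X.hom] (hG : IsUnit (Nat.card G : Γ(S, ⊤)))
variable {Z : Over S} (ι : Z ⟶ X) (hι : ∀ g : G, ι ≫ (ρ g).hom = ι)
  (hZ : ∀ (T : Over S) (t : T ⟶ X), (∀ g : G, t ≫ (ρ g).hom = t) ↔ ∃! t' : T ⟶ Z, t' ≫ ι = t)

omit [Smooth X.hom] in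
include hι hZ in
theorem isClosedImmersion_fixed : IsClosedImmersion ι.left := by
  obtain ⟨W, i, h1, h2, h3⟩ := exists_fixed_closed ρ
  haveI := h1
  haveI : Mono i.left := inferInstance
  haveI : Mono i := Over.mono_of_mono_left i
  obtain ⟨s, hs⟩ := h3 Z ι hι
  obtain ⟨t, ht, -⟩ := (hZ W i).mp h2
  have e1 : s ≫ t = 𝟙 Z := ((hZ Z ι).mp hι).unique (by rw [Category.assoc, ht, hs]) (Category.id_comp _)
  have e2 : t ≫ s = 𝟙 W := by rw [← cancel_mono i, Category.assoc, hs, ht, Category.id_comp]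
  haveI : IsIso s.left := ⟨t.left, by rw [← Over.comp_left, e1, Over.id_left], by rw [← Over.comp_left, e2, Over.id_left]⟩
  rw [← hs, Over.comp_left]
  infer_instance

include hG hι hZ in
theorem smooth_fixed : Smooth Z.hom := by
  classical
  haveI := Fintype.ofFinite G
  haveI hcl := isClosedImmersion_fixed ρ ι hι hZ
  have hw : ∀ g, (ρ g).hom.left ≫ X.hom = X.hom := fun g => Over.w _
  have hcomp : ∀ g h, (ρ h).hom.left ≫ (ρ g).hom.left = (ρ (g * h)).hom.left := fun g h => by
    rw [map_mul, ← Over.comp_left]; rfl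
  have key : ∀ z : Z.left, ∃ U : Z.left.Opens, z ∈ U ∧ Smooth (U.ι ≫ Z.hom) := by
    intro z
    let x := ι.left z
    have hfix : ∀ g, (ρ g).hom.left x = x := fun g => by
      show (ι.left ≫ (ρ g).hom.left) z = ι.left z
      rw [← Over.comp_left, hι]
    obtain ⟨_, ⟨V, hV, rfl⟩, hxV, -⟩ :=
      S.isBasis_affineOpens.exists_subset_of_mem_open (Set.mem_univ (X.hom x)) isOpen_univ
    obtain ⟨_, ⟨U₀, hU₀, rfl⟩, hxU, hUV⟩ :=
      X.left.isBasis_affineOpens.exists_subset_of_mem_open (show x ∈ (X.hom ⁻¹ᵁ V : Set X.left) from hxV) (X.hom ⁻¹ᵁ V).2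
    let X' := X.hom ⁻¹ᵁ V
    have hstab : ∀ g, (ρ g).hom.left ⁻¹ᵁ X' = X' := fun g => by
      show ((ρ g).hom.left ≫ X.hom) ⁻¹ᵁ V = X'
      rw [hw]
    haveI : X'.toScheme.IsSeparated := by
      refine ⟨?_⟩
      haveI : IsAffine (V : Scheme) := hV
      haveI : IsSeparated (terminal.from (V : Scheme)) := inferInstance
      rw [← terminal.comp_from (X.hom ∣_ V)]
      exact MorphismProperty.comp_mem @IsSeparated _ _ inferInstance inferInstance
    haveI : IsAffineHom (pullback.diagonal (terminal.from X'.toScheme)) := inferInstance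
    let U' : G → X'.toScheme.Opens := fun g => X'.ι ⁻¹ᵁ ((ρ g).hom.left ⁻¹ᵁ U₀)
    haveI : ∀ g, IsIso (ρ g).hom.left := fun g => ⟨(ρ g).inv.left, by rw [← Over.comp_left]; simp, by rw [← Over.comp_left]; simp⟩
    have hle : ∀ g, (ρ g).hom.left ⁻¹ᵁ U₀ ≤ X' := fun g =>
      ((ρ g).hom.left.preimage_mono hUV).trans (hstab g).le
    have hU' : ∀ g, IsAffineOpen (U' g) := fun g => by
      refine (hU₀.preimage_of_isIso _).preimage_of_isOpenImmersion X'.ι ?_
      rw [Scheme.Opens.opensRange_ι]; exact hle g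
    let W : X.left.Opens := X'.ι ''ᵁ ⨅ g, U' g
    have hW : IsAffineOpen W := (IsAffineOpen.iInf hU').image_of_isOpenImmersion _
    have memW : ∀ y : X.left, y ∈ W ↔ ∀ g, (ρ g).hom.left y ∈ U₀ := fun y => by
      constructor
      · rintro ⟨y', hy', rfl⟩ g
        rw [SetLike.mem_coe, ← SetLike.mem_coe, TopologicalSpace.Opens.coe_iInf] at hy'
        exact Set.mem_iInter.mp hy' g
      · intro hy
        refine ⟨⟨y, hle 1 (hy 1)⟩, ?_, rfl⟩
        rw [TopologicalSpace.Opens.coe_iInf]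
        exact Set.mem_iInter.mpr hy
    have hWstab : ∀ h, W ≤ (ρ h).hom.left ⁻¹ᵁ W := fun h y hy => by
      refine (memW _).mpr fun g => ?_
      show ((ρ h).hom.left ≫ (ρ g).hom.left) y ∈ U₀
      rw [hcomp]
      exact (memW y).mp hy _
    have hWV : W ≤ X.hom ⁻¹ᵁ V := by rintro _ ⟨y, -, rfl⟩; exact y.2
    have hxW : x ∈ W := (memW x).mpr fun g => by rw [hfix]; exact hxU
    let UZ := ι.left ⁻¹ᵁ W
    have hUZ : IsAffineOpen UZ := hW.preimage ι.left
    refine ⟨UZ, hxW, ?_⟩
    have hZV : UZ ≤ Z.hom ⁻¹ᵁ V := fun y hy => by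
      show Z.hom y ∈ V
      rw [← Over.w ι]; exact hWV hy
    let φV := X.hom.appLE V W hWV
    letI := φV.hom.toAlgebra
    haveI : Algebra.Smooth Γ(S, V) Γ(X.left, W) :=
      RingHom.smooth_algebraMap.mp (X.hom.smooth_appLE hV hW hWV)
    have hsv : ∀ g, φV ≫ (ρ g).hom.left.appLE W W (hWstab g) = φV := fun g => by
      rw [Scheme.Hom.appLE_comp_appLE]; simp only [hw]; rfl
    let σ : G → Γ(X.left, W) →ₐ[Γ(S, V)] Γ(X.left, W) := fun g =>
      { toRingHom := ((ρ g).hom.left.appLE W W (hWstab g)).hom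
        commutes' := fun r => congrArg (fun f => CommRingCat.Hom.hom f r) (hsv g) }
    have hn : IsUnit (Fintype.card G : Γ(S, V)) := by
      have h := hG.map (S.presheaf.map (homOfLE (le_top : V ≤ ⊤)).op).hom
      rwa [map_natCast, Nat.card_eq_fintype_card] at h
    have hσ : ∀ g h a, σ g (σ h a) = σ (h * g) a := fun g h a => by
      show (((ρ h).hom.left.appLE W W (hWstab h)) ≫ (ρ g).hom.left.appLE W W (hWstab g)).hom a = _
      rw [Scheme.Hom.appLE_comp_appLE]
      simp only [hcomp]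
      rfl
    set J := Ideal.span (Set.range fun p : G × Γ(X.left, W) => σ p.1 p.2 - p.2) with hJ
    have hsm := smooth_quotient_fixed hn σ hσ
    rw [← hJ] at hsm
    let π := ι.left.appLE W UZ le_rfl
    have hπs : Function.Surjective π.hom := by
      rw [show π = ι.left.app W by simp [π, Scheme.Hom.app_eq_appLE, UZ]]
      exact Scheme.Hom.app_surjective _ W hW
    have hπσ : ∀ g, (ρ g).hom.left.appLE W W (hWstab g) ≫ π = π := fun g => by
      rw [Scheme.Hom.appLE_comp_appLE]
      simp only [← Over.comp_left, hι]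
      rfl
    let T : Over S := Over.mk ((Spec.map (CommRingCat.ofHom (Ideal.Quotient.mk J)) ≫ hW.fromSpec) ≫ X.hom)
    let t : T ⟶ X := Over.homMk (Spec.map (CommRingCat.ofHom (Ideal.Quotient.mk J)) ≫ hW.fromSpec) rfl
    have ht : ∀ g, t ≫ (ρ g).hom = t := fun g => by
      refine Over.OverMorphism.ext ?_
      show (Spec.map (CommRingCat.ofHom (Ideal.Quotient.mk J)) ≫ hW.fromSpec) ≫ (ρ g).hom.left = _
      rw [Category.assoc, ← IsAffineOpen.SpecMap_appLE_fromSpec (ρ g).hom.left hW hW (hWstab g), ← Category.assoc, ← Spec.map_comp]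
      congr 2
      ext a
      exact Ideal.Quotient.eq.mpr (Ideal.subset_span ⟨(g, a), rfl⟩)
    obtain ⟨t', ht', -⟩ := (hZ T t).mp ht
    have hrange : Set.range t'.left ⊆ Set.range hUZ.fromSpec := by
      rw [hUZ.range_fromSpec]
      rintro _ ⟨y, rfl⟩
      show (t'.left ≫ ι.left) y ∈ W
      rw [← Over.comp_left, ht']
      have : hW.fromSpec (Spec.map (CommRingCat.ofHom (Ideal.Quotient.mk J)) y) ∈ Set.range hW.fromSpec := Set.mem_range_self _
      rwa [hW.range_fromSpec] at this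
    obtain ⟨φ, hφ⟩ := Spec.map_surjective (IsOpenImmersion.lift hUZ.fromSpec t'.left hrange)
    have hφπ : π ≫ φ = CommRingCat.ofHom (Ideal.Quotient.mk J) := by
      apply Spec.map_injective
      rw [← cancel_mono hW.fromSpec, Spec.map_comp, Category.assoc,
        IsAffineOpen.SpecMap_appLE_fromSpec ι.left hW hUZ le_rfl, hφ, ← Category.assoc, IsOpenImmersion.lift_fac,
        ← Over.comp_left, ht']
      rfl
    have hker : RingHom.ker π.hom = J := by
      refine le_antisymm (fun a ha => ?_) (Ideal.span_le.mpr ?_)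
      · rw [← Ideal.Quotient.eq_zero_iff_mem]
        have := congrArg (fun f => CommRingCat.Hom.hom f a) hφπ
        simp only [CommRingCat.hom_comp, RingHom.comp_apply, CommRingCat.hom_ofHom] at this
        rw [← this, RingHom.mem_ker.mp ha, map_zero]
      · rintro _ ⟨⟨g, a⟩, rfl⟩
        rw [SetLike.mem_coe, RingHom.mem_ker, map_sub, sub_eq_zero]
        exact congrArg (fun f => CommRingCat.Hom.hom f a) (hπσ g)
    let ψ := Z.hom.appLE V UZ hZV
    have hψ : φV ≫ π = ψ := by
      rw [Scheme.Hom.appLE_comp_appLE]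
      simp only [Over.w]
      rfl
    letI := ψ.hom.toAlgebra
    let πA : Γ(X.left, W) →ₐ[Γ(S, V)] Γ(Z.left, UZ) :=
      { toRingHom := π.hom, commutes' := fun r => congrArg (fun f => CommRingCat.Hom.hom f r) hψ }
    haveI := hsm
    haveI : Algebra.Smooth Γ(S, V) Γ(Z.left, UZ) :=
      Algebra.Smooth.of_equiv ((Ideal.quotientEquivAlgOfEq _ (hker.symm : J = RingHom.ker πA)).trans
        (Ideal.quotientKerAlgEquivOfSurjective (f := πA) hπs))
    have hs : ψ.hom.Smooth := RingHom.smooth_algebraMap.mpr ‹_›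
    haveI : IsAffine (UZ : Scheme) := hUZ
    haveI : IsAffine (V : Scheme) := hV
    rw [← Scheme.Hom.resLE_comp_ι Z.hom hZV]
    haveI : Smooth (Z.hom.resLE V UZ hZV) := by
      rw [HasRingHomProperty.iff_of_isAffine (P := @Smooth)]
      rw [RingHom.Smooth.respectsIso.arrow_mk_iso_iff (arrowResLEAppIso Z.hom V UZ hZV)]
      exact hs
    infer_instance
  choose U hzU hU using key
  rw [IsZariskiLocalAtSource.iff_of_iSup_eq_top (P := @Smooth) U
    (top_le_iff.mp fun z _ => TopologicalSpace.Opens.mem_iSup.mpr ⟨z, hzU z⟩)]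
  exact hU

end Scheme

end Groth.Agent.AlgGrpQ
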