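import Groth.Agent.FlatMisc.PowLocal
import Mathlib.AlgebraicGeometry.Morphisms.Flat
import Mathlib.AlgebraicGeometry.Noetherian
import Mathlib.RingTheory.Nakayama
import Mathlib.RingTheory.Localization.AtPrime.Basic

/-!
# A local map which is bijective modulo all powers of the maximal ideals is flat
-/

universe u

open CategoryTheory AlgebraicGeometry TensorProduct IsLocalRing

namespace Groth.Agent.AlgGrpQ

theorem flat_over_field {k : Type u} [Field k] {X : Scheme.{u}} (f : X ⟶ Spec (CommRingCat.of k)) : Flat f := by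
  rw [IsZariskiLocalAtSource.iff_of_openCover (P := @Flat) X.affineCover]
  intro i
  obtain ⟨φ, hφ⟩ := Spec.map_surjective (X.affineCover.f i ≫ f)
  have hf : Flat (Spec.map φ) := by
    rw [HasRingHomProperty.Spec_iff (P := @Flat)]
    exact RingHom.Flat.of_isField (Field.toIsField k) _
  rw [hφ] at hf
  exact hf

theorem flat_of_quotPow {A B : CommRingCat.{u}} [IsLocalRing A] [IsLocalRing B] [IsNoetherianRing A] [IsNoetherianRing B]
    (φ : A ⟶ B) (h : ∀ n : ℕ, Function.Surjective ((Ideal.Quotient.mk (maximalIdeal B ^ (n + 1))).comp φ.hom) ∧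
      ∀ a, φ.hom a ∈ maximalIdeal B ^ (n + 1) ↔ a ∈ maximalIdeal A ^ (n + 1)) : φ.hom.Flat := by
  algebraize [φ.hom]
  have hmem : ∀ a, φ.hom a ∈ maximalIdeal B ↔ a ∈ maximalIdeal A := fun a => by simpa using (h 0).2 a
  have hmap : (maximalIdeal A).map (algebraMap A B) = maximalIdeal B := by
    refine le_antisymm (Ideal.map_le_iff_le_comap.mpr fun a ha => (hmem a).mpr ha) ?_
    refine Submodule.le_of_le_smul_of_le_jacobson_bot (IsNoetherian.noetherian _) (maximalIdeal_le_jacobson _) fun b hb => ?_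
    obtain ⟨a, ha⟩ := (h 1).1 (Ideal.Quotient.mk _ b)
    have hd : φ.hom a - b ∈ maximalIdeal B ^ 2 := Ideal.Quotient.eq.mp ha
    have hd1 : φ.hom a - b ∈ maximalIdeal B := Ideal.pow_le_self two_ne_zero hd
    have ham : a ∈ maximalIdeal A := (hmem a).mp (by simpa using add_mem hd1 hb)
    refine Submodule.mem_sup.mpr ⟨φ.hom a, Ideal.mem_map_of_mem _ ham, -(φ.hom a - b), ?_, by abel⟩
    rw [smul_eq_mul, ← pow_two]
    exact neg_mem hd
  have hflat : ∀ n : ℕ, 0 < n → Module.Flat (A ⧸ maximalIdeal A ^ n) ((A ⧸ maximalIdeal A ^ n) ⊗[A] B) := by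
    intro n hn
    obtain ⟨n, rfl⟩ : ∃ m, n = m + 1 := ⟨n - 1, by omega⟩
    let J := maximalIdeal A ^ (n + 1)
    let g : (A ⧸ J) →ₗ[A ⧸ J] (A ⧸ J) ⊗[A] B := LinearMap.toSpanSingleton _ _ (1 ⊗ₜ 1)
    let e : (A ⧸ J) ⊗[A] B ≃ₗ[A] B ⧸ J • (⊤ : Submodule A B) := TensorProduct.quotTensorEquivQuotSMul B J
    have hJ : ∀ b : B, b ∈ J • (⊤ : Submodule A B) ↔ b ∈ maximalIdeal B ^ (n + 1) := fun b => by
      rw [Ideal.smul_top_eq_map, Submodule.restrictScalars_mem, Ideal.map_pow, hmap]
    have hge : ∀ a : A, g (Ideal.Quotient.mk J a) = (1 : A ⧸ J) ⊗ₜ algebraMap A B a := fun a => by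
      show Ideal.Quotient.mk J a • ((1 : A ⧸ J) ⊗ₜ[A] (1 : B)) = _
      rw [TensorProduct.smul_tmul', smul_eq_mul, mul_one, Algebra.algebraMap_eq_smul_one, ← TensorProduct.smul_tmul,
        Algebra.smul_def, mul_one]
      rfl
    refine Module.Flat.of_linearEquiv (LinearEquiv.ofBijective g ⟨?_, ?_⟩).symm
    · refine (injective_iff_map_eq_zero g).mpr fun x hx => ?_
      obtain ⟨a, rfl⟩ := Ideal.Quotient.mk_surjective x
      rw [hge] at hx
      have h1 := congrArg e hx
      rw [map_zero] at h1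
      erw [TensorProduct.quotTensorEquivQuotSMul_mk_tmul] at h1
      rw [one_smul, Submodule.Quotient.mk_eq_zero, hJ] at h1
      exact Ideal.Quotient.eq_zero_iff_mem.mpr (((h n).2 a).mp h1)
    · intro z
      obtain ⟨b, hb⟩ := Submodule.Quotient.mk_surjective _ (e z)
      obtain ⟨a, ha⟩ := (h n).1 (Ideal.Quotient.mk _ b)
      refine ⟨Ideal.Quotient.mk J a, e.injective ?_⟩
      rw [hge, ← hb]
      erw [TensorProduct.quotTensorEquivQuotSMul_mk_tmul]
      rw [one_smul, Submodule.Quotient.eq, hJ]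
      exact Ideal.Quotient.eq.mp ha
  have h2 := FlatMisc.flat_localizedModule_of_flat_pow (maximalIdeal A) hflat (maximalIdeal B) hmap.le
  haveI : IsLocalization (maximalIdeal B).primeCompl B := IsLocalization.self fun s hs =>
    not_not.mp fun hu => hs ((mem_maximalIdeal _).mpr hu)
  haveI := isLocalizedModule_id (maximalIdeal B).primeCompl B B
  let e : LocalizedModule (maximalIdeal B).primeCompl B ≃ₗ[B] B :=
    IsLocalizedModule.iso (maximalIdeal B).primeCompl (LinearMap.id : B →ₗ[B] B)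
  exact Module.Flat.of_linearEquiv (e.restrictScalars A).symm

end Groth.Agent.AlgGrpQ
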