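import Groth.Agent.AlgGrpQ.DiagQuot
import Groth.Agent.ComodLib.PrimCriteria
import Groth.Agent.GalDescX.Twist
import Mathlib.FieldTheory.IsSepClosed

/-!
# Group-like elements under change of field
-/

universe u

open TensorProduct

namespace Groth.Agent.AlgGrpQ

variable {k : Type u} [Field k]

/-- An algebra map through which a bialgebra map factors over a surjective one is a bialgebra map. -/
theorem exists_bialgHom_of_surjective {S X Y Z : Type u} [CommRing S] [CommRing X] [CommRing Y] [CommRing Z]
    [Bialgebra S X] [Bialgebra S Y] [Bialgebra S Z] (q : X →ₐc[S] Y) (hq : Function.Surjective q) (π : X →ₐc[S] Z)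
    (f : Y →ₐ[S] Z) (h : ∀ x, f (q x) = π x) : ∃ g : Y →ₐc[S] Z, ∀ y, g y = f y := by
  refine ⟨BialgHom.ofAlgHom f (AlgHom.ext fun y => ?_) (AlgHom.ext fun y => ?_), fun _ => rfl⟩
  · obtain ⟨x, rfl⟩ := hq y
    show Coalgebra.counit (R := S) (f (q x)) = Coalgebra.counit (R := S) (q x)
    rw [h, CoalgHomClass.counit_comp_apply, CoalgHomClass.counit_comp_apply]
  · obtain ⟨x, rfl⟩ := hq y
    show Algebra.TensorProduct.map f f (Coalgebra.comul (R := S) (q x)) = Coalgebra.comul (R := S) (f (q x))
    rw [h, ← CoalgHomClass.map_comp_comul_apply q, ← CoalgHomClass.map_comp_comul_apply π]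
    induction Coalgebra.comul (R := S) x using TensorProduct.induction_on with
    | zero => simp
    | tmul a b => simp [h]
    | add a b ha hb => simp only [map_add, ha, hb]

/-- An injective bialgebra map reflects group-like elements. -/
theorem isGroupLikeElem_of_injective {S X Y : Type u} [Field S] [CommRing X] [CommRing Y] [Bialgebra S X]
    [Bialgebra S Y] (f : X →ₐc[S] Y) (hf : Function.Injective f) {x : X} (hx : IsGroupLikeElem S (f x)) :
    IsGroupLikeElem S x := by
  refine ⟨by rw [← CoalgHomClass.counit_comp_apply f, hx.counit_eq_one], ?_⟩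
  refine TensorProduct.map_injective_of_flat_flat (f : X →ₗ[S] Y) (f : X →ₗ[S] Y) hf hf ?_
  exact (CoalgHomClass.map_comp_comul_apply f x).trans (hx.comul_eq_tmul_self.trans (TensorProduct.map_tmul _ _ x x).symm)

/-- The group algebra is spanned by its group-like elements. -/
theorem isDiagonalizable_monoidAlgebra (M : Type u) [CommGroup M] :
    HopfRep.IsDiagonalizable k (MonoidAlgebra k M) := by
  show Submodule.span k _ = ⊤
  refine eq_top_iff.mpr fun z _ => ?_
  induction z using MonoidAlgebra.induction_linear with
  | zero => simp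
  | add f g hf hg => exact Submodule.add_mem _ (hf trivial) (hg trivial)
  | single χ r =>
    rw [show MonoidAlgebra.single χ r = r • MonoidAlgebra.single χ (1 : k) by simp]
    exact Submodule.smul_mem _ _ (Submodule.subset_span (MonoidAlgebra.isGroupLikeElem_of χ))

variable {A : Type u} [CommRing A] [Bialgebra k A]

section Iff

variable (E : Type u) [Field E] [Algebra k E]

/-- Product of two base changed elements in the base change of the square. -/
noncomputable def prodSq (g h : E ⊗[k] A) : E ⊗[k] (A ⊗[k] A) :=
  Algebra.TensorProduct.map (AlgHom.id k E) (Algebra.TensorProduct.includeLeft : A →ₐ[k] A ⊗[k] A) g *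
    Algebra.TensorProduct.map (AlgHom.id k E) (Algebra.TensorProduct.includeRight : A →ₐ[k] A ⊗[k] A) h

theorem distribBaseChange_prodSq (g h : E ⊗[k] A) :
    AlgebraTensorModule.distribBaseChange k E A A (prodSq E g h) = g ⊗ₜ[E] h := by
  induction g using TensorProduct.induction_on with
  | zero => simp [prodSq]
  | add p q hp hq =>
    rw [show prodSq E (p + q) h = prodSq E p h + prodSq E q h by simp [prodSq, add_mul], map_add, hp, hq, add_tmul]
  | tmul c a =>
    induction h using TensorProduct.induction_on with
    | zero => simp [prodSq]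
    | add p q hp hq =>
      rw [show prodSq E (c ⊗ₜ a) (p + q) = prodSq E (c ⊗ₜ a) p + prodSq E (c ⊗ₜ a) q by simp [prodSq, mul_add],
        map_add, hp, hq, tmul_add]
    | tmul d b =>
      have e : prodSq E (c ⊗ₜ[k] a) (d ⊗ₜ[k] b) = (c * d) ⊗ₜ[k] (a ⊗ₜ[k] b) := by simp [prodSq]
      rw [e, AlgebraTensorModule.distribBaseChange_tmul,
        show d ⊗ₜ[k] b = d • ((1 : E) ⊗ₜ[k] b) by rw [TensorProduct.smul_tmul', smul_eq_mul, mul_one],
        ← TensorProduct.smul_tmul, TensorProduct.smul_tmul', smul_eq_mul, mul_comm]

theorem comul_eq_distrib (g : E ⊗[k] A) :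
    Coalgebra.comul (R := E) g =
      AlgebraTensorModule.distribBaseChange k E A A ((Coalgebra.comul (R := k) (A := A)).baseChange E g) := by
  induction g using TensorProduct.induction_on with
  | zero => simp
  | add p q hp hq => simp only [map_add, hp, hq]
  | tmul c a =>
    rw [show c ⊗ₜ[k] a = c • ((1 : E) ⊗ₜ[k] a) by rw [TensorProduct.smul_tmul', smul_eq_mul, mul_one]]
    simp only [map_smul, LinearMap.baseChange_tmul]
    refine congrArg (c • ·) ?_
    rw [comul_one_tmul']
    induction Coalgebra.comul (R := k) a using TensorProduct.induction_on with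
    | zero => simp
    | add p q hp hq => simp only [map_add, tmul_add, hp, hq]
    | tmul p q => rfl

theorem counit_eq_rid (g : E ⊗[k] A) :
    Coalgebra.counit (R := E) g =
      AlgebraTensorModule.rid k E E ((Coalgebra.counit (R := k) (A := A)).baseChange E g) := by
  induction g using TensorProduct.induction_on with
  | zero => simp
  | add p q hp hq => simp only [map_add, hp, hq]
  | tmul c a => simp

/-- Group-like elements of a base change by equations which are natural in the field. -/
theorem isGroupLikeElem_iff_prodSq (g : E ⊗[k] A) :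
    IsGroupLikeElem E g ↔ AlgebraTensorModule.rid k E E ((Coalgebra.counit (R := k) (A := A)).baseChange E g) = 1 ∧
      (Coalgebra.comul (R := k) (A := A)).baseChange E g = prodSq E g g := by
  constructor
  · intro h
    refine ⟨(counit_eq_rid E g).symm.trans h.counit_eq_one, (AlgebraTensorModule.distribBaseChange k E A A).injective ?_⟩
    rw [← comul_eq_distrib, h.comul_eq_tmul_self, distribBaseChange_prodSq]
  · rintro ⟨h1, h2⟩
    exact ⟨(counit_eq_rid E g).trans h1, by rw [comul_eq_distrib, h2, distribBaseChange_prodSq]⟩

end Iff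

section Change

variable {E K : Type u} [Field E] [Algebra k E] [Field K] [Algebra k K] (σ : E →ₐ[k] K)

/-- Change of field on a base change. -/
noncomputable def changeField {X : Type u} [CommRing X] [Algebra k X] : E ⊗[k] X →ₐ[k] K ⊗[k] X :=
  Algebra.TensorProduct.map σ (AlgHom.id k X)

@[simp] theorem changeField_tmul {X : Type u} [CommRing X] [Algebra k X] (c : E) (x : X) :
    changeField σ (c ⊗ₜ[k] x) = σ c ⊗ₜ[k] x := by simp [changeField]

theorem changeField_injective {X : Type u} [CommRing X] [Algebra k X] :
    Function.Injective (changeField (X := X) σ) :=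
  Module.Flat.rTensor_preserves_injective_linearMap (M := X) σ.toLinearMap σ.toRingHom.injective

theorem changeField_smul {X : Type u} [CommRing X] [Algebra k X] (c : E) (x : E ⊗[k] X) :
    changeField σ (c • x) = σ c • changeField σ x := by
  induction x using TensorProduct.induction_on with
  | zero => simp
  | add p q hp hq => simp only [smul_add, map_add, hp, hq]
  | tmul d y => simp [TensorProduct.smul_tmul']

theorem isGroupLikeElem_changeField_iff (g : E ⊗[k] A) :
    IsGroupLikeElem K (changeField σ g) ↔ IsGroupLikeElem E g := by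
  rw [isGroupLikeElem_iff_prodSq, isGroupLikeElem_iff_prodSq]
  have h1 : ∀ g, AlgebraTensorModule.rid k K K ((Coalgebra.counit (R := k) (A := A)).baseChange K (changeField σ g)) =
      σ (AlgebraTensorModule.rid k E E ((Coalgebra.counit (R := k) (A := A)).baseChange E g)) := fun g => by
    induction g using TensorProduct.induction_on with
    | zero => simp
    | add p q hp hq => simp only [map_add, hp, hq]
    | tmul c a => simp
  have h2 : ∀ g, (Coalgebra.comul (R := k) (A := A)).baseChange K (changeField σ g) =
      changeField σ ((Coalgebra.comul (R := k) (A := A)).baseChange E g) := fun g => by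
    induction g using TensorProduct.induction_on with
    | zero => simp
    | add p q hp hq => simp only [map_add, hp, hq]
    | tmul c a => simp
  have h3 : prodSq K (changeField σ g) (changeField σ g) = changeField σ (prodSq E g g) := by
    have e : ∀ (j : A →ₐ[k] A ⊗[k] A) (g : E ⊗[k] A), Algebra.TensorProduct.map (AlgHom.id k K) j (changeField σ g) =
        changeField σ (Algebra.TensorProduct.map (AlgHom.id k E) j g) := fun j g => by
      induction g using TensorProduct.induction_on with
      | zero => simp
      | add p q hp hq => simp only [map_add, hp, hq]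
      | tmul c a => simp
    rw [prodSq, prodSq, map_mul, e, e]
  rw [h1, h2, h3, map_eq_one_iff σ σ.toRingHom.injective, (changeField_injective σ).eq_iff]

theorem changeField_mem_span {S : Set (E ⊗[k] A)} {T : Set (K ⊗[k] A)} (h : ∀ s ∈ S, changeField σ s ∈ T)
    {x : E ⊗[k] A} (hx : x ∈ Submodule.span E S) : changeField σ x ∈ Submodule.span K T := by
  induction hx using Submodule.span_induction with
  | mem y hy => exact Submodule.subset_span (h y hy)
  | zero => simp
  | add p q _ _ hp hq => rw [map_add]; exact Submodule.add_mem _ hp hq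
  | smul c p _ hp => rw [changeField_smul]; exact Submodule.smul_mem _ _ hp

include σ in
/-- Diagonalizability along a change of field. -/
theorem isDiagonalizable_changeField (h : HopfRep.IsDiagonalizable E (E ⊗[k] A)) :
    HopfRep.IsDiagonalizable K (K ⊗[k] A) := by
  show Submodule.span K _ = ⊤
  refine eq_top_iff.mpr fun z _ => ?_
  induction z using TensorProduct.induction_on with
  | zero => simp
  | add p q hp hq => exact Submodule.add_mem _ (hp trivial) (hq trivial)
  | tmul c a =>
    rw [show c ⊗ₜ[k] a = c • changeField σ ((1 : E) ⊗ₜ[k] a) by simp [TensorProduct.smul_tmul']]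
    exact Submodule.smul_mem _ _ (changeField_mem_span σ
      (fun s hs => (isGroupLikeElem_changeField_iff σ s).mpr hs) ((show Submodule.span E _ = ⊤ from h) ▸ Submodule.mem_top))

end Change

/-- Finitely many elements of a base change to an algebraic extension live over a finite subextension. -/
theorem exists_finite_level (K : Type u) [Field K] [Algebra k K] [Algebra.IsAlgebraic k K] {X : Type u} [CommRing X]
    [Algebra k X] (s : Finset (K ⊗[k] X)) :
    ∃ E : IntermediateField k K, FiniteDimensional k E ∧ ∀ z ∈ s, z ∈ Set.range (changeField (X := X) E.val) := by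
  classical
  choose n a r h using fun z : K ⊗[k] X => TensorProduct.exists_sum_tmul_eq z
  let T : Set K := ⋃ z ∈ s, Set.range (a z)
  have : Finite T := (s.finite_toSet.biUnion fun z _ => Set.finite_range (a z)).to_subtype
  refine ⟨IntermediateField.adjoin k T, IntermediateField.finiteDimensional_adjoin
    fun x _ => Algebra.IsIntegral.isIntegral x, fun z hz => ?_⟩
  refine ⟨∑ i, (⟨a z i, IntermediateField.subset_adjoin _ _ (Set.mem_biUnion hz ⟨i, rfl⟩)⟩) ⊗ₜ r z i, ?_⟩
  rw [map_sum]
  conv_rhs => rw [h z]
  simp

/-- A group-like element over a finite Galois extension is spanned by rational elements of the span of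
the group-like elements. -/
theorem mem_span_fixed_groupLike (E : Type u) [Field E] [Algebra k E] [FiniteDimensional k E] [IsGalois k E]
    (g : E ⊗[k] A) (hg : IsGroupLikeElem E g) :
    g ∈ Submodule.span E ((fun b : A => (1 : E) ⊗ₜ[k] b) ''
      {b | (1 : E) ⊗ₜ[k] b ∈ Submodule.span E {h : E ⊗[k] A | IsGroupLikeElem E h}}) := by
  classical
  let G := E ≃ₐ[k] E
  let cj : G → (E ⊗[k] A) := fun σ => changeField (σ : E →ₐ[k] E) g
  have hcj : ∀ σ, IsGroupLikeElem E (cj σ) := fun σ => (isGroupLikeElem_changeField_iff _ g).mpr hg
  let Λ : (G → E) →ₗ[E] E ⊗[k] A :=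
    { toFun := fun a => ∑ σ, a σ • cj σ
      map_add' := fun a b => by simp [add_smul, Finset.sum_add_distrib]
      map_smul' := fun c a => by simp [Finset.smul_sum, smul_smul] }
  suffices hΛ : ∀ a, Λ a ∈ Submodule.span E ((fun b : A => (1 : E) ⊗ₜ[k] b) ''
      {b | (1 : E) ⊗ₜ[k] b ∈ Submodule.span E {h : E ⊗[k] A | IsGroupLikeElem E h}}) by
    have e : Λ (Pi.single 1 1) = g := by
      show ∑ σ, (Pi.single 1 1 : G → E) σ • cj σ = g
      rw [Finset.sum_eq_single (1 : G)]
      · simp only [Pi.single_eq_same, one_smul, cj]
        clear hΛ hcj Λ cj hg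
        induction g using TensorProduct.induction_on with
        | zero => simp
        | add p q hp hq => simp only [map_add, hp, hq]
        | tmul c x => simp
      · intro σ _ hσ; simp [Pi.single_eq_of_ne hσ]
      · simp
    exact e ▸ hΛ _
  intro a
  have ha : a ∈ Submodule.span E (Set.range fun (x : E) => fun σ : E ≃ₐ[k] E => σ x) := by
    rw [GalDescX.span_conjugates]; trivial
  induction ha using Submodule.span_induction with
  | mem _ hx =>
    obtain ⟨x, rfl⟩ := hx
    have hfix : ∀ τ : G, τ • (∑ σ : G, σ x • cj σ) = ∑ σ : G, σ x • cj σ := fun τ => by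
      have e : ∀ t : E ⊗[k] A, τ • t = changeField (τ : E →ₐ[k] E) t := fun t => by
        induction t using TensorProduct.induction_on with
        | zero => simp
        | add p q hp hq => simp only [smul_add, map_add, hp, hq]
        | tmul c y => simp [TensorProduct.smul_tmul']; rfl
      have e' : ∀ (σ : G) (t : E ⊗[k] A), changeField (τ : E →ₐ[k] E) (changeField (σ : E →ₐ[k] E) t) =
          changeField ((τ * σ : G) : E →ₐ[k] E) t := fun σ t => by
        induction t using TensorProduct.induction_on with
        | zero => simp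
        | add p q hp hq => simp only [map_add, hp, hq]
        | tmul c y => simp; rfl
      rw [e, map_sum]
      refine Fintype.sum_equiv (Equiv.mulLeft τ) _ _ fun σ => ?_
      rw [changeField_smul, e']
      simp [cj]; rfl
    obtain ⟨b, hb⟩ := GalDescX.exists_one_tmul _ hfix
    show (∑ σ : G, σ x • cj σ) ∈ _
    rw [← hb]
    refine Submodule.subset_span ⟨b, ?_, rfl⟩
    rw [Set.mem_setOf_eq, hb]
    exact Submodule.sum_mem _ fun σ _ => Submodule.smul_mem _ _ (Submodule.subset_span (hcj σ))
  | zero => rw [map_zero]; exact Submodule.zero_mem _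
  | add p q _ _ hp hq => rw [map_add]; exact Submodule.add_mem _ hp hq
  | smul c p _ hp => rw [map_smul]; exact Submodule.smul_mem _ _ hp

/-- Trigonalizability along a tower of fields. -/
theorem isTrigonalizable_tower {E K : Type u} [Field E] [Algebra k E] [Field K] [Algebra k K] [Algebra E K]
    [IsScalarTower k E K] (hT : HopfRep.IsTrigonalizable E (E ⊗[k] A)) :
    HopfRep.IsTrigonalizable K (K ⊗[k] A) := by
  let ι : A →ₐ[k] K ⊗[E] (E ⊗[k] A) :=
    ((Algebra.TensorProduct.includeRight : (E ⊗[k] A) →ₐ[E] K ⊗[E] (E ⊗[k] A)).restrictScalars k).comp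
      Algebra.TensorProduct.includeRight
  let f : K ⊗[k] A →ₐ[K] K ⊗[E] (E ⊗[k] A) :=
    Algebra.TensorProduct.lift (Algebra.ofId K _) ι fun _ _ => Commute.all _ _
  have hf : ∀ (c : K) (a : A), f (c ⊗ₜ[k] a) = c ⊗ₜ[E] ((1 : E) ⊗ₜ[k] a) := fun c a => by
    simp [f, ι, Algebra.TensorProduct.algebraMap_apply]
  have hinj : Function.Injective f := by
    intro x y h
    have e : ∀ z, AlgebraTensorModule.cancelBaseChange k E K K A (f z) = z := fun z => by
      induction z using TensorProduct.induction_on with
      | zero => simp
      | add p q hp hq => simp only [map_add, hp, hq]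
      | tmul c a => rw [hf]; simp
    rw [← e x, ← e y, h]
  let φ : K ⊗[k] A →ₐc[K] K ⊗[E] (E ⊗[k] A) := BialgHom.ofAlgHom f
    (Algebra.TensorProduct.ext (Subsingleton.elim _ _) (AlgHom.ext fun a => by
      show Coalgebra.counit (R := K) (f ((1 : K) ⊗ₜ[k] a)) = Coalgebra.counit (R := K) ((1 : K) ⊗ₜ[k] a)
      rw [hf]; simp))
    (Algebra.TensorProduct.ext (Subsingleton.elim _ _) (AlgHom.ext fun a => by
      show Algebra.TensorProduct.map f f (Coalgebra.comul (R := K) ((1 : K) ⊗ₜ[k] a)) = Coalgebra.comul (R := K) (f ((1 : K) ⊗ₜ[k] a))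
      rw [hf, comul_one_tmul', comul_one_tmul', comul_one_tmul']
      induction Coalgebra.comul (R := k) a using TensorProduct.induction_on with
      | zero => simp
      | add p q hp hq => simp only [map_add, hp, hq]
      | tmul p q =>
        show Algebra.TensorProduct.map f f (((1 : K) ⊗ₜ[k] p) ⊗ₜ[K] ((1 : K) ⊗ₜ[k] q)) =
          ((1 : K) ⊗ₜ[E] ((1 : E) ⊗ₜ[k] p)) ⊗ₜ[K] ((1 : K) ⊗ₜ[E] ((1 : E) ⊗ₜ[k] q))
        simp [hf]))
  exact ComodLib.isTrigonalizable_of_injective φ hinj (isTrigonalizable_baseChange K hT)

end Groth.Agent.AlgGrpQ
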