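import Groth.Prelude.Def_W4c2lssmoduliGProp
import Groth.Agent.IntBC.Closure
import Groth.Agent.NagataLib.IntClosure
import Groth.Agent.NagataLib.Field
import Mathlib.AlgebraicGeometry.Morphisms.SchemeTheoreticallyDominant

/-!
# Finiteness of invariant functions

Invariant functions on an integral scheme, universally closed up to translation over an affine base, are
integral over the base, since their value at the generic point lies in every valuation ring over it; the
finiteness of integral closures then gives finiteness.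
-/

set_option linter.style.haveILetI false

universe u

open CategoryTheory CategoryTheory.Limits CartesianMonoidalCategory MonoidalCategory AlgebraicGeometry
open TopologicalSpace

namespace Groth.Agent.AlgGrpQ.GUnivFinite

/-- The value of a global function at a point with values in a ring. -/
noncomputable def ev {Y : Scheme.{u}} {B : CommRingCat.{u}} (g : Spec B ⟶ Y) : Γ(Y, ⊤) →+* B :=
  (g.appTop ≫ (Scheme.ΓSpecIso B).hom).hom

theorem ev_apply {Y : Scheme.{u}} {B : CommRingCat.{u}} (g : Spec B ⟶ Y) (s : Γ(Y, ⊤)) :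
    ev g s = (Scheme.ΓSpecIso B).hom (g.appTop s) := rfl

theorem ev_specMap {Y : Scheme.{u}} {B C : CommRingCat.{u}} (ψ : B ⟶ C) (g : Spec B ⟶ Y) (s : Γ(Y, ⊤)) :
    ev (Spec.map ψ ≫ g) s = ψ (ev g s) := by
  rw [ev_apply, ev_apply, Scheme.Hom.comp_appTop, CommRingCat.comp_apply]
  exact congrArg (fun f => (ConcreteCategory.hom f) (g.appTop s)) (Scheme.ΓSpecIso_naturality ψ)

theorem ev_comp {Y Y' : Scheme.{u}} {B : CommRingCat.{u}} (g : Spec B ⟶ Y) (p : Y ⟶ Y') (s : Γ(Y', ⊤)) :
    ev (g ≫ p) s = ev g (p.appTop s) := by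
  rw [ev_apply, ev_apply, Scheme.Hom.comp_appTop, CommRingCat.comp_apply]

theorem ev_id {B : CommRingCat.{u}} (b : B) : ev (𝟙 (Spec B)) ((Scheme.ΓSpecIso B).inv b) = b :=
  Iso.inv_hom_id_apply (Scheme.ΓSpecIso B) b

variable {k : Type u} [Field k] {G Y : Over (Spec (CommRingCat.of k))} [GrpObj G]
  {A : Type u} [CommRing A] [Algebra k A]

omit [CommRing A] [Algebra k A] in
/-- An invariant function does not see translations. -/
theorem ev_translate {a : AlgGrp.Action G Y} {B : CommRingCat.{u}} (σ : Spec B ⟶ Spec (CommRingCat.of k))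
    (γ : Over.mk σ ⟶ G) (g : Over.mk σ ⟶ Y) (s : Γ(Y.left, ⊤))
    (hs : a.act.left.appTop s = (snd G Y).left.appTop s) :
    ev (B := B) (lift γ g ≫ a.act).left s = ev (B := B) g.left s := by
  rw [Over.comp_left, ev_comp, hs, ← ev_comp, ← Over.comp_left, lift_snd]

/-- An invariant function is integral over the base at the generic point. -/
theorem isIntegral_ev [IsNoetherianRing A] {a : AlgGrp.Action G Y}
    {p : Y ⟶ Over.mk (Spec.map (CommRingCat.ofHom (algebraMap k A)))} (hp : W4c2lssmoduli.IsGUnivClosed a p)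
    {C : Type u} [CommRing C] [IsDomain C] [Algebra A C] [Algebra.FiniteType A C]
    (c : Spec (CommRingCat.of C) ⟶ Y.left)
    (hc : c ≫ p.left = Spec.map (CommRingCat.ofHom (algebraMap A C)))
    (s : Γ(Y.left, ⊤)) (hs : a.act.left.appTop s = (snd G Y).left.appTop s) :
    IsIntegral A (ev c s) := by
  classical
  let K := FractionRing C
  by_contra hni
  obtain ⟨Z, hZ⟩ := (inferInstance : Algebra.FiniteType A C).1
  obtain ⟨V, hV, hAV, -, hsV⟩ := IntBC.exists_dvr_separating_fg (A := A) (K := K) (Z.image (algebraMap C K))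
    (fun x => by
      have hadj : ∀ y : C, algebraMap C K y ∈ Algebra.adjoin A (↑(Z.image (algebraMap C K)) : Set K) := by
        intro y
        have hy : IsScalarTower.toAlgHom A C K y ∈ (Algebra.adjoin A (Z : Set C)).map (IsScalarTower.toAlgHom A C K) :=
          ⟨y, hZ ▸ Algebra.mem_top, rfl⟩
        rw [AlgHom.map_adjoin] at hy
        rw [Finset.coe_image]
        exact hy
      obtain ⟨y, z, -, rfl⟩ := IsFractionRing.div_surjective (A := C) x
      exact ⟨_, hadj y, _, hadj z, rfl⟩)
    ⊥ (fun s hs => by rw [Submonoid.mem_bot.mp hs, map_one]; exact one_ne_zero)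
    (algebraMap C K (ev c s)) (fun t ht hi => hni <| by
      rw [Submonoid.mem_bot.mp ht, map_one, one_mul] at hi
      exact (isIntegral_algHom_iff (IsScalarTower.toAlgHom A C K) (IsFractionRing.injective C K)).mp hi)
  let ιA : A →+* V := (algebraMap A K).codRestrict V.toSubring hAV
  let sA : Spec (CommRingCat.of V) ⟶ Spec (CommRingCat.of k) :=
    Spec.map (CommRingCat.ofHom ιA) ≫ Spec.map (CommRingCat.ofHom (algebraMap k A))
  let jV := Spec.map (CommRingCat.ofHom (algebraMap V K))
  let g := Spec.map (CommRingCat.ofHom (algebraMap C K)) ≫ c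
  have hg : g ≫ p.left = jV ≫ Spec.map (CommRingCat.ofHom ιA) := by
    rw [Category.assoc, hc, ← Spec.map_comp, ← Spec.map_comp]
    rfl
  let gO : Over.mk (jV ≫ sA) ⟶ Y := Over.homMk g (by
    show g ≫ Y.hom = jV ≫ sA
    rw [show Y.hom = p.left ≫ Spec.map (CommRingCat.ofHom (algebraMap k A)) from (Over.w p).symm,
      ← Category.assoc, hg, Category.assoc])
  let hO : Over.mk sA ⟶ Over.mk (Spec.map (CommRingCat.ofHom (algebraMap k A))) :=
    Over.homMk (Spec.map (CommRingCat.ofHom ιA)) rfl
  obtain ⟨l, γ, -, hl⟩ := hp.2 V K sA gO hO (Over.OverMorphism.ext hg)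
  refine hsV ?_
  have h1 : ev (jV ≫ l.left) s = ev g s := by
    have h2 := congrArg (fun z => ev (B := CommRingCat.of K) z.left s) hl
    exact h2.trans (ev_translate (a := a) (B := CommRingCat.of K) (jV ≫ sA) γ gO s hs)
  rw [ev_specMap, ev_specMap] at h1
  rw [show algebraMap C K (ev c s) = algebraMap V K (ev l.left s) from h1.symm]
  exact (ev l.left s).2

/-- The invariant functions form a finite module. -/
theorem exists_finite [Algebra.FiniteType k A] [LocallyOfFiniteType Y.hom] [IsIntegral Y.left]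
    {a : AlgGrp.Action G Y} {p : Y ⟶ Over.mk (Spec.map (CommRingCat.ofHom (algebraMap k A)))}
    (hp : W4c2lssmoduli.IsGUnivClosed a p) :
    ∃ t : Finset ↑Γ(Y.left, ⊤),
      (∀ s ∈ t, a.act.left.appTop s = (snd G Y).left.appTop s) ∧
      ∀ s : ↑Γ(Y.left, ⊤), a.act.left.appTop s = (snd G Y).left.appTop s →
        ∃ c : ↑Γ(Y.left, ⊤) → A,
          s = ∑ x ∈ t, ((Scheme.ΓSpecIso (CommRingCat.of A)).inv ≫ p.left.appTop) (c x) * x := by
  classical
  haveI : IsNoetherianRing A := Algebra.FiniteType.isNoetherianRing k A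
  haveI : IsLocallyNoetherian Y.left := LocallyOfFiniteType.isLocallyNoetherian Y.hom
  obtain ⟨U, hU, hxU, -⟩ :=
    exists_isAffineOpen_mem_and_subset (show genericPoint Y.left ∈ (⊤ : Y.left.Opens) from trivial)
  haveI : Nonempty U := ⟨⟨_, hxU⟩⟩
  let φ : CommRingCat.of A ⟶ Γ(Y.left, U) := Spec.preimage (hU.fromSpec ≫ p.left)
  have hφ : Spec.map φ = hU.fromSpec ≫ p.left := Spec.map_preimage _
  letI : Algebra A Γ(Y.left, U) := φ.hom.toAlgebra
  haveI : LocallyOfFiniteType (p.left ≫ Spec.map (CommRingCat.ofHom (algebraMap k A))) := by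
    rw [show p.left ≫ Spec.map (CommRingCat.ofHom (algebraMap k A)) = Y.hom from Over.w p]; infer_instance
  haveI : LocallyOfFiniteType p.left :=
    locallyOfFiniteType_of_comp p.left (Spec.map (CommRingCat.ofHom (algebraMap k A)))
  haveI : Algebra.FiniteType A Γ(Y.left, U) := by
    have h : LocallyOfFiniteType (Spec.map φ) := by rw [hφ]; infer_instance
    exact (HasRingHomProperty.Spec_iff (P := @LocallyOfFiniteType)).mp h
  let r : Γ(Y.left, ⊤) →+* Γ(Y.left, U) := ev hU.fromSpec
  have hrinj : Function.Injective r := by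
    haveI : IsDominant hU.fromSpec := by
      refine ⟨?_⟩
      rw [DenseRange, hU.range_fromSpec]
      exact IsOpen.dense U.2 ⟨_, hxU⟩
    haveI := IsSchemeTheoreticallyDominant.of_isDominant hU.fromSpec
    exact (Scheme.ΓSpecIso _).commRingCatIsoToRingEquiv.injective.comp (hU.fromSpec.app_injective ⊤)
  let pA : A →+* Γ(Y.left, ⊤) := ((Scheme.ΓSpecIso (CommRingCat.of A)).inv ≫ p.left.appTop).hom
  have hrp : ∀ x : A, r (pA x) = algebraMap A Γ(Y.left, U) x := fun x => by
    show ev (hU.fromSpec ≫ p.left) ((Scheme.ΓSpecIso (CommRingCat.of A)).inv x) = φ x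
    rw [← hφ, ← Category.comp_id (Spec.map φ), ev_specMap]
    exact congrArg φ (ev_id (B := CommRingCat.of A) x)
  let N : Submodule A Γ(Y.left, U) :=
    { carrier := {y | ∃ s, a.act.left.appTop s = (snd G Y).left.appTop s ∧ r s = y}
      add_mem' := by
        rintro _ _ ⟨s, hs, rfl⟩ ⟨t, ht, rfl⟩
        exact ⟨s + t, by rw [map_add, map_add, hs, ht], map_add r s t⟩
      zero_mem' := ⟨0, by rw [map_zero, map_zero], map_zero r⟩
      smul_mem' := by
        rintro c _ ⟨s, hs, rfl⟩
        refine ⟨pA c * s, ?_, by rw [map_mul, hrp, Algebra.smul_def]⟩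
        have hc : a.act.left.appTop (pA c) = (snd G Y).left.appTop (pA c) := by
          have h := congrArg (fun z => z.left.appTop ((Scheme.ΓSpecIso (CommRingCat.of A)).inv c)) hp.1
          exact h
        rw [map_mul, map_mul, hs, hc] }
  haveI : IsNoetherianRing Γ(Y.left, U) := Algebra.FiniteType.isNoetherianRing A _
  haveI := NagataLib.finite_integralClosure_domain (NagataLib.isNagata_of_finiteType k A) Γ(Y.left, U)
  have hle : N ≤ (integralClosure A Γ(Y.left, U)).toSubmodule := by
    rintro _ ⟨s, hs, rfl⟩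
    exact isIntegral_ev hp hU.fromSpec hφ.symm s hs
  have hfg : N.FG := Submodule.FG.of_le (Module.Finite.iff_fg.mp inferInstance) hle
  obtain ⟨T, hT⟩ := hfg
  have hT' : ∀ y : T, ∃ s, a.act.left.appTop s = (snd G Y).left.appTop s ∧ r s = y.1 :=
    fun y => (show y.1 ∈ N from hT ▸ Submodule.subset_span y.2)
  choose w hw1 hw2 using hT'
  refine ⟨T.attach.image w, ?_, fun s hs => ?_⟩
  · simp only [Finset.mem_image]
    rintro _ ⟨y, -, rfl⟩
    exact hw1 y
  · have hmem : r s ∈ Submodule.span A (r '' (↑(T.attach.image w) : Set Γ(Y.left, ⊤))) := by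
      have : r s ∈ Submodule.span A (T : Set Γ(Y.left, U)) := by
        rw [hT]
        exact ⟨s, hs, rfl⟩
      refine Submodule.span_mono ?_ this
      intro y hy
      exact ⟨w ⟨y, hy⟩, by simp, hw2 ⟨y, hy⟩⟩
    rw [Submodule.mem_span_image_finset_iff_exists_fun'] at hmem
    obtain ⟨c, hc⟩ := hmem
    refine ⟨c, hrinj ?_⟩
    rw [map_sum, ← hc]
    refine Finset.sum_congr rfl fun x _ => ?_
    rw [map_mul, Algebra.smul_def, ← hrp]

end Groth.Agent.AlgGrpQ.GUnivFinite
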