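import Groth.Prelude.Def_W4c2lssmoduliGProp
import Groth.Agent.MorLib.DenseValuative2
import Groth.Agent.AlgSpVal.DvrThrough
import Groth.Agent.H23.RedSub
import Mathlib.AlgebraicGeometry.Morphisms.Proper
import Mathlib.AlgebraicGeometry.Morphisms.Separated

/-!
# Images under invariant morphisms with universally closed composite

If the composite with a separated morphism is universally closed up to translation, the image is closed,
and with its reduced structure proper.
-/

set_option linter.style.haveILetI false

universe u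

open CategoryTheory CategoryTheory.Limits CartesianMonoidalCategory MonoidalCategory AlgebraicGeometry
open IsLocalRing TopologicalSpace

namespace Groth.Agent.AlgGrpQ.GUnivImage

variable {k : Type u} [Field k] {G R S T : Over (Spec (CommRingCat.of k))} [GrpObj G]
  {a : AlgGrp.Action G R} {f : R ⟶ S} {q : S ⟶ T} [IsSeparated q.left]

omit [IsSeparated q.left] in
theorem isDominant_generic (A : Type u) [CommRing A] [IsDomain A] (K : Type u) [Field K] [Algebra A K]
    [IsFractionRing A K] : IsDominant (Spec.map (CommRingCat.ofHom (algebraMap A K))) := by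
  refine ⟨?_⟩
  show DenseRange (PrimeSpectrum.comap (algebraMap A K))
  rw [PrimeSpectrum.denseRange_comap_iff_ker_le_nilRadical,
    (RingHom.injective_iff_ker_eq_bot _).mp (IsFractionRing.injective A K)]
  exact bot_le

/-- A point of `S` over a valuation ring which generically comes from `R` lifts to `R`. -/
theorem exists_lift (hf : W4c2lssmoduli.IsInvariantMor a f) (hp : W4c2lssmoduli.IsGUnivClosed a (f ≫ q))
    (A : Type u) [CommRing A] [IsDomain A] [IsDiscreteValuationRing A] (K : Type u) [Field K]
    [Algebra A K] [IsFractionRing A K] (y : Spec (CommRingCat.of A) ⟶ T.left)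
    (g : Spec (CommRingCat.of K) ⟶ R.left)
    (e : g ≫ f.left ≫ q.left = Spec.map (CommRingCat.ofHom (algebraMap A K)) ≫ y) :
    ∃ l : Spec (CommRingCat.of A) ⟶ R.left, l ≫ f.left ≫ q.left = y ∧
      Spec.map (CommRingCat.ofHom (algebraMap A K)) ≫ l ≫ f.left = g ≫ f.left := by
  let j := Spec.map (CommRingCat.ofHom (algebraMap A K))
  let gO : Over.mk (j ≫ y ≫ T.hom) ⟶ R := Over.homMk g (by
    show g ≫ R.hom = j ≫ y ≫ T.hom
    rw [← reassoc_of% e, Over.w q, Over.w f])
  let hO : Over.mk (y ≫ T.hom) ⟶ T := Over.homMk y rfl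
  obtain ⟨i, γ, hi, hj⟩ := hp.2 A K (y ≫ T.hom) gO hO (Over.OverMorphism.ext e)
  refine ⟨i.left, congrArg Over.Hom.left hi, ?_⟩
  have h := congrArg (fun z => (z ≫ f).left) hj
  rw [show (lift γ gO ≫ a.act) ≫ f = gO ≫ f from by
    rw [Category.assoc, hf, lift_snd_assoc]] at h
  exact (Category.assoc _ _ _).symm.trans h

/-- The image is closed. -/
theorem isClosed_range [LocallyOfFiniteType R.hom] [CompactSpace R.left] [LocallyOfFiniteType S.hom]
    (hf : W4c2lssmoduli.IsInvariantMor a f) (hp : W4c2lssmoduli.IsGUnivClosed a (f ≫ q)) :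
    IsClosed (Set.range f.left.base) := by
  haveI : IsLocallyNoetherian S.left := LocallyOfFiniteType.isLocallyNoetherian S.hom
  haveI : LocallyOfFiniteType (f.left ≫ S.hom) := by rw [Over.w f]; infer_instance
  haveI : LocallyOfFiniteType f.left := locallyOfFiniteType_of_comp f.left S.hom
  haveI : QuasiCompact f.left := inferInstance
  refine isClosed_of_closure_subset fun s hs => ?_
  obtain ⟨r, hr⟩ := Groth.Agent.FDescent.exists_specializes_of_mem_closure_range (f := f.left) hs
  obtain ⟨A, _, _, _, i, g, hi, -, hgi⟩ := Groth.Agent.AlgSpVal.exists_dvr_path_field f.left r s hr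
  obtain ⟨l, hl, hlK⟩ := exists_lift hf hp A (FractionRing A) (i ≫ q.left) g
    (by rw [← Category.assoc, hgi, Category.assoc])
  have hli : l ≫ f.left = i := by
    haveI := isDominant_generic A (FractionRing A)
    exact ext_of_isDominant_of_isSeparated q.left (by rw [Category.assoc, hl])
      (Spec.map (CommRingCat.ofHom (algebraMap A (FractionRing A)))) (hlK.trans hgi)
  exact ⟨l.base (closedPoint A), by rw [← hi, ← hli]; rfl⟩

/-- The reduced image is proper. -/
theorem isProper_image [LocallyOfFiniteType R.hom] [CompactSpace R.left] [LocallyOfFiniteType S.hom]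
    [CompactSpace S.left] [LocallyOfFiniteType T.hom] [CompactSpace T.left]
    (hf : W4c2lssmoduli.IsInvariantMor a f) (hp : W4c2lssmoduli.IsGUnivClosed a (f ≫ q)) :
    IsProper ((Scheme.IdealSheafData.vanishingIdeal
      (⟨closure (Set.range f.left.base), isClosed_closure⟩ : Closeds ↥S.left)).subschemeι ≫ q.left) := by
  haveI : IsLocallyNoetherian T.left := LocallyOfFiniteType.isLocallyNoetherian T.hom
  haveI : IsLocallyNoetherian S.left := LocallyOfFiniteType.isLocallyNoetherian S.hom
  haveI : IsLocallyNoetherian R.left := LocallyOfFiniteType.isLocallyNoetherian R.hom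
  haveI : LocallyOfFiniteType (q.left ≫ T.hom) := by rw [Over.w q]; infer_instance
  haveI : LocallyOfFiniteType q.left := locallyOfFiniteType_of_comp q.left T.hom
  haveI : LocallyOfFiniteType (f.left ≫ S.hom) := by rw [Over.w f]; infer_instance
  haveI : LocallyOfFiniteType f.left := locallyOfFiniteType_of_comp f.left S.hom
  let C : Closeds ↥S.left := ⟨closure (Set.range f.left.base), isClosed_closure⟩
  let ι := (Scheme.IdealSheafData.vanishingIdeal C).subschemeι
  have hrange : Set.range ι = Set.range f.left.base :=
    (H23.RedSub.range_vanishingIdeal C).trans (isClosed_range hf hp).closure_eq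
  haveI := H23.RedSub.isReduced_nilradical R.left
  let red := R.left.nilradical.subschemeι
  obtain ⟨h, hh⟩ := H23.RedSub.exists_lift_closed (red ≫ f.left) ι (by
    rw [hrange]
    rintro _ ⟨x, rfl⟩
    exact ⟨red x, rfl⟩)
  have hsurj : Function.Surjective h := fun z => by
    obtain ⟨r, hr⟩ : ι z ∈ Set.range f.left.base := hrange ▸ ⟨z, rfl⟩
    obtain ⟨x, rfl⟩ : r ∈ Set.range red := by
      rw [Scheme.IdealSheafData.range_subschemeι, Scheme.support_nilradical]
      exact Set.mem_univ _
    refine ⟨x, ι.isClosedEmbedding.injective ?_⟩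
    rw [← hr, ← Scheme.Hom.comp_apply, hh]
    rfl
  haveI : LocallyOfFiniteType (h ≫ ι) := by rw [hh]; infer_instance
  haveI : LocallyOfFiniteType h := locallyOfFiniteType_of_comp h ι
  haveI : QuasiCompact (h ≫ ι) := by rw [hh]; infer_instance
  haveI : QuasiCompact h := QuasiCompact.of_comp h ι
  haveI : IsSeparated (ι ≫ q.left) := inferInstance
  haveI : QuasiCompact (ι ≫ q.left) := inferInstance
  have hU : MorLib.DenseValuative.UniqueLifts (ι ≫ q.left) h := fun u V l₁ l₂ h0 h1 h2 => by
    haveI : IsDominant (Spec.map (CommRingCat.ofHom V.subtype)) :=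
      isDominant_generic V _
    exact ext_of_isDominant_of_isSeparated (ι ≫ q.left) h0
      (Spec.map (CommRingCat.ofHom V.subtype)) (h1.trans h2.symm)
  have hE : MorLib.DenseValuative.HasLifts (ι ≫ q.left) h :=
    MorLib.DenseValuative.hasLifts_of_dvr _ h fun u V y _ hy => by
      obtain ⟨l, hl, hlK⟩ := exists_lift hf hp V
        (R.left.nilradical.subscheme.residueField u) y
        (R.left.nilradical.subscheme.fromSpecResidueField u ≫ red)
        (by rw [Category.assoc, ← reassoc_of% hh]; exact hy.symm)
      obtain ⟨lz, hlz⟩ := H23.RedSub.exists_lift_closed (l ≫ f.left) ι (by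
        rw [hrange]
        rintro _ ⟨x, rfl⟩
        exact ⟨l x, rfl⟩)
      refine ⟨lz, by rw [reassoc_of% hlz, hl], ?_⟩
      rw [← cancel_mono ι]
      simp only [Category.assoc, hlz, hh]
      exact hlK.trans (Category.assoc _ _ _)
  haveI : UniversallyClosed (ι ≫ q.left) := UniversallyClosed.of_valuativeCriterion _
    (MorLib.DenseValuative.existence_of_dense _ h hsurj.denseRange hE hU)
  exact {}

end Groth.Agent.AlgGrpQ.GUnivImage
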