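import Groth.Agent.AlgGrpQ.GaPoly
import Mathlib.RingTheory.HopfAlgebra.Basic
import Mathlib.RingTheory.Bialgebra.Equiv
import Mathlib.LinearAlgebra.DirectSum.Finsupp
import Mathlib.RingTheory.TensorProduct.Free
import Mathlib.Algebra.Polynomial.Basis
import Mathlib.RingTheory.Flat.Basic
import Mathlib.RingTheory.Bialgebra.SymmetricAlgebra
import Mathlib.RingTheory.Bialgebra.TensorProduct
import Mathlib.RingTheory.HopfAlgebra.TensorProduct

/-!
# Quotients of the additive group
-/

universe u v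

open TensorProduct Polynomial

namespace Groth.Agent.AlgGrpQ

variable {k : Type u} [Field k]

/-- A subalgebra of polynomials stable under Hasse derivatives is generated by one additive polynomial. -/
theorem exists_generator_of_hasseDeriv (D : Subalgebra k k[X]) (hD : ∀ g ∈ D, ∀ j, hasseDeriv j g ∈ D)
    (hne : ∃ g ∈ D, g.natDegree ≠ 0) :
    ∃ f ∈ D, f.natDegree ≠ 0 ∧ f.coeff 0 = 0 ∧ (∀ j, 1 ≤ j → hasseDeriv j f = C (f.coeff j)) ∧
      ∀ g ∈ D, ∃ p : k[X], aeval f p = g := by
  classical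
  obtain ⟨q, hq⟩ := ExpChar.exists k
  haveI := hq
  have hex : ∃ n, ∃ g ∈ D, g.natDegree = n ∧ n ≠ 0 := by
    obtain ⟨g, hg, h⟩ := hne
    exact ⟨_, g, hg, rfl, h⟩
  obtain ⟨f₀, hf₀, hdeg, hn0⟩ := Nat.find_spec hex
  set n := Nat.find hex with hn
  have hsmall : ∀ g ∈ D, g.natDegree < n → g.natDegree = 0 := fun g hg hlt => by
    by_contra h
    exact Nat.find_min hex hlt ⟨g, hg, rfl, h⟩
  let f := f₀ - C (f₀.coeff 0)
  have hfD : f ∈ D := Subalgebra.sub_mem _ hf₀ (D.algebraMap_mem _)
  have hfn : f.natDegree = n := by rw [natDegree_sub_C, hdeg]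
  have hf0 : f.coeff 0 = 0 := by simp [f]
  have hprim : ∀ j, 1 ≤ j → hasseDeriv j f = C (f.coeff j) := fun j hj => by
    have hle := natDegree_hasseDeriv_le f j
    obtain ⟨c, hc⟩ := natDegree_eq_zero.mp (hsmall _ (hD f hfD j) (by omega))
    have h := congrArg (fun p : k[X] => p.coeff 0) hc
    simp [hasseDeriv_coeff] at h
    rw [← hc, h]
  refine ⟨f, hfD, by rw [hfn]; exact hn0, hf0, hprim, ?_⟩
  have hlf : f.leadingCoeff ≠ 0 := leadingCoeff_ne_zero.mpr fun h => hn0 (by rw [← hfn, h, natDegree_zero])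
  obtain ⟨a, ha⟩ := exists_eq_pow_of_choose (k := k) q hn0 fun i hi hin => by
    have h := congrArg (fun p : k[X] => p.coeff (n - i)) (hprim i hi)
    simp only [hasseDeriv_coeff, coeff_C, show n - i ≠ 0 by omega, if_false, show n - i + i = n by omega] at h
    rw [← hfn] at h
    exact (mul_eq_zero.mp h).resolve_right (by rw [coeff_natDegree]; exact hlf) |> fun e => hfn ▸ e
  suffices main : ∀ m, ∀ g ∈ D, g.natDegree = m → ∃ p : k[X], aeval f p = g from fun g hg => main _ g hg rfl
  intro m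
  induction m using Nat.strong_induction_on with
  | _ m ih => ?_
  intro g hg hgm
  by_cases hm : m = 0
  · obtain ⟨c, hc⟩ := natDegree_eq_zero.mp (hgm.trans hm)
    exact ⟨C c, by rw [aeval_C, ← hc]; rfl⟩
  have hmul : ∀ g ∈ D, g.natDegree < m → n ∣ g.natDegree := fun g hg hlt => by
    obtain ⟨p, rfl⟩ := ih _ hlt g hg rfl
    rw [← comp_eq_aeval, natDegree_comp, hfn]
    exact dvd_mul_left _ _
  have hlg : g.leadingCoeff ≠ 0 := leadingCoeff_ne_zero.mpr fun h => hm (by rw [← hgm, h, natDegree_zero])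
  have hdvd : n ∣ m := by
    by_cases hall : ∀ i, 0 < i → i < m → (m.choose i : k) = 0
    · obtain ⟨b, hb⟩ := exists_eq_pow_of_choose (k := k) q hm hall
      have hle : n ≤ m := by
        by_contra hlt
        exact hm (hgm ▸ hsmall g hg (by omega))
      rcases le_or_gt a b with hab | hab
      · rw [ha, hb]; exact pow_dvd_pow q hab
      · have := Nat.pow_le_pow_right (expChar_pos k q) hab.le
        rw [show n = m by omega]
    push Not at hall
    obtain ⟨i, hi0, him, hci⟩ := hall
    have hdi : ∀ i, 0 < i → i < m → (m.choose i : k) ≠ 0 → n ∣ m - i := fun i hi0 him hci => by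
      have hcoeff : (hasseDeriv i g).coeff (m - i) ≠ 0 := by
        rw [hasseDeriv_coeff, show m - i + i = m by omega]
        exact mul_ne_zero hci (by rw [← hgm, coeff_natDegree]; exact hlg)
      have hd : (hasseDeriv i g).natDegree = m - i :=
        le_antisymm ((natDegree_hasseDeriv_le g i).trans (by omega)) (le_natDegree_of_ne_zero hcoeff)
      have := hmul _ (hD g hg i) (by omega)
      rwa [hd] at this
    have h1 := hdi i hi0 him hci
    have h2 := hdi (m - i) (by omega) (by omega) (by rwa [Nat.choose_symm him.le])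
    rw [show m - (m - i) = i by omega] at h2
    have := dvd_add h1 h2
    rwa [show m - i + i = m by omega] at this
  obtain ⟨r, hr⟩ := hdvd
  let g' := g - C (g.leadingCoeff / f.leadingCoeff ^ r) * f ^ r
  have hg' : g' ∈ D := Subalgebra.sub_mem _ hg (Subalgebra.mul_mem _ (D.algebraMap_mem _) (Subalgebra.pow_mem _ hfD r))
  have hlt : g'.natDegree < m := by
    have hpd : (f ^ r).natDegree = m := by rw [natDegree_pow, hfn, hr, mul_comm]
    have hle : g'.natDegree ≤ m := (natDegree_sub_le _ _).trans (max_le hgm.le ((natDegree_C_mul_le _ _).trans hpd.le))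
    refine lt_of_le_of_ne hle fun he => ?_
    have h0 : g'.coeff m = 0 := by
      rw [coeff_sub, coeff_C_mul, ← hgm, coeff_natDegree, hgm, ← hpd, coeff_natDegree, leadingCoeff_pow,
        div_mul_cancel₀ _ (pow_ne_zero _ hlf), sub_self]
    rw [← he, coeff_natDegree, leadingCoeff_eq_zero] at h0
    rw [h0, natDegree_zero] at he
    exact hm he.symm
  obtain ⟨p, hp⟩ := ih _ hlt g' hg' rfl
  refine ⟨p + C (g.leadingCoeff / f.leadingCoeff ^ r) * X ^ r, ?_⟩
  rw [map_add, map_mul, hp, aeval_C, map_pow, aeval_X]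
  exact sub_add_cancel _ _

variable {B C₀ : Type v} [CommRing B] [HopfAlgebra k B] [CommRing C₀] [HopfAlgebra k C₀]

/-- A nonconstant Hopf subalgebra of the additive group is again the additive group. -/
theorem nonempty_bialgEquiv_of_injective_to_Ga (ψ : k[X] ≃ₐ[k] C₀)
    (hψ : Coalgebra.comul (R := k) (ψ X) = ψ X ⊗ₜ[k] (1 : C₀) + (1 : C₀) ⊗ₜ[k] ψ X)
    (φ : B →ₐc[k] C₀) (hφ : Function.Injective φ) (hne : ∃ b, φ b ∉ Submodule.span k {(1 : C₀)}) :
    Nonempty (C₀ ≃ₐc[k] B) := by
  classical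
  let lam : ℕ → C₀ →ₗ[k] k := fun j => (lcoeff k j) ∘ₗ ψ.symm.toLinearMap
  have hslice : ∀ (g : k[X]) (j : ℕ), TensorProduct.rid k C₀ ((lam j).lTensor C₀ (Coalgebra.comul (R := k) (ψ g))) =
      ψ (hasseDeriv j g) := by
    intro g j
    induction g using Polynomial.induction_on' with
    | add p q hp hq => simp only [map_add, hp, hq]
    | monomial n c =>
      have hX : (ψ X ⊗ₜ[k] (1 : C₀) + (1 : C₀) ⊗ₜ[k] ψ X) ^ n =
          ∑ i ∈ Finset.range (n + 1), (n.choose i : k) • ((ψ X ^ i) ⊗ₜ[k] (ψ X ^ (n - i))) := by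
        rw [add_pow]
        refine Finset.sum_congr rfl fun i _ => ?_
        rw [Algebra.TensorProduct.tmul_pow, Algebra.TensorProduct.tmul_pow, one_pow, one_pow, Algebra.TensorProduct.tmul_mul_tmul,
          mul_one, one_mul, Algebra.smul_def, mul_comm, map_natCast]
      rw [← C_mul_X_pow_eq_monomial, ← smul_eq_C_mul, map_smul, map_smul, map_smul, map_pow, Bialgebra.comul_pow, hψ, hX,
        map_smul, map_smul, map_sum, map_sum]
      congr 1
      rw [← monomial_one_right_eq_X_pow, hasseDeriv_monomial, mul_one]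
      simp only [map_smul, LinearMap.lTensor_tmul, TensorProduct.rid_tmul]
      have hl : ∀ r, lam j (ψ X ^ r) = if j = r then 1 else 0 := fun r => by
        simp only [lam, LinearMap.comp_apply, AlgEquiv.toLinearMap_apply, ← map_pow, AlgEquiv.symm_apply_apply, lcoeff_apply, coeff_X_pow]
      simp only [hl, ite_smul, one_smul, zero_smul, smul_ite, smul_zero]
      rcases le_or_gt j n with hjn | hjn
      · rw [Finset.sum_eq_single (n - j)]
        · rw [if_pos (by omega), Nat.choose_symm hjn, ← C_mul_X_pow_eq_monomial, ← smul_eq_C_mul, map_smul, map_pow]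
        · intro i hi hne
          rw [Finset.mem_range] at hi
          exact if_neg (by omega)
        · intro h; exact absurd (Finset.mem_range.mpr (by omega)) h
      · rw [Nat.choose_eq_zero_of_lt hjn, Nat.cast_zero, map_zero, map_zero]
        congr 1
        refine Finset.sum_eq_zero fun i hi => if_neg ?_
        have := Finset.mem_range.mp hi
        omega
  let φ' : B →ₐ[k] k[X] := ψ.symm.toAlgHom.comp (φ : B →ₐ[k] C₀)
  have hD : ∀ g ∈ φ'.range, ∀ j, hasseDeriv j g ∈ φ'.range := by
    rintro _ ⟨b, rfl⟩ j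
    refine ⟨TensorProduct.rid k B ((lam j ∘ₗ (φ : B →ₐ[k] C₀).toLinearMap).lTensor B (Coalgebra.comul (R := k) b)), ?_⟩
    apply ψ.injective
    rw [← hslice]
    show ψ (ψ.symm (φ _)) = TensorProduct.rid k C₀ ((lam j).lTensor C₀ (Coalgebra.comul (R := k) (ψ (ψ.symm (φ b)))))
    rw [AlgEquiv.apply_symm_apply, AlgEquiv.apply_symm_apply, ← CoalgHomClass.map_comp_comul_apply φ b]
    generalize Coalgebra.comul (R := k) b = z
    induction z using TensorProduct.induction_on with
    | zero => simp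
    | tmul p q => simp
    | add p q hp hq => simp only [map_add, hp, hq]
  obtain ⟨f, ⟨b, hb⟩, hfd, hf0, hprim, hgen⟩ := exists_generator_of_hasseDeriv φ'.range hD (by
    obtain ⟨b, hb⟩ := hne
    refine ⟨φ' b, ⟨b, rfl⟩, fun h0 => hb ?_⟩
    obtain ⟨c, hc⟩ := natDegree_eq_zero.mp h0
    refine Submodule.mem_span_singleton.mpr ⟨c, ?_⟩
    rw [← Algebra.algebraMap_eq_smul_one, ← ψ.commutes, ← Polynomial.C_eq_algebraMap, hc]
    exact ψ.apply_symm_apply _)
  replace hb : φ b = ψ f := by
    rw [← hb]; exact (ψ.apply_symm_apply _).symm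
  have hcf : Coalgebra.comul (R := k) (ψ f) = ψ f ⊗ₜ[k] (1 : C₀) + (1 : C₀) ⊗ₜ[k] ψ f := by
    let bas := (Polynomial.basisMonomials k).map ψ.toLinearEquiv
    let e := TensorProduct.equivFinsuppOfBasisRight (M := C₀) bas
    apply e.injective
    ext j
    have hev : ∀ z : C₀ ⊗[k] C₀, e z j = TensorProduct.rid k C₀ ((lam j).lTensor C₀ z) := fun z => by
      induction z using TensorProduct.induction_on with
      | zero => simp
      | tmul p q =>
        simp [e, bas, lam]
        rfl
      | add p q hp hq => simp only [map_add, Finsupp.add_apply, hp, hq]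
    rw [hev, hev, hslice, map_add, map_add, LinearMap.lTensor_tmul, LinearMap.lTensor_tmul, TensorProduct.rid_tmul, TensorProduct.rid_tmul]
    have h1 : lam j (1 : C₀) = if j = 0 then 1 else 0 := by
      simp [lam, coeff_one, eq_comm]
    have h2 : lam j (ψ f) = f.coeff j := by simp [lam]
    rw [h1, h2]
    rcases Nat.eq_zero_or_pos j with rfl | hj
    · rw [hasseDeriv_zero, if_pos rfl, one_smul, hf0, zero_smul, add_zero]; rfl
    · rw [hprim j hj, if_neg hj.ne', zero_smul, zero_add, ← Algebra.algebraMap_eq_smul_one]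
      exact ψ.commutes _
  have hBprim : Coalgebra.comul (R := k) b = b ⊗ₜ[k] (1 : B) + (1 : B) ⊗ₜ[k] b := by
    apply TensorProduct.map_injective_of_flat_flat (φ : B →ₐ[k] C₀).toLinearMap (φ : B →ₐ[k] C₀).toLinearMap hφ hφ
    rw [map_add, TensorProduct.map_tmul, TensorProduct.map_tmul]
    refine (CoalgHomClass.map_comp_comul_apply φ b).trans ?_
    show Coalgebra.comul (R := k) (φ b) = φ b ⊗ₜ[k] φ 1 + φ 1 ⊗ₜ[k] φ b
    rw [hb, map_one, hcf]
  have hεB : Coalgebra.counit (R := k) b = 0 := by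
    have h := congrArg (TensorProduct.lid k B) (Coalgebra.rTensor_counit_comul (R := k) b)
    rw [hBprim, map_add, LinearMap.rTensor_tmul, LinearMap.rTensor_tmul, Bialgebra.counit_one, map_add] at h
    simp only [TensorProduct.lid_tmul, one_smul] at h
    have h' : Coalgebra.counit (R := k) b • (1 : B) = 0 := by simpa using h
    have h1 : (1 : B) ≠ 0 := fun h1 => one_ne_zero (α := k) (by rw [← Bialgebra.counit_one (R := k) (A := B), h1, map_zero])
    exact (smul_eq_zero.mp h').resolve_right h1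
  have hεC : Coalgebra.counit (R := k) (ψ X) = 0 := by
    have h := congrArg (TensorProduct.lid k C₀) (Coalgebra.rTensor_counit_comul (R := k) (ψ X))
    rw [hψ, map_add, LinearMap.rTensor_tmul, LinearMap.rTensor_tmul, Bialgebra.counit_one, map_add] at h
    simp only [TensorProduct.lid_tmul, one_smul] at h
    have h' : Coalgebra.counit (R := k) (ψ X) • (1 : C₀) = 0 := by simpa using h
    have h1 : (1 : C₀) ≠ 0 := fun h1 => one_ne_zero (α := k) (by rw [← Bialgebra.counit_one (R := k) (A := C₀), h1, map_zero])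
    exact (smul_eq_zero.mp h').resolve_right h1
  let θ₀ : C₀ →ₐ[k] B := (Polynomial.aeval b).comp ψ.symm.toAlgHom
  have hθX : θ₀ (ψ X) = b := by simp [θ₀]
  have hext : ∀ {T : Type v} [CommRing T] [Algebra k T] (u w : C₀ →ₐ[k] T), u (ψ X) = w (ψ X) → u = w := fun u w h => by
    refine AlgHom.ext fun z => ?_
    obtain ⟨p, rfl⟩ := ψ.surjective z
    exact AlgHom.congr_fun (Polynomial.algHom_ext (f := u.comp ψ.toAlgHom) (g := w.comp ψ.toAlgHom) h) p
  let θ : C₀ →ₐc[k] B := BialgHom.ofAlgHom θ₀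
    (AlgHom.ext fun z => by
      obtain ⟨p, rfl⟩ := ψ.surjective z
      exact AlgHom.congr_fun (Polynomial.algHom_ext (f := ((Bialgebra.counitAlgHom k B).comp θ₀).comp ψ.toAlgHom)
        (g := (Bialgebra.counitAlgHom k C₀).comp ψ.toAlgHom) (by simp [hθX, hεB, hεC])) p)
    (hext _ _ (by simp [hθX, hψ, hBprim]))
  have hθ : ∀ p, θ (ψ p) = Polynomial.aeval b p := fun p => by show θ₀ (ψ p) = _; simp [θ₀]
  have hcomp : ∀ p : k[X], φ (Polynomial.aeval b p) = ψ (Polynomial.aeval f p) := fun p => by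
    have h := AlgHom.congr_fun (Polynomial.algHom_ext (f := (φ : B →ₐ[k] C₀).comp (Polynomial.aeval b))
      (g := ψ.toAlgHom.comp (Polynomial.aeval f)) (by simpa using hb)) p
    exact h
  refine ⟨BialgEquiv.ofBijective θ ⟨(injective_iff_map_eq_zero θ).mpr fun z hz => ?_, fun y => ?_⟩⟩
  · obtain ⟨p, rfl⟩ := ψ.surjective z
    rw [hθ] at hz
    have h := hcomp p
    rw [hz, map_zero, eq_comm, map_eq_zero_iff _ ψ.injective] at h
    rw [← comp_eq_aeval, comp_eq_zero_iff] at h
    rcases h with h0 | ⟨-, h0⟩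
    · rw [h0, map_zero]
    · exact absurd (by rw [h0, natDegree_C]) hfd
  · obtain ⟨p, hp⟩ := hgen (φ' y) ⟨y, rfl⟩
    refine ⟨ψ p, hφ ?_⟩
    rw [hθ, hcomp, hp]
    exact ψ.apply_symm_apply _


/-- The symmetric algebra on one letter is the polynomial algebra on a primitive variable. -/
theorem exists_polyEquiv (k : Type v) [Field k] :
    ∃ ψ : k[X] ≃ₐ[k] SymmetricAlgebra k k, Coalgebra.comul (R := k) (ψ X) =
      ψ X ⊗ₜ[k] (1 : SymmetricAlgebra k k) + (1 : SymmetricAlgebra k k) ⊗ₜ[k] ψ X := by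
  refine ⟨AlgEquiv.ofAlgHom (Polynomial.aeval (SymmetricAlgebra.ι k k 1))
    (SymmetricAlgebra.lift (LinearMap.toSpanSingleton k k[X] Polynomial.X))
    (SymmetricAlgebra.algHom_ext (LinearMap.ext_ring (by simp)))
    (Polynomial.algHom_ext (by simp)), ?_⟩
  simp

/-- Base change of the symmetric algebra on one letter. -/
theorem nonempty_bialgEquiv_baseChange (R k : Type v) [CommRing R] [Field k] [Algebra R k] :
    Nonempty (SymmetricAlgebra k k ≃ₐc[k] k ⊗[R] SymmetricAlgebra R R) := by
  let a : SymmetricAlgebra k k →ₐ[k] k ⊗[R] SymmetricAlgebra R R :=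
    SymmetricAlgebra.lift (LinearMap.toSpanSingleton k _ ((1 : k) ⊗ₜ[R] SymmetricAlgebra.ι R R 1))
  let b : k ⊗[R] SymmetricAlgebra R R →ₐ[k] SymmetricAlgebra k k :=
    Algebra.TensorProduct.lift (Algebra.ofId k _)
      (SymmetricAlgebra.lift (LinearMap.toSpanSingleton R _ (SymmetricAlgebra.ι k k 1))) (fun _ _ => Commute.all _ _)
  let e : SymmetricAlgebra k k ≃ₐ[k] k ⊗[R] SymmetricAlgebra R R := AlgEquiv.ofAlgHom a b
    (Algebra.TensorProduct.ext (Subsingleton.elim _ _) (SymmetricAlgebra.algHom_ext (LinearMap.ext_ring (by simp [a, b]))))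
    (SymmetricAlgebra.algHom_ext (LinearMap.ext_ring (by simp [a, b])))
  refine ⟨BialgEquiv.ofAlgEquiv e ?_ ?_⟩
  · exact SymmetricAlgebra.algHom_ext (LinearMap.ext_ring (by simp [e, a, SymmetricAlgebra.algebraMapInv_ι, SymmetricAlgebra.counit_ι, TensorProduct.counit_tmul]))
  · refine AlgHom.ext fun z => ?_
    induction z using SymmetricAlgebra.induction with
    | algebraMap r => simp
    | ι x =>
      rw [show x = x • (1 : k) by simp, map_smul, map_smul, map_smul]
      congr 1
      simp [e, a, Algebra.TensorProduct.one_def, TensorProduct.comul_tmul, TensorProduct.tmul_add]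
    | mul p q hp hq => rw [map_mul, map_mul, hp, hq]
    | add p q hp hq => rw [map_add, map_add, hp, hq]

end Groth.Agent.AlgGrpQ
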