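import Groth.Agent.AlgGrpQ.DiagLine
import Groth.Agent.AlgGrpQ.GeomConn
import Groth.Agent.AlgGrpQ.GaQuot
import Groth.Agent.AGFRoot.SolvSplit
import Groth.Agent.MultTypeLib.Point
import Groth.Agent.AlgGrpQ.GaLine
import Groth.Agent.MultTypeLib.TorusFibre
import Groth.Agent.GrpSchLib.AffineHopf
import Groth.Agent.VarDim.Basic
import Groth.Agent.ComodLib.Rosenlicht
import Mathlib.Algebra.Polynomial.Laurent
import Mathlib.RingTheory.KrullDimension.PID

/-!
# A group isogenous to the multiplicative group is the multiplicative group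
-/

set_option autoImplicit false
set_option maxSynthPendingDepth 5
set_option linter.style.haveILetI false

universe u

noncomputable section

open TensorProduct WithConv

namespace Groth.Agent.AlgGrpQ.GmIsogeny

local notation "Z1" => Multiplicative ℤ

theorem ringKrullDim_groupAlgebra_int (K : Type u) [Field K] : ringKrullDim (MonoidAlgebra K Z1) = 1 := by
  rw [← ringKrullDim_eq_of_ringEquiv (AddMonoidAlgebra.toMultiplicativeAlgEquiv (R := K) (A := K) ℤ).toRingEquiv]
  haveI : IsPrincipalIdealRing (LaurentPolynomial K) := ⟨fun I => ⟨by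
    obtain ⟨a, ha⟩ := (IsPrincipalIdealRing.principal (I.comap (algebraMap (Polynomial K) (LaurentPolynomial K)))).principal
    refine ⟨algebraMap (Polynomial K) (LaurentPolynomial K) a, ?_⟩
    rw [← IsLocalization.map_under (Submonoid.powers (Polynomial.X : Polynomial K)) (LaurentPolynomial K) I]
    rw [Ideal.under_def, ha, 
      Ideal.submodule_span_eq, Ideal.submodule_span_eq, Ideal.map_span, Set.image_singleton]⟩⟩
  refine IsPrincipalIdealRing.ringKrullDim_eq_one (LaurentPolynomial K) fun hF => ?_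
  have h0 : (LaurentPolynomial.T 1 : LaurentPolynomial K) - 1 ≠ 0 := by
    rw [sub_ne_zero, ← LaurentPolynomial.T_zero]
    intro h
    exact one_ne_zero (Finsupp.single_left_injective (one_ne_zero (α := K)) (congrArg AddMonoidAlgebra.coeff h))
  obtain ⟨w, hw⟩ := hF.mul_inv_cancel h0
  have hev := congrArg (fun f => LaurentPolynomial.eval₂ (RingHom.id K) (1 : Kˣ) f) hw
  simp at hev

variable {k : Type u} [Field k] {A : Type u} [CommRing A] [HopfAlgebra k A]

open MultTypeLib in
/-- A root of a character which exists over an extension descends when it is unique there. -/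
theorem exists_descend (P : Split k A) [IsMulTorsionFree P.M] [Nontrivial P.S] (ξ : P.M) {n : ℕ} (hn : n ≠ 0) (u : A)
    (hu : (P.char ξ) ^ n = (1 : P.S) ⊗ₜ[k] u) : ∃ a : A, (1 : P.S) ⊗ₜ[k] a = P.char ξ := by
  classical
  let T := P.S ⊗[k] P.S
  let j₁ : P.S →ₐ[k] T := Algebra.TensorProduct.includeLeft
  let j₂ : P.S →ₐ[k] T := Algebra.TensorProduct.includeRight
  let χ : P.S ⊗[k] A := P.char ξ
  have hχgl : IsGroupLikeElem P.S χ := P.isGroupLike_char ξ
  have hι : IsScalarTower.toAlgHom k P.S T = j₁ := AlgHom.ext fun x => rfl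
  let φ := (P.homOver T).extend
  have hφ1 : φ (mA A j₁ χ) = MonoidAlgebra.single ξ 1 := by
    rw [← hι]
    refine (P.extend_homOver T χ).trans ?_
    show (mapCoeff P.S T P.M).toAlgHom (P.equiv (P.equiv.symm (MonoidAlgebra.single ξ 1))) = _
    rw [AlgEquiv.apply_symm_apply, mapCoeff_single, map_one]
  have hx : IsGroupLikeElem T (φ (mA A j₂ χ)) := by
    show IsGroupLikeElem T ((P.homOver T).extend (mA A j₂ χ))
    rw [← SemiBialgHom.extendBialg_apply]
    exact (SemiBialgHom.ofBialgHom (P.homOver T).extendBialg).isGroupLike (isGroupLike_mA j₂ hχgl)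
  have hpow : (φ (mA A j₂ χ)) ^ n = MonoidAlgebra.single (ξ ^ n) 1 := by
    rw [← map_pow, ← map_pow, show χ ^ n = (1 : P.S) ⊗ₜ[k] u from hu,
      show mA A j₂ ((1 : P.S) ⊗ₜ[k] u) = mA A j₁ ((1 : P.S) ⊗ₜ[k] u) from by simp [mA],
      show ((1 : P.S) ⊗ₜ[k] u) = χ ^ n from hu.symm, map_pow, map_pow, hφ1, MonoidAlgebra.single_pow, one_pow]
  set x := φ (mA A j₂ χ) with hxdef
  have hzero : ∀ m, m ≠ ξ → x.coeff m = 0 := by
    intro m hm
    set c := x.coeff m with hc
    have hcx : c • x = MonoidAlgebra.single m c := by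
      ext l
      rw [MonoidAlgebra.coeff_smul, Finsupp.smul_apply, MonoidAlgebra.coeff_single, Finsupp.single_apply, smul_eq_mul]
      split_ifs with hl
      · subst hl; exact (groupLike_idem hx m).eq
      · exact groupLike_orth' hx hl
    have hcn : c ^ n = c := by
      obtain ⟨n', rfl⟩ := Nat.exists_eq_succ_of_ne_zero hn
      exact (groupLike_idem hx m).pow_succ_eq n'
    have h1 := congrArg (· ^ n) hcx
    simp only [smul_pow, hcn, MonoidAlgebra.single_pow, hpow] at h1
    rw [show c • MonoidAlgebra.single (ξ ^ n) (1 : T) = MonoidAlgebra.single (ξ ^ n) c by simp] at h1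
    have h2 := congrArg (fun z : MonoidAlgebra T P.M => z.coeff (m ^ n)) h1
    simp only [MonoidAlgebra.coeff_single, Finsupp.single_apply] at h2
    rw [if_neg fun h => hm (pow_left_injective hn h.symm)] at h2
    exact (h2.trans (if_pos trivial)).symm
  have hxe : x = MonoidAlgebra.single ξ (x.coeff ξ) := by
    ext l
    rw [MonoidAlgebra.coeff_single, Finsupp.single_apply]
    split_ifs with hl
    · rw [hl]
    · exact hzero l (Ne.symm hl)
  have hx1 : x = MonoidAlgebra.single ξ 1 := by
    have := hx.counit_eq_one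
    rw [hxe] at this ⊢
    simp at this
    rw [this]
  have heq : mA A j₁ χ = mA A j₂ χ := (P.extend_homOver_bijective T).1 (hφ1.trans hx1.symm)
  obtain ⟨lf, hlf⟩ := LinearMap.exists_leftInverse_of_injective (Algebra.linearMap k P.S)
    (LinearMap.ker_eq_bot.2 (algebraMap k P.S).injective)
  refine ⟨TensorProduct.lid k A (lf.rTensor A χ), ?_⟩
  -- apply `id ⊗ lf`
  let Φ : T →ₗ[k] P.S := (TensorProduct.rid k P.S).toLinearMap ∘ₗ lf.lTensor P.S
  have h1 : ∀ z : P.S ⊗[k] A, Φ.rTensor A (mA A j₁ z) = z := fun z => by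
    induction z using TensorProduct.induction_on with
    | zero => simp
    | add p q hp hq => simp only [map_add, hp, hq]
    | tmul c a =>
      have : lf 1 = 1 := by simpa using LinearMap.congr_fun hlf 1
      simp [Φ, j₁, mA]
      show (TensorProduct.rid k P.S) ((LinearMap.lTensor P.S lf) (c ⊗ₜ[k] (1 : P.S))) ⊗ₜ[k] a = _
      simp [this]
  have h2 : ∀ z : P.S ⊗[k] A, Φ.rTensor A (mA A j₂ z) = (1 : P.S) ⊗ₜ[k] TensorProduct.lid k A (lf.rTensor A z) := fun z => by
    induction z using TensorProduct.induction_on with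
    | zero => simp
    | add p q hp hq => simp only [map_add, hp, hq, TensorProduct.tmul_add]
    | tmul c a =>
      simp [Φ, j₂, mA]
      show (TensorProduct.rid k P.S) ((LinearMap.lTensor P.S lf) ((1 : P.S) ⊗ₜ[k] c)) ⊗ₜ[k] a = _
      simp [TensorProduct.smul_tmul']
  show _ = χ
  rw [← h2, ← heq, h1]

/-- A connected smooth group with a finite surjection to `Gm` is `Gm`, in coordinates. -/
theorem nonempty_bialgEquiv [Algebra.FiniteType k A] [_root_.IsReduced (AlgebraicClosure k ⊗[k] A)]
    (hconn : ∀ e : A, IsIdempotentElem e → e = 0 ∨ e = 1) (ψ : MonoidAlgebra k Z1 →ₐc[k] A)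
    (hψ : Function.Injective ψ) (hfin : (ψ : MonoidAlgebra k Z1 →ₐ[k] A).toRingHom.Finite) :
    Nonempty (MonoidAlgebra k Z1 ≃ₐc[k] A) := by
  classical
  let K := AlgebraicClosure k
  let AK := K ⊗[k] A
  have hconnK : ∀ e : AK, IsIdempotentElem e → e = 0 ∨ e = 1 := fun e he =>
    isIdempotentElem_baseChange hconn (Bialgebra.counitAlgHom k A) e he
  haveI : IsDomain AK := ComodLib.isDomain_of_connected K hconnK
  let g : MonoidAlgebra K Z1 →ₐc[K] AK :=
    (Bialgebra.TensorProduct.map (BialgHom.id K K) ψ).comp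
      (GrpSchLib.AffineHopf.scalarBialgEquiv k K Z1 : MonoidAlgebra K Z1 →ₐc[K] K ⊗[k] MonoidAlgebra k Z1)
  have hg1 : ∀ z : K ⊗[k] MonoidAlgebra k Z1, Bialgebra.TensorProduct.map (BialgHom.id K K) ψ z =
      (ψ : MonoidAlgebra k Z1 →ₐ[k] A).toLinearMap.lTensor K z := fun z => by
    induction z using TensorProduct.induction_on with
    | zero => simp
    | add p q hp hq => simp only [map_add, hp, hq]
    | tmul c m => rfl
  have hgs : ∀ m : Z1, g (MonoidAlgebra.single m 1) = (1 : K) ⊗ₜ[k] ψ (MonoidAlgebra.single m 1) := fun m => by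
    show Bialgebra.TensorProduct.map (BialgHom.id K K) ψ
      (GrpSchLib.AffineHopf.scalarBialgEquiv k K Z1 (MonoidAlgebra.single m 1)) = _
    rw [show GrpSchLib.AffineHopf.scalarBialgEquiv k K Z1 (MonoidAlgebra.single m 1) =
      (1 : K) ⊗ₜ[k] MonoidAlgebra.single m (1 : k) from by simp [GrpSchLib.AffineHopf.scalarBialgEquiv], hg1]
    rfl
  have hginj : Function.Injective g := fun x y hxy => by
    refine (GrpSchLib.AffineHopf.scalarBialgEquiv k K Z1).injective
      (Module.Flat.lTensor_preserves_injective_linearMap (M := K) (ψ : MonoidAlgebra k Z1 →ₐ[k] A).toLinearMap hψ ?_)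
    rw [← hg1, ← hg1]
    exact hxy
  have hgint : (g : MonoidAlgebra K Z1 →ₐ[K] AK).toRingHom.IsIntegral := by
    refine RingHom.Finite.to_isIntegral ?_
    letI : Algebra (MonoidAlgebra k Z1) A := (ψ : MonoidAlgebra k Z1 →ₐ[k] A).toRingHom.toAlgebra
    haveI : Module.Finite (MonoidAlgebra k Z1) A := hfin
    haveI : IsScalarTower k (MonoidAlgebra k Z1) A :=
      IsScalarTower.of_algebraMap_eq fun c => ((ψ : MonoidAlgebra k Z1 →ₐ[k] A).commutes c).symm
    obtain ⟨s, hs⟩ := Module.Finite.fg_top (R := MonoidAlgebra k Z1) (M := A)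
    letI : Algebra (MonoidAlgebra K Z1) AK := (g : MonoidAlgebra K Z1 →ₐ[K] AK).toRingHom.toAlgebra
    show Module.Finite (MonoidAlgebra K Z1) AK
    refine ⟨⟨s.image fun a => (1 : K) ⊗ₜ[k] a, eq_top_iff.2 fun z hz => ?_⟩⟩
    clear hz
    have hmul : ∀ (b : MonoidAlgebra k Z1) (c : K), ∃ w : MonoidAlgebra K Z1, g w = c ⊗ₜ[k] ψ b := fun b c =>
      ⟨(GrpSchLib.AffineHopf.scalarBialgEquiv k K Z1).symm (c ⊗ₜ[k] b), by
        show Bialgebra.TensorProduct.map (BialgHom.id K K) ψ _ = _
        erw [BialgEquiv.apply_symm_apply]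
        rw [hg1]; rfl⟩
    induction z using TensorProduct.induction_on with
    | zero => exact zero_mem _
    | add p q hp hq => exact add_mem hp hq
    | tmul c a =>
      have ha : a ∈ Submodule.span (MonoidAlgebra k Z1) (s : Set A) := hs ▸ Submodule.mem_top
      induction ha using Submodule.span_induction generalizing c with
      | mem a ha =>
        obtain ⟨w, hw⟩ := hmul 1 c
        rw [show c ⊗ₜ[k] a = w • ((1 : K) ⊗ₜ[k] a) from by
          show _ = g w * _
          rw [hw, map_one, Algebra.TensorProduct.tmul_mul_tmul, mul_one, one_mul]]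
        exact Submodule.smul_mem _ _ (Submodule.subset_span (Finset.mem_image_of_mem _ ha))
      | zero => rw [TensorProduct.tmul_zero]; exact zero_mem _
      | add a b _ _ ha hb => rw [TensorProduct.tmul_add]; exact add_mem (ha c) (hb c)
      | smul b a _ ha =>
        obtain ⟨w, hw⟩ := hmul b c
        rw [show c ⊗ₜ[k] (b • a) = w • ((1 : K) ⊗ₜ[k] a) from by
          show c ⊗ₜ[k] (ψ b * a) = g w * _
          rw [hw, Algebra.TensorProduct.tmul_mul_tmul, mul_one]]
        exact Submodule.smul_mem _ _ (ha 1)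
  have hdim : ringKrullDim AK = 1 := by
    letI : Algebra (MonoidAlgebra K Z1) AK := (g : MonoidAlgebra K Z1 →ₐ[K] AK).toRingHom.toAlgebra
    haveI : Algebra.IsIntegral (MonoidAlgebra K Z1) AK := ⟨hgint⟩
    haveI : FaithfulSMul (MonoidAlgebra K Z1) AK := (faithfulSMul_iff_algebraMap_injective _ _).2 hginj
    rw [VarDim.ringKrullDim_eq_of_isIntegral (R := MonoidAlgebra K Z1) (S := AK), ringKrullDim_groupAlgebra_int]
  -- the image of the coordinate
  let t : Z1 := Multiplicative.ofAdd 1
  let u := ψ (MonoidAlgebra.single t 1)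
  have hugl : IsGroupLikeElem k u := (⟨by simp, by simp⟩ : IsGroupLikeElem k (MonoidAlgebra.single t (1 : k))).map ψ
  have hu_ne : (1 : K) ⊗ₜ[k] u ≠ 1 := by
    intro h
    rw [← hgs, ← map_one g] at h
    have := hginj h
    rw [MonoidAlgebra.one_def, MonoidAlgebra.single_left_inj one_ne_zero] at this
    exact absurd this (by decide)
  have huKgl : IsGroupLikeElem K ((1 : K) ⊗ₜ[k] u) := by
    rw [← hgs]
    exact (⟨by simp, by simp⟩ : IsGroupLikeElem K (MonoidAlgebra.single t (1 : K))).map g
  have hD : HopfRep.IsDiagonalizable K AK := by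
    rcases isUnipotent_or_isDiagonalizable (k := K) hdim with hU | hD
    · exfalso
      exact hu_ne (AGFRoot.Solv.eq_one_of_isUnipotent hU huKgl)
    · exact hD
  obtain ⟨e0⟩ := nonempty_bialgEquiv_Gm hdim hD
  let e : AK ≃ₐc[K] MonoidAlgebra K (ULift.{u} Z1) :=
    e0.trans (MonoidAlgebra.domCongrBialgEquiv K K MulEquiv.ulift.symm)
  obtain ⟨η, hη⟩ := MultTypeLib.exists_single_of_field (huKgl.map (e : AK →ₐc[K] MonoidAlgebra K (ULift.{u} Z1)))
  have hη0 : Multiplicative.toAdd η.down ≠ 0 := by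
    intro h
    refine hu_ne (e.injective ?_)
    show e ((1 : K) ⊗ₜ[k] u) = _
    rw [map_one, show e ((1 : K) ⊗ₜ[k] u) = MonoidAlgebra.single η 1 from hη.symm, MonoidAlgebra.one_def]
    congr 1
    exact ULift.ext _ _ (Multiplicative.toAdd.injective (by simpa using h))
  set N : ℤ := Multiplicative.toAdd η.down with hN
  let ξ : ULift.{u} Z1 := ⟨Multiplicative.ofAdd (Int.sign N)⟩
  have hξ : ξ ^ N.natAbs = η := by
    refine ULift.ext _ _ (Multiplicative.toAdd.injective ?_)
    show Multiplicative.toAdd ((Multiplicative.ofAdd (Int.sign N)) ^ N.natAbs) = N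
    rw [toAdd_pow, toAdd_ofAdd, nsmul_eq_mul, mul_comm]
    exact Int.sign_mul_natAbs N
  let P : MultTypeLib.Split k A := MultTypeLib.splitOfEquiv K e
  haveI : IsMulTorsionFree P.M := ⟨fun n hn a b h => (ULift.ext _ _ (pow_left_injective hn (congrArg ULift.down h)) : (a : ULift.{u} Z1) = b)⟩
  haveI : Nontrivial P.S := inferInstanceAs (Nontrivial K)
  obtain ⟨a, ha⟩ : ∃ a : A, (1 : K) ⊗ₜ[k] a = e.symm (MonoidAlgebra.single ξ 1) := exists_descend P ξ (Int.natAbs_ne_zero.2 hη0) u (by
    show (e.symm (MonoidAlgebra.single ξ 1)) ^ N.natAbs = (1 : K) ⊗ₜ[k] u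
    rw [← map_pow, MonoidAlgebra.single_pow, one_pow, hξ]
    exact e.injective ((e.apply_symm_apply _).trans hη))
  have hinj1 : Function.Injective (fun a : A => (1 : K) ⊗ₜ[k] a) :=
    Algebra.TensorProduct.includeRight_injective (R := k) (A := K) (B := A) (algebraMap k K).injective
  have hagl : IsGroupLikeElem k a := by
    have hK : IsGroupLikeElem K ((1 : K) ⊗ₜ[k] a) := by
      rw [ha]
      exact (⟨by simp, by simp⟩ : IsGroupLikeElem K (MonoidAlgebra.single ξ (1 : K))).map
        (e.symm : MonoidAlgebra K (ULift.{u} Z1) →ₐc[K] AK)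
    refine ⟨?_, ?_⟩
    · have := hK.counit_eq_one
      rw [TensorProduct.counit_tmul, CommSemiring.counit_apply] at this
      exact (algebraMap k K).injective (by simpa [Algebra.smul_def] using this)
    · let Ψ : K ⊗[k] (A ⊗[k] A) →ₗ[K] AK ⊗[K] AK := (TensorProduct.AlgebraTensorModule.distribBaseChange k K A A).toLinearMap
      have := hK.comul_eq_tmul_self
      refine Algebra.TensorProduct.includeRight_injective (R := k) (A := K) (B := A ⊗[k] A) (algebraMap k K).injective
        ((TensorProduct.AlgebraTensorModule.distribBaseChange k K A A).injective ?_)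
      show Ψ ((1 : K) ⊗ₜ[k] Coalgebra.comul (R := k) a) = Ψ ((1 : K) ⊗ₜ[k] (a ⊗ₜ[k] a))
      have e2 : ∀ z : A ⊗[k] A, Ψ ((1 : K) ⊗ₜ[k] z) =
          MultTypeLib.sq K (MultTypeLib.SemiBialgHom.baseChange k K A).toAlgHom z := fun z => by
        induction z using TensorProduct.induction_on with
        | zero => simp
        | add p q hp hq => simp only [TensorProduct.tmul_add, map_add, hp, hq]
        | tmul p q => simp [Ψ, MultTypeLib.SemiBialgHom.baseChange]
      rw [e2, ← (MultTypeLib.SemiBialgHom.baseChange k K A).comul_comp]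
      refine this.trans ?_
      simp [Ψ]
  -- the isomorphism
  let θ : MonoidAlgebra k Z1 →ₐc[k] A := (MonoidAlgebra.liftGroupLikeBialgHom (R := k) (A := A)).comp
    (MonoidAlgebra.mapDomainBialgHom k (zpowersHom (GroupLike k A) ⟨a, hagl⟩))
  let gθ : MonoidAlgebra K Z1 →ₐc[K] AK :=
    (Bialgebra.TensorProduct.map (BialgHom.id K K) θ).comp
      (GrpSchLib.AffineHopf.scalarBialgEquiv k K Z1 : MonoidAlgebra K Z1 →ₐc[K] K ⊗[k] MonoidAlgebra k Z1)
  have hθt : θ (MonoidAlgebra.single t 1) = a := by simp [θ, t]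
  let σ : Z1 ≃* ULift.{u} Z1 := MulEquiv.ofBijective (zpowersHom (ULift.{u} Z1) ξ) (by
    have hs : Int.sign N * Int.sign N = 1 := by
      rcases lt_or_gt_of_ne hη0 with h | h
      · rw [Int.sign_eq_neg_one_of_neg h]; rfl
      · rw [Int.sign_eq_one_of_pos h]; rfl
    have hv : ∀ m : Z1, (zpowersHom (ULift.{u} Z1) ξ m).down = Multiplicative.ofAdd (Multiplicative.toAdd m * Int.sign N) :=
      fun m => Multiplicative.toAdd.injective (by
        show Multiplicative.toAdd ((ξ ^ Multiplicative.toAdd m).down) = _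
        rw [show (ξ ^ Multiplicative.toAdd m).down = (Multiplicative.ofAdd (Int.sign N)) ^ Multiplicative.toAdd m from rfl,
          toAdd_zpow, toAdd_ofAdd, toAdd_ofAdd, smul_eq_mul])
    refine ⟨fun m m' h => Multiplicative.toAdd.injective ?_, fun y =>
      ⟨Multiplicative.ofAdd (Multiplicative.toAdd y.down * Int.sign N), ULift.ext _ _ ?_⟩⟩
    · have h1 : Multiplicative.toAdd m * Int.sign N = Multiplicative.toAdd m' * Int.sign N :=
        Multiplicative.ofAdd.injective (by rw [← hv, ← hv, h])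
      have := congrArg (· * Int.sign N) h1
      simpa [mul_assoc, hs] using this
    · rw [hv, toAdd_ofAdd, mul_assoc, hs, mul_one, ofAdd_toAdd])
  have hcomp : ∀ z, e (gθ z) = MonoidAlgebra.domCongrBialgEquiv K K σ z := by
    intro z
    refine DFunLike.congr_fun (?_ : ((e : AK ≃ₐ[K] _).toAlgHom.comp (gθ : MonoidAlgebra K Z1 →ₐ[K] AK)) =
      (((MonoidAlgebra.domCongrBialgEquiv K K σ : MonoidAlgebra K Z1 →ₐc[K] MonoidAlgebra K (ULift.{u} Z1))) : MonoidAlgebra K Z1 →ₐ[K] MonoidAlgebra K (ULift.{u} Z1))) z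
    refine MonoidAlgebra.algHom_ext (fun m => ?_) (Subsingleton.elim _ _)
    exact congrFun (congrArg DFunLike.coe (MonoidHom.ext_mint
      (f := ((((e : AK ≃ₐ[K] MonoidAlgebra K (ULift.{u} Z1)).toAlgHom.comp (gθ : MonoidAlgebra K Z1 →ₐ[K] AK))) :
        MonoidAlgebra K Z1 →* MonoidAlgebra K (ULift.{u} Z1)).comp (MonoidAlgebra.of K Z1))
      (g := ((((MonoidAlgebra.domCongrBialgEquiv K K σ : MonoidAlgebra K Z1 →ₐc[K] MonoidAlgebra K (ULift.{u} Z1))) : MonoidAlgebra K Z1 →ₐ[K] MonoidAlgebra K (ULift.{u} Z1)) :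
        MonoidAlgebra K Z1 →* MonoidAlgebra K (ULift.{u} Z1)).comp (MonoidAlgebra.of K Z1)) (by
        show e (Bialgebra.TensorProduct.map (BialgHom.id K K) θ
          (GrpSchLib.AffineHopf.scalarBialgEquiv k K Z1 (MonoidAlgebra.single t 1))) =
            MonoidAlgebra.domCongrBialgEquiv K K σ (MonoidAlgebra.single t 1)
        rw [show GrpSchLib.AffineHopf.scalarBialgEquiv k K Z1 (MonoidAlgebra.single t 1) =
          (1 : K) ⊗ₜ[k] MonoidAlgebra.single t (1 : k) from by simp [GrpSchLib.AffineHopf.scalarBialgEquiv],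
          show Bialgebra.TensorProduct.map (BialgHom.id K K) θ ((1 : K) ⊗ₜ[k] MonoidAlgebra.single t (1 : k)) =
            (1 : K) ⊗ₜ[k] θ (MonoidAlgebra.single t 1) from rfl, hθt, ha, BialgEquiv.apply_symm_apply]
        rw [show MonoidAlgebra.domCongrBialgEquiv K K σ (MonoidAlgebra.single t 1) = MonoidAlgebra.single (σ t) 1 from
          (MonoidAlgebra.domCongr_single (R := K) (A := K) σ t 1), show σ t = ξ from zpow_one ξ]))) m
  have hgθ : Function.Bijective gθ := by
    have : (fun z => e (gθ z)) = MonoidAlgebra.domCongrBialgEquiv K K σ := funext hcomp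
    refine (Function.Bijective.of_comp_iff' e.bijective gθ).1 ?_
    show Function.Bijective fun z => e (gθ z)
    rw [this]
    exact (MonoidAlgebra.domCongrBialgEquiv K K σ).bijective
  have hbij : Function.Bijective θ := by
    have hK : Function.Bijective ((θ : MonoidAlgebra k Z1 →ₐ[k] A).toLinearMap.lTensor K) := by
      have : (fun z => gθ ((GrpSchLib.AffineHopf.scalarBialgEquiv k K Z1).symm z)) =
          ((θ : MonoidAlgebra k Z1 →ₐ[k] A).toLinearMap.lTensor K) := funext fun z => by
        show Bialgebra.TensorProduct.map (BialgHom.id K K) θ _ = _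
        erw [BialgEquiv.apply_symm_apply]
        induction z using TensorProduct.induction_on with
        | zero => simp
        | add p q hp hq => simp only [map_add, hp, hq]
        | tmul c m => rfl
      rw [← this]
      exact hgθ.comp (GrpSchLib.AffineHopf.scalarBialgEquiv k K Z1).symm.bijective
    exact (Module.FaithfullyFlat.lTensor_bijective_iff_bijective (R := k) (M := K) _).1 hK
  exact ⟨BialgEquiv.ofBijective θ hbij⟩

end Groth.Agent.AlgGrpQ.GmIsogeny
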