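import Groth.Agent.GrpSchLib.Tangent
import Mathlib.AlgebraicGeometry.Morphisms.FiniteType
import Mathlib.RingTheory.Ideal.IdempotentFG
import Mathlib.RingTheory.Localization.Away.Lemmas
import Mathlib.RingTheory.FiniteType
import Mathlib.RingTheory.Noetherian.Basic
import Mathlib.LinearAlgebra.Dual.Lemmas

/-!
# The unit of a group without tangent vectors is open
-/

universe u

open CategoryTheory AlgebraicGeometry MonoidalCategory CartesianMonoidalCategory MonObj TrivSqZeroExt

namespace Groth.Agent.AlgGrpQ

open GrpSchLib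

variable {k : Type u} [Field k] {N : Over (Spec (CommRingCat.of k))} [GrpObj N] [LocallyOfFiniteType N.hom]

/-- A group without nonzero tangent vectors at the unit has an open unit section. -/
theorem isOpenImmersion_unit_of_tangent
    (h : ∀ g : Over.mk (Spec.map (CommRingCat.ofHom (algebraMap k (DualNumber k)))) ⟶ N,
      (∀ x : 𝟙_ (Over (Spec (CommRingCat.of k))) ⟶ Over.mk (Spec.map (CommRingCat.ofHom (algebraMap k (DualNumber k)))),
        x ≫ g = η[N]) → g = toUnit _ ≫ η[N]) :
    IsOpenImmersion η[N].left := by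
  let e₀ : ↥(𝟙_ (Over (Spec (CommRingCat.of k)))).left := (⊥ : PrimeSpectrum k)
  obtain ⟨U, hU, heU, -⟩ := exists_isAffineOpen_mem_and_subset (U := (⊤ : N.left.Opens)) (x := η[N].left e₀) trivial
  have hrange : Set.range η[N].left ⊆ Set.range hU.fromSpec := by
    rintro _ ⟨x, rfl⟩
    rw [hU.range_fromSpec]
    haveI : Subsingleton ↥(𝟙_ (Over (Spec (CommRingCat.of k)))).left := inferInstanceAs (Subsingleton (PrimeSpectrum k))
    rw [Subsingleton.elim x e₀]
    exact heU
  obtain ⟨ρ, hρ⟩ := Spec.map_surjective (hU.fromSpec ≫ N.hom)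
  letI := ρ.hom.toAlgebra
  have hj : hU.fromSpec ≫ N.hom = Spec.map (CommRingCat.ofHom (algebraMap k Γ(N.left, U))) := hρ.symm
  haveI : Algebra.FiniteType k Γ(N.left, U) := by
    have h1 : LocallyOfFiniteType (Spec.map ρ) := by rw [hρ]; infer_instance
    rw [HasRingHomProperty.Spec_iff (P := @LocallyOfFiniteType)] at h1
    exact h1
  haveI : IsNoetherianRing Γ(N.left, U) := Algebra.FiniteType.isNoetherianRing k _
  obtain ⟨χ₀, hχ₀⟩ := Spec.map_surjective (R := Γ(N.left, U)) (S := CommRingCat.of k) (IsOpenImmersion.lift hU.fromSpec η[N].left hrange)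
  have hcomp : Spec.map χ₀ ≫ hU.fromSpec = η[N].left := by rw [hχ₀, IsOpenImmersion.lift_fac]
  have hχk : ∀ r, χ₀.hom (algebraMap k Γ(N.left, U) r) = r := by
    have h1 : Spec.map χ₀ ≫ Spec.map ρ = Spec.map (𝟙 (CommRingCat.of k)) := by
      rw [hρ, ← Category.assoc, hcomp, Over.w η[N], Spec.map_id]
      rfl
    rw [← Spec.map_comp] at h1
    intro r
    exact congrArg (fun q => q.hom r) (Spec.map_injective h1)
  let χ : Γ(N.left, U) →ₐ[k] k := { χ₀.hom with commutes' := hχk }
  have hχ : Spec.map (CommRingCat.ofHom χ.toRingHom) ≫ hU.fromSpec = η[N].left := hcomp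
  let m := RingHom.ker χ
  have hm : m ≤ m ^ 2 := by
    intro a ha
    by_contra ha2
    let W : Submodule k Γ(N.left, U) := (m ^ 2).restrictScalars k ⊔ k ∙ 1
    have haW : a ∉ W := by
      rintro hmem
      obtain ⟨y, hy, z, hz, hyz⟩ := Submodule.mem_sup.mp hmem
      obtain ⟨r, rfl⟩ := Submodule.mem_span_singleton.mp hz
      have h1 := congrArg χ hyz
      rw [map_add, map_smul, map_one, smul_eq_mul, _root_.mul_one, RingHom.mem_ker.mp ha,
        RingHom.mem_ker.mp (Ideal.pow_le_self two_ne_zero hy : y ∈ m), zero_add] at h1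
      rw [h1, zero_smul, add_zero] at hyz
      exact ha2 (hyz ▸ hy)
    obtain ⟨l, hla, hl⟩ := Submodule.exists_dual_map_eq_bot_of_notMem haW inferInstance
    have hl0 : ∀ w ∈ W, l w = 0 := fun w hw => by
      have : l w ∈ W.map l := ⟨w, hw, rfl⟩
      rwa [hl, Submodule.mem_bot] at this
    have hl1 : l 1 = 0 := hl0 _ (Submodule.mem_sup_right (Submodule.mem_span_singleton_self _))
    have hl2 : ∀ b ∈ m ^ 2, l b = 0 := fun b hb => hl0 _ (Submodule.mem_sup_left hb)
    have hlmul : ∀ a b, l (a * b) = χ a * l b + χ b * l a := fun a b => by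
      have h2 := hl2 ((a - algebraMap k _ (χ a)) * (b - algebraMap k _ (χ b))) (by
        rw [pow_two]; exact Ideal.mul_mem_mul (by simp [m, RingHom.mem_ker]) (by simp [m, RingHom.mem_ker]))
      have e : (a - algebraMap k _ (χ a)) * (b - algebraMap k _ (χ b)) =
          a * b - χ a • b - χ b • a + (χ a * χ b) • (1 : Γ(N.left, U)) := by
        simp [Algebra.smul_def]; ring
      rw [e] at h2
      simp [hl1] at h2
      linear_combination h2
    let g : Γ(N.left, U) →ₐ[k] DualNumber k := AlgHom.ofLinearMap
      ((TrivSqZeroExt.inlAlgHom k k k).toLinearMap ∘ₗ χ.toLinearMap + (TrivSqZeroExt.inrHom k k) ∘ₗ l)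
      (by simp [hl1])
      (fun a b => by
        ext
        · simp
        · simp [hlmul]; ring)
    let gN : Over.mk (Spec.map (CommRingCat.ofHom (algebraMap k (DualNumber k)))) ⟶ N :=
      specHom g ≫ Over.homMk hU.fromSpec hj
    have hgN : gN = toUnit _ ≫ η[N] := h gN fun x => by
      obtain ⟨ψ₀, hψ⟩ := Spec.map_surjective (R := CommRingCat.of (DualNumber k)) (S := CommRingCat.of k) x.left
      have hψk : ∀ r, ψ₀.hom (algebraMap k (DualNumber k) r) = r := by
        have h1 : Spec.map ψ₀ ≫ Spec.map (CommRingCat.ofHom (algebraMap k (DualNumber k))) = Spec.map (𝟙 (CommRingCat.of k)) := by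
          rw [hψ, Spec.map_id]; exact Over.w x
        rw [← Spec.map_comp] at h1
        intro r
        exact congrArg (fun q => q.hom r) (Spec.map_injective h1)
      let ψ : DualNumber k →ₐ[k] k := { ψ₀.hom with commutes' := hψk }
      have hψε : ψ DualNumber.eps = 0 := by
        have := congrArg ψ (DualNumber.eps_mul_eps (R := k))
        rwa [map_mul, map_zero, mul_self_eq_zero] at this
      have hψg : ψ.comp g = χ := AlgHom.ext fun b => by
        show ψ (g b) = χ b
        rw [show g b = algebraMap k (DualNumber k) (χ b) + l b • DualNumber.eps by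
          ext <;> simp [g, TrivSqZeroExt.algebraMap_eq_inl], map_add, AlgHom.commutes, map_smul, hψε, smul_zero, add_zero]
        rfl
      refine Over.OverMorphism.ext ?_
      show x.left ≫ Spec.map (CommRingCat.ofHom g.toRingHom) ≫ hU.fromSpec = η[N].left
      rw [← hψ, ← hχ, ← Category.assoc, ← Spec.map_comp, ← hψg]
      rfl
    have h2 : Spec.map (CommRingCat.ofHom g.toRingHom) ≫ hU.fromSpec =
        Spec.map (CommRingCat.ofHom ((Algebra.ofId k (DualNumber k)).comp χ).toRingHom) ≫ hU.fromSpec := by
      have h3 : gN.left = (toUnit (Over.mk (Spec.map (CommRingCat.ofHom (algebraMap k (DualNumber k)))))).left ≫ η[N].left :=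
        congrArg Over.Hom.left hgN
      refine (show gN.left = _ from h3).trans ?_
      have ht' : (toUnit (Over.mk (Spec.map (CommRingCat.ofHom (algebraMap k (DualNumber k)))))).left =
          Spec.map (CommRingCat.ofHom (algebraMap k (DualNumber k))) :=
        (Category.comp_id _).symm.trans (Over.w (toUnit (Over.mk (Spec.map (CommRingCat.ofHom (algebraMap k (DualNumber k)))))))
      rw [ht', ← hχ, ← Category.assoc]
      congr 1
      exact (Spec.map_comp (CommRingCat.ofHom χ.toRingHom) (CommRingCat.ofHom (algebraMap k (DualNumber k)))).symm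
    rw [cancel_mono] at h2
    have h4 := congrArg (fun q => TrivSqZeroExt.snd (CommRingCat.Hom.hom q a)) (Spec.map_injective h2)
    simp [g, TrivSqZeroExt.algebraMap_eq_inl] at h4
    exact hla h4
  have hid : IsIdempotentElem m := le_antisymm Ideal.mul_le_right (by rwa [← pow_two])
  obtain ⟨e, he, hme⟩ := (m.isIdempotentElem_iff_of_fg (IsNoetherian.noetherian _)).mp hid
  letI : Algebra Γ(N.left, U) k := χ.toRingHom.toAlgebra
  haveI : IsLocalization.Away (1 - e) k := IsLocalization.away_of_isIdempotentElem he.one_sub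
    (by rw [sub_sub_cancel]; exact hme) (fun r => ⟨algebraMap k _ r, hχk r⟩)
  haveI : IsOpenImmersion (Spec.map (CommRingCat.ofHom χ.toRingHom)) := by
    let E := IsLocalization.algEquiv (Submonoid.powers (1 - e)) (Localization.Away (1 - e)) k
    have : CommRingCat.ofHom χ.toRingHom = CommRingCat.ofHom (algebraMap Γ(N.left, U) (Localization.Away (1 - e))) ≫
        E.toRingEquiv.toCommRingCatIso.hom := by
      ext b
      exact (E.commutes b).symm
    rw [this, Spec.map_comp]
    infer_instance
  rw [← hχ]
  infer_instance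

end Groth.Agent.AlgGrpQ
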