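import Groth.Agent.ComodLib.Unitriangular
import Groth.Agent.ComodLib.BaseChange
import Groth.Agent.GrpSchLib.HopfTransfer
import Mathlib.RingTheory.Bialgebra.TensorProduct
import Mathlib.RingTheory.HopfAlgebra.TensorProduct
import Mathlib.LinearAlgebra.Dual.Lemmas

/-!
# Unipotence under base change and quotients; small models of Hopf algebras
-/

universe u v w x

open TensorProduct

namespace Groth.Agent.AlgGrpQ

open Groth.Agent.ComodLib

variable {k : Type u} [Field k] {A : Type v} [CommRing A] [Bialgebra k A]

/-- A quotient of a unipotent group coordinate ring is unipotent. -/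
theorem isUnipotent_of_surjective {B : Type x} [CommRing B] [Bialgebra k B] (π : A →ₐc[k] B)
    (hπ : Function.Surjective π) (hU : HopfRep.IsUnipotent k A) : HopfRep.IsUnipotent k B := by
  let p : A →ₗ[k] B := (π : A →ₗ[k] B)
  refine isUnipotent_of_filtration (C := fun r => (uniLevel k A r).map p)
    (fun a b h => Submodule.map_mono (uniLevel_mono h)) ?_ ?_ fun r => ?_
  · simp [uniLevel_zero, Submodule.map_span, p]
  · rw [← Submodule.map_iSup, iSup_uniLevel_eq_top hU, Submodule.map_top]
    exact LinearMap.range_eq_top.mpr hπ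
  · rintro _ ⟨_, ⟨a, ha, rfl⟩, rfl⟩
    have e : Coalgebra.comul (R := k) (p a) = TensorProduct.map p p (Coalgebra.comul (R := k) a) :=
      (CoalgHomClass.map_comp_comul_apply π a).symm
    rw [e]
    have h := map_comul_uniLevel (k := k) (A := A) r ⟨a, ha, rfl⟩
    suffices (⨆ i ∈ Finset.range (r + 1),
        LinearMap.range (TensorProduct.mapIncl (uniLevel k A i) (uniLevel k A (r - i)))) ≤
        Submodule.comap (TensorProduct.map p p) (⨆ i ∈ Finset.range (r + 1),
          LinearMap.range (TensorProduct.mapIncl ((uniLevel k A i).map p) ((uniLevel k A (r - i)).map p))) from this h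
    refine iSup₂_le fun i hi => ?_
    rintro _ ⟨z, rfl⟩
    refine Submodule.mem_iSup_of_mem i (Submodule.mem_iSup_of_mem hi ?_)
    induction z using TensorProduct.induction_on with
    | zero => simp
    | tmul a b => exact ⟨(⟨p a, ⟨a, a.2, rfl⟩⟩ : (uniLevel k A i).map p) ⊗ₜ[k] (⟨p b, ⟨b, b.2, rfl⟩⟩ : (uniLevel k A (r - i)).map p), rfl⟩
    | add s t hs ht => simpa only [map_add] using Submodule.add_mem _ hs ht

section BC

variable (K : Type w) [Field K] [Algebra k K]

/-- A pair of elements in the base change. -/
noncomputable def bcPair : A ⊗[k] A →ₗ[k] (K ⊗[k] A) ⊗[K] (K ⊗[k] A) :=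
  TensorProduct.lift (((TensorProduct.mk K (K ⊗[k] A) (K ⊗[k] A)).restrictScalars₁₂ k k).compl₁₂
    (TensorProduct.mk k K A 1) (TensorProduct.mk k K A 1))

theorem comul_one_tmul' (a : A) :
    Coalgebra.comul (R := K) ((1 : K) ⊗ₜ[k] a) = bcPair K (Coalgebra.comul (R := k) a) := by
  rw [TensorProduct.comul_tmul, CommSemiring.comul_apply]
  induction Coalgebra.comul (R := k) a using TensorProduct.induction_on with
  | zero => simp
  | tmul p q => rw [AlgebraTensorModule.tensorTensorTensorComm_tmul]; rfl
  | add s t hs ht => simp only [tmul_add, map_add, hs, ht]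

/-- Unipotence is preserved by extension of the base field. -/
theorem isUnipotent_baseChange (hU : HopfRep.IsUnipotent k A) : HopfRep.IsUnipotent K (K ⊗[k] A) := by
  refine isUnipotent_of_filtration (C := fun r => (uniLevel k A r).baseChange K)
    (fun a b h => Submodule.baseChange_mono K (uniLevel_mono h)) ?_ ?_ fun r => ?_
  · show (uniLevel k A 0).baseChange K = _
    rw [uniLevel_zero, Submodule.baseChange_span, Set.image_singleton]
    rfl
  · refine eq_top_iff.mpr fun z _ => ?_
    induction z using TensorProduct.induction_on with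
    | zero => simp
    | tmul s a =>
      obtain ⟨r, hr⟩ := (Submodule.mem_iSup_of_directed _ uniLevel_mono.directed_le).mp
        ((iSup_uniLevel_eq_top hU) ▸ Submodule.mem_top : a ∈ ⨆ r, uniLevel k A r)
      exact Submodule.mem_iSup_of_mem r (Submodule.tmul_mem_baseChange_of_mem s hr)
    | add p q hp hq => exact Submodule.add_mem _ (hp trivial) (hq trivial)
  · rw [Submodule.baseChange_eq_span, Submodule.map_span, Submodule.span_le]
    rintro _ ⟨_, ⟨a, ha, rfl⟩, rfl⟩
    rw [SetLike.mem_coe, show (TensorProduct.mk k K A 1) a = (1 : K) ⊗ₜ[k] a from rfl, comul_one_tmul']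
    have h := map_comul_uniLevel (k := k) (A := A) r ⟨a, ha, rfl⟩
    suffices (⨆ i ∈ Finset.range (r + 1),
        LinearMap.range (TensorProduct.mapIncl (uniLevel k A i) (uniLevel k A (r - i)))) ≤
        Submodule.comap (bcPair K) ((⨆ i ∈ Finset.range (r + 1),
          LinearMap.range (TensorProduct.mapIncl ((uniLevel k A i).baseChange K) ((uniLevel k A (r - i)).baseChange K))).restrictScalars k) from this h
    refine iSup₂_le fun i hi => ?_
    rintro _ ⟨z, rfl⟩
    refine Submodule.mem_iSup_of_mem i (Submodule.mem_iSup_of_mem hi ?_)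
    induction z using TensorProduct.induction_on with
    | zero => simp
    | tmul a b =>
      exact ⟨(⟨_, Submodule.tmul_mem_baseChange_of_mem (1 : K) a.2⟩ : (uniLevel k A i).baseChange K) ⊗ₜ[K]
        (⟨_, Submodule.tmul_mem_baseChange_of_mem (1 : K) b.2⟩ : (uniLevel k A (r - i)).baseChange K), rfl⟩
    | add s t hs ht => simpa only [map_add] using Submodule.add_mem _ hs ht

/-- Unipotence descends along extensions of the base field. -/
theorem isUnipotent_of_baseChange {K : Type u} [Field K] [Algebra k K] {A : Type u} [CommRing A] [Bialgebra k A]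
    (hU : HopfRep.IsUnipotent K (K ⊗[k] A)) : HopfRep.IsUnipotent k A := by
  intro V _ _ _ hfin hnt
  letI := CoactBr.Comod.baseChange k K A V
  haveI : Nontrivial (K ⊗[k] V) := by
    obtain ⟨v, hv⟩ := exists_ne (0 : V)
    refine ⟨(1 : K) ⊗ₜ[k] v, 0, fun h => hv ?_⟩
    obtain ⟨φ, hφ⟩ := Module.Projective.exists_dual_ne_zero k hv
    exact absurd (by simpa using congrArg (φ.baseChange K) h) hφ
  intro h0
  apply hU (K ⊗[k] V) inferInstance inferInstance
  rw [fixedPts_baseChange, h0, Submodule.baseChange_bot]

end BC

section Small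

/-- A finitely generated Hopf algebra has a model in the universe of the base field. -/
theorem exists_small (k : Type u) [Field k] (A : Type v) [CommRing A] [HopfAlgebra k A] [Algebra.FiniteType k A] :
    ∃ (B : Type u) (_ : CommRing B) (_ : HopfAlgebra k B) (e : B →ₐc[k] A),
      Function.Bijective e ∧ Algebra.FiniteType k B := by
  obtain ⟨n, f, hf⟩ := Algebra.FiniteType.iff_quotient_mvPolynomial''.mp ‹Algebra.FiniteType k A›
  let B := MvPolynomial (Fin n) k ⧸ RingHom.ker f
  let e := Ideal.quotientKerAlgEquivOfSurjective hf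
  let j : B →ₐ[k] A := e
  have hj : Function.Injective j := e.injective
  have hm : Function.Surjective (Algebra.TensorProduct.map j j) :=
    TensorProduct.map_surjective (g := j.toLinearMap) e.surjective (g' := j.toLinearMap) e.surjective
  have h1 : ∀ b, Coalgebra.comul (R := k) (j b) ∈ (Algebra.TensorProduct.map j j).range := fun b => hm _
  have h2 : ∀ b, HopfAlgebraStruct.antipode (R := k) (j b) ∈ j.range := fun b => e.surjective _
  letI := GrpSchLib.HopfTransfer.hopf j hj h1 h2
  refine ⟨B, inferInstance, inferInstance, BialgHom.ofAlgHom j rfl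
    (AlgHom.ext fun b => (GrpSchLib.HopfTransfer.map_comulRes j hj h1 b)), e.bijective, ?_⟩
  infer_instance

end Small

end Groth.Agent.AlgGrpQ
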