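import Groth.Prelude.Def_RedSub
import Groth.Agent.AlgGrpQ.ExactReductive
import Groth.Agent.GrpSchLib.AffineHopf
import Groth.Agent.GrpSchLib.OrbitImmersion
import Mathlib.AlgebraicGeometry.Morphisms.ClosedImmersion
import Mathlib.AlgebraicGeometry.IdealSheaf.Functorial

/-!
# The quotient of an affine group by a linearly reductive subgroup is affine
-/

set_option autoImplicit false
set_option backward.isDefEq.respectTransparency false
set_option backward.isDefEq.respectTransparency.types false
set_option maxSynthPendingDepth 5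

universe u

open CategoryTheory CategoryTheory.Limits MonoidalCategory CartesianMonoidalCategory MonObj AlgebraicGeometry
open TensorProduct WithConv
open Groth.Agent.GrpSchLib

noncomputable section

namespace Groth.Agent.AlgGrpQ.ReductiveQuot

open Groth.Agent.ComodLib
open Groth.Agent.AlgGrpQ.ExactReductive (ρ₁ ρ₁_eq)

variable {k : Type u} [Field k] {A B : Type u} [CommRing A] [HopfAlgebra k A] [CommRing B] [HopfAlgebra k B]
  (ψ : A →ₐc[k] B) (β : B →ₗ[k] k)

/-- Averaging over the subgroup. -/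
def avg : A →ₗ[k] A := (TensorProduct.rid k A).toLinearMap ∘ₗ β.lTensor A ∘ₗ (ρ₁ ψ).toLinearMap

theorem avg_one (h1 : β 1 = 1) : avg ψ β 1 = 1 := by
  simp [avg, Algebra.TensorProduct.one_def, h1]

theorem avg_mul (a : A) {f : A} (hf : ρ₁ ψ f = f ⊗ₜ[k] (1 : B)) : avg ψ β (a * f) = avg ψ β a * f := by
  show TensorProduct.rid k A (β.lTensor A (ρ₁ ψ (a * f))) = TensorProduct.rid k A (β.lTensor A (ρ₁ ψ a)) * f
  rw [map_mul, hf]
  induction ρ₁ ψ a using TensorProduct.induction_on with
  | zero => simp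
  | tmul p q => simp [Algebra.TensorProduct.tmul_mul_tmul]
  | add p q hp hq => simp only [add_mul, map_add, hp, hq]

theorem ρ₁_avg (hβ : IsRightIntegral k β) (a : A) : ρ₁ ψ (avg ψ β a) = avg ψ β a ⊗ₜ[k] (1 : B) := by
  let β' : A →ₗ[k] k := β ∘ₗ (ψ : A →ₐ[k] B).toLinearMap
  let E : A →ₗ[k] A := (TensorProduct.rid k A).toLinearMap ∘ₗ β'.lTensor A ∘ₗ Coalgebra.comul
  have havg : avg ψ β = E := LinearMap.ext fun a => by
    show TensorProduct.rid k A (β.lTensor A (Algebra.TensorProduct.map (AlgHom.id k A) (ψ : A →ₐ[k] B)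
      (Coalgebra.comul (R := k) a))) = TensorProduct.rid k A (β'.lTensor A (Coalgebra.comul (R := k) a))
    induction Coalgebra.comul (R := k) a using TensorProduct.induction_on with
    | zero => simp
    | tmul p q => simp [β']
    | add p q hp hq => simp only [map_add, hp, hq]
  let ψl : A →ₗ[k] B := (ψ : A →ₐ[k] B).toLinearMap
  have hE : ∀ a, Coalgebra.comul (R := k) (E a) = E.lTensor A (Coalgebra.comul (R := k) a) := by
    intro a
    have e1 : ∀ z : A ⊗[k] A, Coalgebra.comul (R := k) (TensorProduct.rid k A (β'.lTensor A z)) =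
        ((TensorProduct.rid k A).toLinearMap ∘ₗ β'.lTensor A).lTensor A
          (TensorProduct.assoc k A A A ((Coalgebra.comul (R := k)).rTensor A z)) := fun z => by
      induction z using TensorProduct.induction_on with
      | zero => simp
      | tmul p q =>
        simp only [LinearMap.lTensor_tmul, LinearMap.rTensor_tmul, TensorProduct.rid_tmul, map_smul]
        induction Coalgebra.comul (R := k) p using TensorProduct.induction_on with
        | zero => simp
        | tmul x y => simp [TensorProduct.tmul_smul]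
        | add x y hx hy => simp only [add_tmul, map_add, smul_add, hx, hy]
      | add p q hp hq => simp only [map_add, hp, hq]
    show Coalgebra.comul (R := k) (TensorProduct.rid k A (β'.lTensor A (Coalgebra.comul (R := k) a))) = _
    rw [e1, Coalgebra.coassoc_apply, ← LinearMap.comp_apply, ← LinearMap.lTensor_comp]
    rfl
  have e2 : ∀ c, ψl (E c) = β' c • (1 : B) := by
    intro c
    have h := congrArg (TensorProduct.rid k B) (hβ (ψl c))
    rw [show Coalgebra.comul (R := k) (ψl c) = TensorProduct.map ψl ψl (Coalgebra.comul (R := k) c) from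
      (CoalgHomClass.map_comp_comul_apply ψ c).symm, TensorProduct.rid_tmul] at h
    refine Eq.trans ?_ h
    show ψl (TensorProduct.rid k A (β'.lTensor A (Coalgebra.comul (R := k) c))) = _
    induction Coalgebra.comul (R := k) c using TensorProduct.induction_on with
    | zero => simp
    | tmul p q => simp [β', ψl]
    | add p q hp hq => simp only [map_add, hp, hq]
  rw [havg]
  show Algebra.TensorProduct.map (AlgHom.id k A) (ψ : A →ₐ[k] B) (Coalgebra.comul (R := k) (E a)) = _
  rw [hE]
  show _ = TensorProduct.rid k A (β'.lTensor A (Coalgebra.comul (R := k) a)) ⊗ₜ[k] (1 : B)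
  induction Coalgebra.comul (R := k) a using TensorProduct.induction_on with
  | zero => simp
  | tmul p q =>
    show p ⊗ₜ[k] ψl (E q) = _
    rw [e2, LinearMap.lTensor_tmul, TensorProduct.rid_tmul, TensorProduct.smul_tmul]
  | add p q hp hq => simp only [map_add, add_tmul, hp, hq]

theorem map_avg {P : Type u} [CommRing P] [Algebra k P] (π : A →ₐ[k] P) {a : A}
    (ha : Algebra.TensorProduct.map π (AlgHom.id k B) (ρ₁ ψ a) = 0) : π (avg ψ β a) = 0 := by
  have e : ∀ z : A ⊗[k] B, π (TensorProduct.rid k A (β.lTensor A z)) =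
      TensorProduct.rid k P (β.lTensor P (Algebra.TensorProduct.map π (AlgHom.id k B) z)) := fun z => by
    induction z using TensorProduct.induction_on with
    | zero => simp
    | tmul p q => simp
    | add p q hp hq => simp only [map_add, hp, hq]
  show π (TensorProduct.rid k A (β.lTensor A (ρ₁ ψ a))) = 0
  rw [e, ha, map_zero, map_zero]

variable {Q : Over (Spec (CommRingCat.of k))} (q : AffineHopf.sp k A ⟶ Q)

/-- An invariant function descends to a function on the quotient. -/
theorem exists_fn [IsMonHom (AffineHopf.spMap (ψ : A →ₐ[k] B))]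
    (hq : RedSub.IsQuotient (AffineHopf.spMap (ψ : A →ₐ[k] B)) q) {f : A} (hf : ρ₁ ψ f = f ⊗ₜ[k] (1 : B)) :
    ∃ g : Γ(Q.left, ⊤), (Scheme.ΓSpecIso (CommRingCat.of A)).hom (q.left.appTop g) = f := by
  obtain ⟨_, _, _, hsq⟩ := hq
  let v : AffineHopf.sp k A ⟶ AffineHopf.sp k (Polynomial k) :=
    AffineHopf.spMap (Polynomial.aeval f : Polynomial k →ₐ[k] A)
  let iL : A →ₐ[k] A ⊗[k] B := Algebra.TensorProduct.includeLeft
  let iR : B →ₐ[k] A ⊗[k] B := Algebra.TensorProduct.includeRight
  let w : AffineHopf.sp k (A ⊗[k] B) ⟶ AffineHopf.sp k A ⊗ AffineHopf.sp k B :=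
    lift (AffineHopf.spMap iL) (AffineHopf.spMap iR)
  have hw : IsIso w := by
    let φ : AffineHopf.sp k A ⊗ AffineHopf.sp k B ⟶ AffineHopf.sp k (A ⊗[k] B) :=
      Over.homMk (pullbackSpecIso k A B).hom (by
        show (pullbackSpecIso k A B).hom ≫ Spec.map (CommRingCat.ofHom (algebraMap k (A ⊗[k] B))) = _
        exact pullbackSpecIso_hom_base k A B)
    have : IsIso w.left := by
      have h : w.left = (pullbackSpecIso k A B).inv := by
        apply pullback.hom_ext
        · exact ((congrArg CommaMorphism.left (lift_fst (AffineHopf.spMap iL) (AffineHopf.spMap iR))).trans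
            (pullbackSpecIso_inv_fst k A B).symm)
        · exact ((congrArg CommaMorphism.left (lift_snd (AffineHopf.spMap iL) (AffineHopf.spMap iR))).trans
            (pullbackSpecIso_inv_snd k A B).symm)
      rw [h]; infer_instance
    have : IsIso ((Over.forget _).map w) := this
    exact isIso_of_reflects_iso w (Over.forget _)
  have h1 : fst (AffineHopf.sp k A) (AffineHopf.sp k B) ≫ v =
      ((AffineHopf.sp k A ◁ AffineHopf.spMap (ψ : A →ₐ[k] B)) ≫ μ[AffineHopf.sp k A]) ≫ v := by
    rw [← cancel_epi w, lift_fst_assoc, Category.assoc, lift_whiskerLeft_assoc, ← Category.assoc,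
      ← Hom.mul_def]
    refine ((AffineHopf.spMap_comp iL (Polynomial.aeval f : Polynomial k →ₐ[k] A)).trans ?_).trans
      ((congrArg (fun r => r ≫ v) ((congrArg (AffineHopf.spMap iL * ·) (AffineHopf.spMap_comp iR (ψ : A →ₐ[k] B))).trans
        (AffineHopf.spMap_mul iL (iR.comp (ψ : A →ₐ[k] B))))).trans
          (AffineHopf.spMap_comp _ (Polynomial.aeval f : Polynomial k →ₐ[k] A))).symm
    refine congrArg AffineHopf.spMap (Polynomial.algHom_ext ?_)
    show iL (Polynomial.aeval f Polynomial.X) = _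
    rw [AlgHom.comp_apply, Polynomial.aeval_X]
    show f ⊗ₜ[k] (1 : B) = (toConv iL * toConv (iR.comp (ψ : A →ₐ[k] B))).ofConv f
    rw [ρ₁_eq]
    exact hf.symm
  obtain ⟨e, he⟩ := OrbitImmersion.exists_desc hsq v h1
  refine ⟨e.left.appTop ((Scheme.ΓSpecIso (CommRingCat.of (Polynomial k))).inv Polynomial.X), ?_⟩
  rw [← GmPts.appTop_comp_apply, ← Over.comp_left, he]
  show (Scheme.ΓSpecIso (CommRingCat.of A)).hom ((Spec.map (CommRingCat.ofHom
    (Polynomial.aeval f : Polynomial k →ₐ[k] A).toRingHom)).appTop _) = f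
  rw [show (Spec.map (CommRingCat.ofHom (Polynomial.aeval f : Polynomial k →ₐ[k] A).toRingHom)).appTop
      ((Scheme.ΓSpecIso (CommRingCat.of (Polynomial k))).inv Polynomial.X) =
    (Scheme.ΓSpecIso (CommRingCat.of A)).inv ((Polynomial.aeval f : Polynomial k →ₐ[k] A) Polynomial.X) from
      (congrArg (fun φ => (ConcreteCategory.hom φ) Polynomial.X) (Scheme.ΓSpecIso_inv_naturality
        (CommRingCat.ofHom (Polynomial.aeval f : Polynomial k →ₐ[k] A).toRingHom))).symm]
  exact (Iso.inv_hom_id_apply (Scheme.ΓSpecIso (CommRingCat.of A)) _).trans (Polynomial.aeval_X f)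

/-- The inverse image of a closed set of the quotient is cut out by an ideal stable under averaging. -/
theorem exists_stable_ideal [IsMonHom (AffineHopf.spMap (ψ : A →ₐ[k] B))]
    (hq : RedSub.IsQuotient (AffineHopf.spMap (ψ : A →ₐ[k] B)) q) (Z : Set Q.left) (hZ : IsClosed Z) :
    ∃ J : Ideal A, (∀ a ∈ J, avg ψ β a ∈ J) ∧
      ∀ p : Spec (CommRingCat.of A), q.left p ∈ Z ↔ J ≤ p.asIdeal := by
  let iZ := (Scheme.IdealSheafData.vanishingIdeal (X := Q.left) ⟨Z, hZ⟩).subschemeι
  have hrange : Set.range iZ = Z := by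
    rw [Scheme.IdealSheafData.range_subschemeι]
    simp
  let i₀ : pullback q.left iZ ⟶ Spec (CommRingCat.of A) := pullback.fst q.left iZ
  have hi₀ : IsClosedImmersion i₀ := inferInstanceAs (IsClosedImmersion (pullback.fst q.left iZ))
  have : IsAffine (pullback q.left iZ) := isAffine_of_isAffineHom i₀
  obtain ⟨φ, hφ⟩ : ∃ φ, Spec.map φ = (pullback q.left iZ).isoSpec.inv ≫ i₀ := ⟨_, Spec.map_preimage _⟩
  let P : CommRingCat.{u} := Γ(pullback q.left iZ, ⊤)
  letI : Algebra k P := (φ.hom.comp (algebraMap k A)).toAlgebra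
  let π : A →ₐ[k] P := { φ.hom with commutes' := fun _ => rfl }
  have hrangeφ : Set.range (Spec.map φ) = PrimeSpectrum.zeroLocus (RingHom.ker φ.hom : Set A) := by
    have hsurj : Function.Surjective φ.hom := by
      have : IsClosedImmersion (Spec.map φ) := hφ ▸ inferInstance
      have h := ((isClosedImmersion_iff_isAffineHom).mp this).2 ⊤ (isAffineOpen_top _)
      intro b
      obtain ⟨x, hx⟩ := h ((Scheme.ΓSpecIso P).inv b)
      refine ⟨(Scheme.ΓSpecIso (CommRingCat.of A)).hom x, ?_⟩
      have hn := congrArg (fun g => (ConcreteCategory.hom g) x) (Scheme.ΓSpecIso_naturality φ)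
      refine hn.symm.trans ?_
      show (Scheme.ΓSpecIso P).hom ((Spec.map φ).app ⊤ x) = b
      rw [hx]
      exact Iso.inv_hom_id_apply (Scheme.ΓSpecIso P) b
    exact range_comap_of_surjective _ _ hsurj
  refine ⟨RingHom.ker φ.hom, fun a ha => ?_, fun p => ?_⟩
  · let j : AffineHopf.sp k P ⟶ AffineHopf.sp k A := AffineHopf.spMap π
    let jL : P →ₐ[k] P ⊗[k] B := Algebra.TensorProduct.includeLeft
    let act : A →ₐ[k] P ⊗[k] B := (Algebra.TensorProduct.map π (AlgHom.id k B)).comp (ρ₁ ψ)
    let pB : B →ₐ[k] P ⊗[k] B := Algebra.TensorProduct.includeRight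
    have hact : AffineHopf.spMap act = lift (AffineHopf.spMap (jL.comp π)) (AffineHopf.spMap pB) ≫
        (AffineHopf.sp k A ◁ AffineHopf.spMap (ψ : A →ₐ[k] B)) ≫ μ[AffineHopf.sp k A] := by
      rw [lift_whiskerLeft_assoc, ← Hom.mul_def, AffineHopf.spMap_comp, AffineHopf.spMap_mul]
      refine congrArg AffineHopf.spMap ?_
      rw [show act = (toConv ((Algebra.TensorProduct.map π (AlgHom.id k B)).comp Algebra.TensorProduct.includeLeft) *
        toConv ((Algebra.TensorProduct.map π (AlgHom.id k B)).comp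
          ((Algebra.TensorProduct.includeRight).comp (ψ : A →ₐ[k] B)))).ofConv from ?_]
      · congr 2
        exact congrArg toConv (AlgHom.ext fun x => by simp [pB, jL])
      · show (Algebra.TensorProduct.map π (AlgHom.id k B)).comp (ρ₁ ψ) = _
        rw [show ρ₁ ψ = (toConv (Algebra.TensorProduct.includeLeft) *
            toConv ((Algebra.TensorProduct.includeRight).comp (ψ : A →ₐ[k] B))).ofConv from
          (congrArg WithConv.ofConv (ρ₁_eq ψ)).symm, AlgHom.comp_convMul_distrib]
    have hsq : (fst (AffineHopf.sp k A) (AffineHopf.sp k B)) ≫ q =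
        ((AffineHopf.sp k A ◁ AffineHopf.spMap (ψ : A →ₐ[k] B)) ≫ μ[AffineHopf.sp k A]) ≫ q := hq.2.2.2.w
    have hq' : AffineHopf.spMap act ≫ q = AffineHopf.spMap (jL.comp π) ≫ q := by
      rw [hact, Category.assoc, Category.assoc, ← Category.assoc _ μ[AffineHopf.sp k A], ← hsq, lift_fst_assoc]
    have hfac : ∃ χ : P ⟶ CommRingCat.of (P ⊗[k] B), CommRingCat.ofHom act.toRingHom = φ ≫ χ := by
      let r : Spec (CommRingCat.of (P ⊗[k] B)) ⟶ pullback q.left iZ :=
        pullback.lift (Spec.map (CommRingCat.ofHom act.toRingHom))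
          (Spec.map (CommRingCat.ofHom jL.toRingHom) ≫ (pullback q.left iZ).isoSpec.inv ≫ pullback.snd q.left iZ) (by
            refine (congrArg CommaMorphism.left hq').trans ?_
            show Spec.map (CommRingCat.ofHom (jL.comp π).toRingHom) ≫ q.left = _
            rw [show CommRingCat.ofHom (jL.comp π).toRingHom = φ ≫ CommRingCat.ofHom jL.toRingHom from rfl,
              Spec.map_comp, hφ]
            simp only [Category.assoc, i₀, pullback.condition])
      obtain ⟨χ, hχ⟩ : ∃ χ, Spec.map χ = r ≫ (pullback q.left iZ).isoSpec.hom := ⟨_, Spec.map_preimage _⟩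
      refine ⟨χ, Spec.map_injective ?_⟩
      rw [Spec.map_comp, hφ, hχ, Category.assoc, Iso.hom_inv_id_assoc]
      exact (pullback.lift_fst _ _ _).symm
    obtain ⟨χ, hχ⟩ := hfac
    refine map_avg ψ β π ?_
    show act a = 0
    have h := congrArg (fun g => (ConcreteCategory.hom g) a) hχ
    refine h.trans ?_
    show χ.hom (φ.hom a) = 0
    rw [show φ.hom a = 0 from ha, map_zero]
  · refine (Set.ext_iff.mp hrange.symm (q.left p)).trans ?_
    have : p ∈ Set.range i₀ ↔ q.left p ∈ Set.range iZ := by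
      rw [Scheme.Pullback.range_fst]
      rfl
    rw [← this]
    have e : Set.range i₀ = Set.range (Spec.map φ) := by
      rw [hφ]
      ext x
      simp only [Set.mem_range, Scheme.Hom.comp_apply]
      exact ⟨fun ⟨y, hy⟩ => ⟨(pullback q.left iZ).isoSpec.hom y,
          (Scheme.Hom.comp_apply _ _ y).symm.trans ((congrArg (fun t : pullback q.left iZ ⟶ Spec (CommRingCat.of A) => t y)
            (Iso.hom_inv_id_assoc (pullback q.left iZ).isoSpec i₀)).trans hy)⟩, fun ⟨y, hy⟩ => ⟨_, hy⟩⟩
    rw [e, hrangeφ]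
    rfl

/-- The quotient by a linearly reductive subgroup is affine. -/
theorem isAffine_quot [IsMonHom (AffineHopf.spMap (ψ : A →ₐ[k] B))]
    (hq : RedSub.IsQuotient (AffineHopf.spMap (ψ : A →ₐ[k] B)) q) (hB : HopfRep.IsLinearlyReductive k B) :
    IsAffine Q.left := by
  obtain ⟨α, hα, hα1⟩ := exists_integral_of_isLinearlyReductive hB
  let β := α ∘ₗ HopfAlgebra.antipode k
  have hβ : IsRightIntegral k β := hα.isRightIntegral_antipode
  have hβ1 : β 1 = 1 := by simp [β, hα1]
  have hs : Surjective q.left := hq.1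
  have : CompactSpace (Spec (CommRingCat.of A)) := inferInstance
  have : CompactSpace (AffineHopf.sp k A).left :=
    show CompactSpace (Spec (CommRingCat.of A)) from inferInstance
  have : CompactSpace Q.left :=
    ⟨by rw [← hs.surj.range_eq]; exact isCompact_range q.left.continuous⟩
  let q' : Γ(Q.left, ⊤) →+* A := (q.left.appTop ≫ (Scheme.ΓSpecIso (CommRingCat.of A)).hom).hom
  have hpre : ∀ (g : Γ(Q.left, ⊤)) (p : Spec (CommRingCat.of A)),
      q.left p ∈ Q.left.basicOpen g ↔ q' g ∉ p.asIdeal := by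
    intro g p
    show p ∈ q.left ⁻¹ᵁ Q.left.basicOpen g ↔ _
    rw [Scheme.preimage_basicOpen]
    show p ∈ (Spec (CommRingCat.of A)).basicOpen (q.left.appTop g) ↔ _
    rw [basicOpen_eq_of_affine']
    rfl
  let s : Set Γ(Q.left, ⊤) := {g | IsAffineOpen (Q.left.basicOpen g)}
  have hcov : ∀ p : Spec (CommRingCat.of A), ∃ g ∈ s, q' g ∉ p.asIdeal := by
    intro p
    obtain ⟨x, hx, hxc⟩ := IsClosed.exists_closed_singleton (isClosed_closure (s := {q.left p}))
      ⟨q.left p, subset_closure rfl⟩
    obtain ⟨U, hU, hxU, -⟩ := exists_isAffineOpen_mem_and_subset (X := Q.left) (x := x) (U := ⊤) trivial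
    obtain ⟨J, hJ, hJp⟩ := exists_stable_ideal ψ β q hq (U : Set Q.left)ᶜ U.2.isClosed_compl
    obtain ⟨K, hK, hKp⟩ := exists_stable_ideal ψ β q hq {x} hxc
    have htop : J ⊔ K = ⊤ := by
      by_contra hne
      obtain ⟨m, hm, hle⟩ := Ideal.exists_le_maximal _ hne
      let pm : Spec (CommRingCat.of A) := ⟨m, hm.isPrime⟩
      have h1 := (hJp pm).mpr (le_sup_left.trans hle)
      have h2 : q.left pm = x := (hKp pm).mpr (le_sup_right.trans hle)
      exact h1 (h2 ▸ hxU)
    obtain ⟨a, haJ, b, hbK, hab⟩ := Submodule.mem_sup.mp (htop.symm ▸ Submodule.mem_top (x := (1 : A)) :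
      (1 : A) ∈ J ⊔ K)
    obtain ⟨g, hg⟩ := exists_fn ψ q hq (ρ₁_avg ψ β hβ a)
    have hg' : q' g = avg ψ β a := hg
    refine ⟨g, ?_, ?_⟩
    · have hle : Q.left.basicOpen g ≤ U := fun y hy => by
        obtain ⟨r, rfl⟩ := hs.surj y
        by_contra hn
        exact (hpre g r).mp hy (hg' ▸ (hJp r).mp hn (hJ a haJ))
      show IsAffineOpen (Q.left.basicOpen g)
      have := hU.basicOpen (Q.left.presheaf.map (homOfLE (le_top : U ≤ ⊤)).op g)
      rwa [Scheme.basicOpen_res, inf_eq_right.mpr hle] at this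
    · have hxg : x ∈ Q.left.basicOpen g := by
        obtain ⟨r, rfl⟩ := hs.surj x
        refine (hpre g r).mpr fun hmem => r.2.ne_top ((Ideal.eq_top_iff_one _).mpr ?_)
        have e : (1 : A) = avg ψ β a + avg ψ β b := by rw [← map_add, hab, avg_one ψ β hβ1]
        rw [e]
        exact add_mem (hg' ▸ hmem) ((hKp r).mp rfl (hK b hbK))
      exact (hpre g p).mp ((specializes_iff_mem_closure.mpr hx).mem_open (Q.left.basicOpen g).2 hxg)
  refine isAffine_of_isAffineOpen_basicOpen s ?_ fun g hg => hg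
  have htop : Ideal.span (q' '' s) = ⊤ := by
    by_contra hne
    obtain ⟨m, hm, hle⟩ := Ideal.exists_le_maximal _ hne
    obtain ⟨g, hg, hgm⟩ := hcov ⟨m, hm.isPrime⟩
    exact hgm (hle (Ideal.subset_span ⟨g, hg, rfl⟩))
  have hinj : Function.Injective q' := by
    intro g g' h
    obtain ⟨_, _, _⟩ := hq.1, hq.2.1, hq.2.2.1
    have h' : q.left.appTop g = q.left.appTop g' :=
      (Scheme.ΓSpecIso (CommRingCat.of A)).commRingCatIsoToRingEquiv.injective h
    let u : Γ(Q.left, ⊤) → (Q.left ⟶ Spec (CommRingCat.of (Polynomial (ULift.{u} ℤ)))) := fun g =>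
      Q.left.toSpecΓ ≫ Spec.map (CommRingCat.ofHom (Polynomial.eval₂RingHom
        ((Int.castRingHom _).comp ULift.ringEquiv.toRingHom) g))
    have hu : u g = u g' := by
      rw [← cancel_epi q.left]
      simp only [u]
      rw [← Category.assoc, ← Category.assoc, Scheme.toSpecΓ_naturality, Category.assoc, Category.assoc,
        ← Spec.map_comp, ← Spec.map_comp]
      congr 2
      ext
      · simp
      · simp [h']
    have := congrArg (fun t => t.appTop ((Scheme.ΓSpecIso (CommRingCat.of (Polynomial (ULift.{u} ℤ)))).inv Polynomial.X)) hu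
    simp only [u, GmPts.appTop_comp_apply] at this
    have hn : ∀ (φ : CommRingCat.of (Polynomial (ULift.{u} ℤ)) ⟶ Γ(Q.left, ⊤)),
        Q.left.toSpecΓ.appTop ((Spec.map φ).appTop ((Scheme.ΓSpecIso _).inv Polynomial.X)) = φ Polynomial.X := by
      intro φ
      have e := congrArg (fun θ => (ConcreteCategory.hom θ) Polynomial.X) (Scheme.ΓSpecIso_inv_naturality φ)
      rw [Scheme.toSpecΓ_appTop]
      exact (congrArg _ e.symm).trans (Iso.inv_hom_id_apply (Scheme.ΓSpecIso Γ(Q.left, ⊤)) _)
    rw [hn, hn] at this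
    simpa using this
  let I := Ideal.span s
  suffices ∀ y ∈ Ideal.span (q' '' s), ∀ e : A, ∃ c ∈ I, q' c = avg ψ β (e * y) by
    obtain ⟨c, hc, hc1⟩ := this 1 (htop.symm ▸ Submodule.mem_top) 1
    rw [_root_.one_mul, avg_one ψ β hβ1, ← map_one q'] at hc1
    exact (Ideal.eq_top_iff_one _).mpr (hinj hc1 ▸ hc)
  intro y hy
  induction hy using Submodule.span_induction with
  | mem x hx =>
    obtain ⟨g, hg, rfl⟩ := hx
    intro e
    obtain ⟨e', he'⟩ := exists_fn ψ q hq (ρ₁_avg ψ β hβ e)
    refine ⟨e' * g, Ideal.mul_mem_left _ _ (Ideal.subset_span hg), ?_⟩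
    rw [map_mul, avg_mul ψ β e (f := q' g), show q' e' = avg ψ β e from he']
    -- functions from the quotient are invariant
    have h : (fst (AffineHopf.sp k A) (AffineHopf.sp k B)) ≫ q =
        ((AffineHopf.sp k A ◁ AffineHopf.spMap (ψ : A →ₐ[k] B)) ≫ μ[AffineHopf.sp k A]) ≫ q := hq.2.2.2.w
    let iL : A →ₐ[k] A ⊗[k] B := Algebra.TensorProduct.includeLeft
    let iR : B →ₐ[k] A ⊗[k] B := Algebra.TensorProduct.includeRight
    have h2 := congrArg (fun r => lift (AffineHopf.spMap iL) (AffineHopf.spMap iR) ≫ r) h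
    simp only [← Category.assoc] at h2
    rw [lift_fst, lift_whiskerLeft, ← Hom.mul_def, AffineHopf.spMap_comp, AffineHopf.spMap_mul] at h2
    have key : ∀ φ : A →ₐ[k] A ⊗[k] B, (AffineHopf.spMap φ ≫ q).left.appTop g =
        (Scheme.ΓSpecIso (CommRingCat.of (A ⊗[k] B))).inv (φ (q' g)) := by
      intro φ
      rw [Over.comp_left, GmPts.appTop_comp_apply]
      have e := congrArg (fun θ => (ConcreteCategory.hom θ) (q' g))
        (Scheme.ΓSpecIso_inv_naturality (CommRingCat.ofHom φ.toRingHom))
      refine Eq.trans ?_ e.symm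
      show _ = (Spec.map (CommRingCat.ofHom φ.toRingHom)).appTop
        ((Scheme.ΓSpecIso (CommRingCat.of A)).inv ((Scheme.ΓSpecIso (CommRingCat.of A)).hom (q.left.appTop g)))
      rw [Iso.hom_inv_id_apply]
      rfl
    have h3 := congrArg (fun r => r.left.appTop g) h2
    simp only [key] at h3
    have h4 := (Scheme.ΓSpecIso (CommRingCat.of (A ⊗[k] B))).symm.commRingCatIsoToRingEquiv.injective h3
    rw [ρ₁_eq, WithConv.ofConv_toConv] at h4
    exact h4.symm
  | zero => exact fun e => ⟨0, zero_mem _, by simp⟩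
  | add x y _ _ hx hy =>
    intro e
    obtain ⟨c, hc, hc'⟩ := hx e
    obtain ⟨d, hd, hd'⟩ := hy e
    exact ⟨c + d, add_mem hc hd, by rw [map_add, hc', hd', mul_add, map_add]⟩
  | smul r x _ hx =>
    intro e
    obtain ⟨c, hc, hc'⟩ := hx (e * r)
    exact ⟨c, hc, by rw [hc', smul_eq_mul, _root_.mul_assoc]⟩

end Groth.Agent.AlgGrpQ.ReductiveQuot
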