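import Groth.Agent.ComodLib.Trig
import Mathlib.RingTheory.HopfAlgebra.TensorProduct
import Mathlib.RingTheory.Flat.Basic
import Mathlib.RingTheory.DiscreteValuationRing.Basic
import Mathlib.RingTheory.LocalRing.ResidueField.Basic
import Mathlib.RingTheory.Localization.FractionRing
import Mathlib.RingTheory.Valuation.ValuationRing
import Mathlib.LinearAlgebra.TensorProduct.RightExactness

/-!
# Unipotence and trigonalizability pass to the special fibre

A subcomodule of the coordinate ring of the generic fibre meets the integral coordinate ring in a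
pure submodule, whose reduction is a subcomodule of the coordinate ring of the special fibre.
-/

set_option linter.style.haveILetI false

universe u

open TensorProduct

namespace Groth.Agent.AlgGrpQ.SpecialFibre

section Pair

variable (A : Type u) [CommRing A] (S : Type u) [CommRing S] [Algebra A S]
  (H : Type u) [CommRing H] [HopfAlgebra A H]

/-- `x ↦ 1 ⊗ x`. -/
noncomputable def incl : H →ₗ[A] S ⊗[A] H := TensorProduct.mk A S H 1

@[simp] theorem incl_apply (x : H) : incl A S H x = (1 : S) ⊗ₜ[A] x := rfl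

/-- `x ⊗ y ↦ (1 ⊗ x) ⊗ (1 ⊗ y)`. -/
noncomputable def inclPair : H ⊗[A] H →ₗ[A] (S ⊗[A] H) ⊗[S] (S ⊗[A] H) :=
  TensorProduct.lift (LinearMap.mk₂ A (fun x y => incl A S H x ⊗ₜ[S] incl A S H y)
    (fun x x' y => by rw [map_add, add_tmul])
    (fun r x y => by rw [map_smul, smul_tmul'])
    (fun x y y' => by rw [map_add, tmul_add])
    (fun r x y => by rw [map_smul, ← algebraMap_smul S r (incl A S H y), tmul_smul, algebraMap_smul]))

@[simp] theorem inclPair_tmul (x y : H) :
    inclPair A S H (x ⊗ₜ[A] y) = ((1 : S) ⊗ₜ[A] x) ⊗ₜ[S] ((1 : S) ⊗ₜ[A] y) := rfl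

theorem comul_incl (x : H) :
    Coalgebra.comul (R := S) (incl A S H x) = inclPair A S H (Coalgebra.comul (R := A) x) := by
  rw [incl_apply, TensorProduct.comul_tmul, CommSemiring.comul_apply]
  induction Coalgebra.comul (R := A) x using TensorProduct.induction_on with
  | zero => simp
  | tmul a b => simp
  | add p q hp hq => simp only [map_add, tmul_add, hp, hq]

end Pair

section Lat

variable (A : Type u) [CommRing A] [IsDomain A] (K : Type u) [Field K] [Algebra A K] [IsFractionRing A K]
  (H : Type u) [CommRing H] [HopfAlgebra A H] [Module.Flat A H]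

/-- The integral elements of a subspace of the generic fibre. -/
noncomputable def lat (C : Submodule K (K ⊗[A] H)) : Submodule A H :=
  (C.restrictScalars A).comap (incl A K H)

variable {A K H}

theorem mem_lat {C : Submodule K (K ⊗[A] H)} {x : H} : x ∈ lat A K H C ↔ incl A K H x ∈ C := Iff.rfl

theorem lat_bot : lat A K H ⊥ = ⊥ := by
  refine eq_bot_iff.mpr fun x hx => ?_
  have h0 : (LinearMap.rTensor H (Algebra.linearMap A K)) ((1 : A) ⊗ₜ[A] x) = 0 := by
    rw [LinearMap.rTensor_tmul, Algebra.linearMap_apply, map_one]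
    exact (Submodule.mem_bot K).mp hx
  have h1 := (map_eq_zero_iff _ (Module.Flat.rTensor_preserves_injective_linearMap _
    (IsFractionRing.injective A K))).mp h0
  simpa using congrArg (TensorProduct.lid A H) h1

/-- A tensor whose first legs lie in a subspace over `K` has integral first legs. -/
theorem mem_lat_tensor (C : Submodule K (K ⊗[A] H)) {z : H ⊗[A] H}
    (hz : inclPair A K H z ∈ LinearMap.range (C.subtype.rTensor (K ⊗[A] H))) :
    z ∈ LinearMap.range ((lat A K H C).subtype.rTensor H) := by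
  let q : (H ⧸ lat A K H C) →ₗ[A] (K ⊗[A] H) ⧸ C :=
    (lat A K H C).liftQ ((C.mkQ.restrictScalars A) ∘ₗ incl A K H) (fun x hx =>
      (Submodule.Quotient.mk_eq_zero C).mpr (mem_lat.mp hx))
  have hq : Function.Injective q := by
    rw [injective_iff_map_eq_zero]
    intro y hy
    obtain ⟨x, rfl⟩ := Submodule.mkQ_surjective _ y
    exact (Submodule.Quotient.mk_eq_zero _).mpr (mem_lat.mpr ((Submodule.Quotient.mk_eq_zero C).mp hy))
  let e := AlgebraTensorModule.cancelBaseChange A K K ((K ⊗[A] H) ⧸ C) H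
  have key : ∀ w : H ⊗[A] H, e (C.mkQ.rTensor (K ⊗[A] H) (inclPair A K H w)) =
      q.rTensor H ((lat A K H C).mkQ.rTensor H w) := fun w => by
    induction w using TensorProduct.induction_on with
    | zero => simp
    | tmul a b =>
      simp only [e, q, inclPair_tmul, LinearMap.rTensor_tmul, Submodule.mkQ_apply]
      rw [AlgebraTensorModule.cancelBaseChange_tmul, one_smul]
      rfl
    | add p r hp hr => simp only [map_add, hp, hr]
  obtain ⟨w, hw⟩ := hz
  have h0 : C.mkQ.rTensor (K ⊗[A] H) (inclPair A K H z) = 0 := by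
    rw [← hw, ← LinearMap.comp_apply, ← LinearMap.rTensor_comp,
      show C.mkQ ∘ₗ C.subtype = 0 from LinearMap.ext fun c => (Submodule.Quotient.mk_eq_zero C).mpr c.2]
    simp
  have h1 := key z
  rw [h0, map_zero, eq_comm,
    map_eq_zero_iff _ (Module.Flat.rTensor_preserves_injective_linearMap q hq)] at h1
  exact ((rTensor_exact H (LinearMap.exact_subtype_mkQ _) (Submodule.mkQ_surjective _)) z).mp h1

end Lat

section Red

variable (A : Type u) [CommRing A] [IsDomain A] [IsLocalRing A]
  (K : Type u) [Field K] [Algebra A K] [IsFractionRing A K]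
  (H : Type u) [CommRing H] [HopfAlgebra A H] [Module.Flat A H]


/-- The reduction of the integral elements of a subspace of the generic fibre. -/
noncomputable def red (C : Submodule K (K ⊗[A] H)) : Submodule (IsLocalRing.ResidueField A) ((IsLocalRing.ResidueField A) ⊗[A] H) :=
  Submodule.span (IsLocalRing.ResidueField A) (incl A (IsLocalRing.ResidueField A) H '' (lat A K H C : Set H))

variable {A K H}

theorem incl_surjective : Function.Surjective (incl A (IsLocalRing.ResidueField A) H) := by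
  intro x
  induction x using TensorProduct.induction_on with
  | zero => exact ⟨0, map_zero _⟩
  | tmul r h =>
    obtain ⟨a, rfl⟩ := Ideal.Quotient.mk_surjective r
    refine ⟨a • h, ?_⟩
    rw [map_smul, incl_apply, smul_tmul', Algebra.smul_def, mul_one]
    rfl
  | add p q hp hq =>
    obtain ⟨a, rfl⟩ := hp
    obtain ⟨b, rfl⟩ := hq
    exact ⟨a + b, map_add _ _ _⟩

theorem mem_red {C : Submodule K (K ⊗[A] H)} {u : (IsLocalRing.ResidueField A) ⊗[A] H} :
    u ∈ red A K H C ↔ ∃ x ∈ lat A K H C, incl A (IsLocalRing.ResidueField A) H x = u := by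
  refine ⟨fun hu => ?_, fun ⟨x, hx, e⟩ => Submodule.subset_span ⟨x, hx, e⟩⟩
  induction hu using Submodule.span_induction with
  | mem u hu => exact hu
  | zero => exact ⟨0, Submodule.zero_mem _, map_zero _⟩
  | add u v _ _ hu hv =>
    obtain ⟨x, hx, rfl⟩ := hu
    obtain ⟨y, hy, rfl⟩ := hv
    exact ⟨x + y, Submodule.add_mem _ hx hy, map_add _ _ _⟩
  | smul r u _ hu =>
    obtain ⟨x, hx, rfl⟩ := hu
    obtain ⟨a, rfl⟩ := Ideal.Quotient.mk_surjective r
    exact ⟨a • x, Submodule.smul_mem _ a hx, (map_smul _ a x).trans (algebraMap_smul (IsLocalRing.ResidueField A) a _).symm⟩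

theorem red_bot : red A K H ⊥ = ⊥ := by
  refine eq_bot_iff.mpr fun u hu => ?_
  obtain ⟨x, hx, rfl⟩ := mem_red.mp hu
  rw [lat_bot, Submodule.mem_bot] at hx
  rw [hx, map_zero]
  exact Submodule.zero_mem _

theorem inclPair_mem_red {C : Submodule K (K ⊗[A] H)} {z : H ⊗[A] H}
    (hz : z ∈ LinearMap.range ((lat A K H C).subtype.rTensor H)) :
    inclPair A (IsLocalRing.ResidueField A) H z ∈ LinearMap.range ((red A K H C).subtype.rTensor ((IsLocalRing.ResidueField A) ⊗[A] H)) := by
  obtain ⟨w, rfl⟩ := hz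
  induction w using TensorProduct.induction_on with
  | zero => simp
  | add p q hp hq => simpa only [map_add] using Submodule.add_mem _ hp hq
  | tmul l h =>
    rw [LinearMap.rTensor_tmul, inclPair_tmul]
    exact ⟨(⟨incl A (IsLocalRing.ResidueField A) H l, mem_red.mpr ⟨l, l.2, rfl⟩⟩ : red A K H C) ⊗ₜ[(IsLocalRing.ResidueField A)] ((1 : (IsLocalRing.ResidueField A)) ⊗ₜ[A] h), rfl⟩

theorem isSubcomod_red {C : Submodule K (K ⊗[A] H)}
    (hC : HopfRep.IsSubcomod (k := K) (A := K ⊗[A] H) C) :
    HopfRep.IsSubcomod (k := (IsLocalRing.ResidueField A)) (A := (IsLocalRing.ResidueField A) ⊗[A] H) (red A K H C) := by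
  intro u hu
  obtain ⟨x, hx, rfl⟩ := mem_red.mp hu
  show Coalgebra.comul (R := (IsLocalRing.ResidueField A)) _ ∈ _
  rw [comul_incl]
  refine inclPair_mem_red (mem_lat_tensor C ?_)
  rw [← comul_incl]
  exact hC _ hx

/-- A unipotent step specialises to a unipotent step. -/
theorem red_step {C' C : Submodule K (K ⊗[A] H)}
    (h : ∀ c ∈ C, Coalgebra.comul (R := K) c - c ⊗ₜ[K] (1 : K ⊗[A] H) ∈
      LinearMap.range (C'.subtype.rTensor (K ⊗[A] H)))
    {u : (IsLocalRing.ResidueField A) ⊗[A] H} (hu : u ∈ red A K H C) :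
    Coalgebra.comul (R := (IsLocalRing.ResidueField A)) u - u ⊗ₜ[(IsLocalRing.ResidueField A)] (1 : (IsLocalRing.ResidueField A) ⊗[A] H) ∈
      LinearMap.range ((red A K H C').subtype.rTensor ((IsLocalRing.ResidueField A) ⊗[A] H)) := by
  obtain ⟨x, hx, rfl⟩ := mem_red.mp hu
  have e : ∀ (S : Type u) [CommRing S] [Algebra A S], Coalgebra.comul (R := S) (incl A S H x) -
      incl A S H x ⊗ₜ[S] (1 : S ⊗[A] H) = inclPair A S H (Coalgebra.comul (R := A) x - x ⊗ₜ[A] 1) :=
    fun S _ _ => by rw [map_sub, comul_incl, inclPair_tmul, ← Algebra.TensorProduct.one_def]; rfl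
  rw [e]
  refine inclPair_mem_red (mem_lat_tensor C' ?_)
  rw [← e]
  exact h _ hx

/-- A step of dimension one specialises to a step of dimension at most one. -/
theorem red_dep [ValuationRing A] {C' C : Submodule K (K ⊗[A] H)}
    (h : ∀ c ∈ C, ∀ d ∈ C, ∃ α β : K, (α ≠ 0 ∨ β ≠ 0) ∧ α • c + β • d ∈ C')
    {u w : (IsLocalRing.ResidueField A) ⊗[A] H} (hu : u ∈ red A K H C) (hw : w ∈ red A K H C) :
    ∃ a b : (IsLocalRing.ResidueField A), (a ≠ 0 ∨ b ≠ 0) ∧ a • u + b • w ∈ red A K H C' := by
  obtain ⟨x, hx, rfl⟩ := mem_red.mp hu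
  obtain ⟨y, hy, rfl⟩ := mem_red.mp hw
  obtain ⟨α, β, hne, hαβ⟩ := h _ hx _ hy
  have key : ∀ (x y : H) (α β : K), α ≠ 0 → α • incl A K H x + β • incl A K H y ∈ C' →
      ∀ a : A, algebraMap A K a = α⁻¹ * β →
      (1 : (IsLocalRing.ResidueField A)) • incl A (IsLocalRing.ResidueField A) H x + (IsLocalRing.residue A a) • incl A (IsLocalRing.ResidueField A) H y ∈ red A K H C' := by
    intro x y α β hα hm a ha
    refine mem_red.mpr ⟨x + a • y, ?_, ?_⟩
    · rw [mem_lat, map_add, map_smul, ← algebraMap_smul K a (incl A K H y), ha]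
      have := C'.smul_mem α⁻¹ hm
      rwa [smul_add, smul_smul, smul_smul, inv_mul_cancel₀ hα, one_smul] at this
    · rw [map_add, map_smul, one_smul, ← algebraMap_smul (IsLocalRing.ResidueField A) a (incl A (IsLocalRing.ResidueField A) H y)]
      rfl
  rcases eq_or_ne α 0 with hα | hα
  · have hβ : β ≠ 0 := hne.resolve_left (not_not_intro hα)
    rw [add_comm] at hαβ
    refine ⟨IsLocalRing.residue A 0, 1, Or.inr one_ne_zero, ?_⟩
    rw [add_comm]
    exact key y x β α hβ hαβ 0 (by simp [hα])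
  · rcases eq_or_ne β 0 with hβ | hβ
    · exact ⟨1, IsLocalRing.residue A 0, Or.inl one_ne_zero, key x y α β hα hαβ 0 (by simp [hβ])⟩
    · rcases ValuationRing.isInteger_or_isInteger A (α⁻¹ * β) with ⟨a, ha⟩ | ⟨a, ha⟩
      · exact ⟨1, _, Or.inl one_ne_zero, key x y α β hα hαβ a ha⟩
      · rw [mul_inv_rev, inv_inv] at ha
        rw [add_comm] at hαβ
        refine ⟨IsLocalRing.residue A a, 1, Or.inr one_ne_zero, ?_⟩
        rw [add_comm]
        exact key y x β α hβ hαβ a ha

variable {V : Type u} [AddCommGroup V] [Module (IsLocalRing.ResidueField A) V] [HopfRep.Comod (IsLocalRing.ResidueField A) ((IsLocalRing.ResidueField A) ⊗[A] H) V]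

/-- The matrix coefficient map of a linear form, into the regular comodule. -/
noncomputable def coef (φ : V →ₗ[(IsLocalRing.ResidueField A)] (IsLocalRing.ResidueField A)) : V →ₗ[(IsLocalRing.ResidueField A)] (IsLocalRing.ResidueField A) ⊗[A] H :=
  (TensorProduct.lid (IsLocalRing.ResidueField A) ((IsLocalRing.ResidueField A) ⊗[A] H)).toLinearMap ∘ₗ φ.rTensor ((IsLocalRing.ResidueField A) ⊗[A] H) ∘ₗ
    HopfRep.Comod.coact (k := (IsLocalRing.ResidueField A)) (A := (IsLocalRing.ResidueField A) ⊗[A] H)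

omit [IsDomain A] [Module.Flat A H] in
theorem isComodHom_coef (φ : V →ₗ[(IsLocalRing.ResidueField A)] (IsLocalRing.ResidueField A)) : Hoch.IsComodHom ((IsLocalRing.ResidueField A) ⊗[A] H) (coef (H := H) φ) := by
  refine LinearMap.ext fun v => ?_
  show Coalgebra.comul (R := (IsLocalRing.ResidueField A)) (coef (H := H) φ v) = (coef (H := H) φ).rTensor _ (HopfRep.Comod.coact v)
  have hc := LinearMap.congr_fun
    (HopfRep.Comod.coassoc (k := (IsLocalRing.ResidueField A)) (A := (IsLocalRing.ResidueField A) ⊗[A] H) (V := V)) v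
  simp only [LinearMap.comp_apply, LinearEquiv.coe_coe] at hc
  have e1 : ∀ z : V ⊗[(IsLocalRing.ResidueField A)] ((IsLocalRing.ResidueField A) ⊗[A] H),
      Coalgebra.comul (R := (IsLocalRing.ResidueField A)) (TensorProduct.lid (IsLocalRing.ResidueField A) ((IsLocalRing.ResidueField A) ⊗[A] H) (φ.rTensor _ z)) =
        TensorProduct.lid (IsLocalRing.ResidueField A) _ (φ.rTensor _ ((Coalgebra.comul (R := (IsLocalRing.ResidueField A)) (A := (IsLocalRing.ResidueField A) ⊗[A] H)).lTensor V z)) := by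
    intro z
    induction z using TensorProduct.induction_on with
    | zero => simp
    | tmul a b => simp
    | add p q hp hq => simp only [map_add, hp, hq]
  rw [show coef φ v = TensorProduct.lid (IsLocalRing.ResidueField A) _ (φ.rTensor _ (HopfRep.Comod.coact v)) from rfl, e1, ← hc]
  rw [coef, LinearMap.rTensor_comp, LinearMap.rTensor_comp]
  simp only [LinearMap.comp_apply]
  induction LinearMap.rTensor ((IsLocalRing.ResidueField A) ⊗[A] H) (HopfRep.Comod.coact (k := (IsLocalRing.ResidueField A)) (A := (IsLocalRing.ResidueField A) ⊗[A] H))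
      (HopfRep.Comod.coact (k := (IsLocalRing.ResidueField A)) (A := (IsLocalRing.ResidueField A) ⊗[A] H) v) using TensorProduct.induction_on with
  | zero => simp
  | tmul a b =>
    induction a using TensorProduct.induction_on with
    | zero => simp
    | tmul x y => simp [TensorProduct.smul_tmul']
    | add p q hp hq => simp only [add_tmul, map_add, hp, hq]
  | add p q hp hq => simp only [map_add, hp, hq]

omit [IsDomain A] [Module.Flat A H] in
theorem counit_coef (φ : V →ₗ[(IsLocalRing.ResidueField A)] (IsLocalRing.ResidueField A)) (v : V) :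
    Coalgebra.counit (R := (IsLocalRing.ResidueField A)) (coef (H := H) φ v) = φ v := by
  have h := LinearMap.congr_fun
    (HopfRep.Comod.counit_comp (k := (IsLocalRing.ResidueField A)) (A := (IsLocalRing.ResidueField A) ⊗[A] H) (V := V)) v
  simp only [LinearMap.comp_apply, LinearMap.flip_apply, TensorProduct.mk_apply] at h
  have e : ∀ z : V ⊗[(IsLocalRing.ResidueField A)] ((IsLocalRing.ResidueField A) ⊗[A] H),
      Coalgebra.counit (R := (IsLocalRing.ResidueField A)) (TensorProduct.lid (IsLocalRing.ResidueField A) ((IsLocalRing.ResidueField A) ⊗[A] H) (φ.rTensor _ z)) =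
        φ (TensorProduct.rid (IsLocalRing.ResidueField A) V ((Coalgebra.counit (R := (IsLocalRing.ResidueField A)) (A := (IsLocalRing.ResidueField A) ⊗[A] H)).lTensor V z)) := by
    intro z
    induction z using TensorProduct.induction_on with
    | zero => simp
    | tmul a b => simp [mul_comm]
    | add p q hp hq => simp only [map_add, hp, hq]
  rw [show coef φ v = TensorProduct.lid (IsLocalRing.ResidueField A) _ (φ.rTensor _ (HopfRep.Comod.coact v)) from rfl, e, h,
    TensorProduct.rid_tmul, one_smul]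

/-- A simple comodule of the special fibre embeds in the regular comodule. -/
theorem exists_embedding (hV : HopfRep.IsSimpleComod (IsLocalRing.ResidueField A) ((IsLocalRing.ResidueField A) ⊗[A] H) V) :
    ∃ m : V →ₗ[(IsLocalRing.ResidueField A)] (IsLocalRing.ResidueField A) ⊗[A] H, Hoch.IsComodHom ((IsLocalRing.ResidueField A) ⊗[A] H) m ∧ Function.Injective m := by
  obtain ⟨hn, hsimp⟩ := hV
  obtain ⟨v, hv⟩ := exists_ne (0 : V)
  obtain ⟨φ, hφ⟩ : ∃ φ : Module.Dual (IsLocalRing.ResidueField A) V, φ v ≠ 0 := Module.Projective.exists_dual_ne_zero (IsLocalRing.ResidueField A) hv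
  refine ⟨coef φ, isComodHom_coef φ, LinearMap.ker_eq_bot.mp ((hsimp _ (ComodLib.isSubcomod_ker
    (isComodHom_coef φ))).resolve_right fun h => hφ ?_)⟩
  have h' : v ∈ LinearMap.ker (coef φ) := h ▸ Submodule.mem_top
  rw [← counit_coef (H := H) φ v, LinearMap.mem_ker.mp h', map_zero]

/-- The image of a finite comodule of the special fibre lies in the reduction of a finite subcomodule
of the generic fibre. -/
theorem exists_red_ge [Module.Finite (IsLocalRing.ResidueField A) V] (m : V →ₗ[(IsLocalRing.ResidueField A)] (IsLocalRing.ResidueField A) ⊗[A] H) :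
    ∃ C : Submodule K (K ⊗[A] H), Module.Finite K C ∧
      HopfRep.IsSubcomod (k := K) (A := K ⊗[A] H) C ∧ LinearMap.range m ≤ red A K H C := by
  classical
  obtain ⟨s, hs⟩ := (Module.Finite.fg_top (R := (IsLocalRing.ResidueField A)) (M := V))
  choose g hg using fun v : V => incl_surjective (A := A) (H := H) (m v)
  obtain ⟨C, hCf, hCs, hC⟩ := ComodLib.exists_finite_subcomod_le (k := K) (C := K ⊗[A] H)
    (s := (fun v : V => incl A K H (g v)) '' (s : Set V)) (s.finite_toSet.image _)
  refine ⟨C, hCf, hC, ?_⟩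
  rw [LinearMap.range_eq_map, ← hs, Submodule.map_span, Submodule.span_le]
  rintro _ ⟨v, hv, rfl⟩
  exact mem_red.mpr ⟨g v, mem_lat.mpr (hCs ⟨v, hv, rfl⟩), hg v⟩

theorem eq_zero_of_mem_red_inter {G : Submodule (IsLocalRing.ResidueField A) ((IsLocalRing.ResidueField A) ⊗[A] H)} {W : Submodule (IsLocalRing.ResidueField A) ((IsLocalRing.ResidueField A) ⊗[A] H)}
    (h : G ⊓ W = ⊥) {z : ((IsLocalRing.ResidueField A) ⊗[A] H) ⊗[(IsLocalRing.ResidueField A)] ((IsLocalRing.ResidueField A) ⊗[A] H)}
    (hG : z ∈ LinearMap.range (G.subtype.rTensor ((IsLocalRing.ResidueField A) ⊗[A] H)))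
    (hW : z ∈ LinearMap.range (W.subtype.rTensor ((IsLocalRing.ResidueField A) ⊗[A] H))) : z = 0 := by
  rw [ComodLib.mem_range_rTensor_subtype_iff] at hG hW
  refine ComodLib.eq_zero_of_forall_slice_eq_zero fun φ => ?_
  have := Submodule.mem_inf.mpr ⟨hG φ, hW φ⟩
  rwa [h, Submodule.mem_bot] at this

end Red

section Main

variable {A : Type u} [CommRing A] [IsDomain A] [IsLocalRing A]
  {K : Type u} [Field K] [Algebra A K] [IsFractionRing A K]
  {H : Type u} [CommRing H] [HopfAlgebra A H] [Module.Flat A H]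

open scoped Classical in
/-- The generic fibre being unipotent, so is the special fibre. -/
theorem isUnipotent_special (hK : HopfRep.IsUnipotent K (K ⊗[A] H)) :
    HopfRep.IsUnipotent (IsLocalRing.ResidueField A) (IsLocalRing.ResidueField A ⊗[A] H) := by
  intro V _ _ c hfin hnt
  obtain ⟨S, -, hSf, hS, hS0, hmin⟩ := ComodLib.exists_simple_le (k := IsLocalRing.ResidueField A)
    (C := IsLocalRing.ResidueField A ⊗[A] H) (V := V) ComodLib.isSubcomod_top top_ne_bot
  letI := ComodSub.Comod.restr c S hS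
  obtain ⟨m, hm, hinj⟩ := exists_embedding (ComodLib.isSimpleComod_restr hS hS0 hmin)
  obtain ⟨C, hCf, hC, hmC⟩ := exists_red_ge (K := K) m
  letI := ComodSub.Comod.restr (HopfRep.Comod.regular K (K ⊗[A] H)) C hC
  obtain ⟨n, F, -, h0, htop, -, hstep⟩ := ComodLib.isUnipotent_iff_filtration.mp hK C inferInstance
  let G : ℕ → Submodule K (K ⊗[A] H) := fun i => (F i).map C.subtype
  have hG : ∀ i, ∀ x ∈ G (i + 1), Coalgebra.comul (R := K) x - x ⊗ₜ[K] (1 : K ⊗[A] H) ∈
      LinearMap.range ((G i).subtype.rTensor (K ⊗[A] H)) := by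
    rintro i _ ⟨v, hv, rfl⟩
    have e : Coalgebra.comul (R := K) (C.subtype v) - C.subtype v ⊗ₜ[K] (1 : K ⊗[A] H) =
        C.subtype.rTensor _ (HopfRep.Comod.coact (k := K) (A := K ⊗[A] H) v - v ⊗ₜ[K] 1) := by
      rw [map_sub, LinearMap.rTensor_tmul]
      exact congrArg (· - _) (ComodSub.restr_coact_coe (HopfRep.Comod.regular K (K ⊗[A] H)) C hC v).symm
    rw [e, ComodLib.mem_range_rTensor_subtype_iff]
    intro φ
    rw [ComodLib.slice_rTensor]
    exact Submodule.mem_map_of_mem ((ComodLib.mem_range_rTensor_subtype_iff _ _).mp (hstep i v hv) φ)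
  have hex : ∃ i, red A K H (G i) ⊓ LinearMap.range m ≠ ⊥ := by
    refine ⟨n, ?_⟩
    rw [show G n = C from by simp only [G, htop, Submodule.map_top, Submodule.range_subtype],
      inf_eq_right.mpr hmC]
    haveI : Nontrivial S := Submodule.nontrivial_iff_ne_bot.mpr hS0
    obtain ⟨s, hs⟩ := exists_ne (0 : S)
    exact (Submodule.ne_bot_iff _).mpr ⟨m s, ⟨s, rfl⟩, (map_ne_zero_iff m hinj).mpr hs⟩
  obtain ⟨i, hi⟩ := Nat.exists_eq_succ_of_ne_zero (n := Nat.find hex) fun h => Nat.find_spec hex (by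
    rw [h, show G 0 = ⊥ from by simp only [G, h0, Submodule.map_bot], red_bot, bot_inf_eq])
  obtain ⟨u, hu, hu0⟩ := Submodule.exists_mem_ne_zero_of_ne_bot (Nat.find_spec hex)
  rw [hi] at hu
  have hW : HopfRep.IsSubcomod (k := IsLocalRing.ResidueField A)
      (A := IsLocalRing.ResidueField A ⊗[A] H) (LinearMap.range m) := ComodLib.isSubcomod_range hm
  have hfix := eq_zero_of_mem_red_inter (not_not.mp (Nat.find_min hex (m := i) (by omega)))
    (red_step (hG i) hu.1) (Submodule.sub_mem _ (hW u hu.2) ⟨(⟨u, hu.2⟩ : LinearMap.range m) ⊗ₜ 1, rfl⟩)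
  obtain ⟨v, rfl⟩ := hu.2
  rw [sub_eq_zero] at hfix
  have hv : HopfRep.Comod.coact (k := IsLocalRing.ResidueField A)
      (A := IsLocalRing.ResidueField A ⊗[A] H) v = v ⊗ₜ 1 :=
    Module.Flat.rTensor_preserves_injective_linearMap m hinj
      ((LinearMap.congr_fun hm v).symm.trans hfix)
  refine (Submodule.ne_bot_iff _).mpr ⟨(v : V), ?_, fun h => hu0 ?_⟩
  · show HopfRep.Comod.coact (k := IsLocalRing.ResidueField A)
      (A := IsLocalRing.ResidueField A ⊗[A] H) (v : V) = _
    exact (ComodSub.restr_coact_coe c S hS v).symm.trans (congrArg _ hv)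
  · rw [show v = 0 from Subtype.ext h, map_zero]

open scoped Classical in
/-- The generic fibre being trigonalizable, so is the special fibre. -/
theorem isTrigonalizable_special [ValuationRing A] (hK : HopfRep.IsTrigonalizable K (K ⊗[A] H)) :
    HopfRep.IsTrigonalizable (IsLocalRing.ResidueField A) (IsLocalRing.ResidueField A ⊗[A] H) := by
  intro V _ _ c hfin hV
  obtain ⟨m, hm, hinj⟩ := exists_embedding hV
  obtain ⟨C, hCf, hC, hmC⟩ := exists_red_ge (K := K) m
  letI := ComodSub.Comod.restr (HopfRep.Comod.regular K (K ⊗[A] H)) C hC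
  obtain ⟨F, hmono, hsub, htop, hrank⟩ := ComodLib.exists_flag hK C
  let G : ℕ → Submodule K (K ⊗[A] H) := fun i => (F i).map C.subtype
  have hGs : ∀ i, HopfRep.IsSubcomod (k := K) (A := K ⊗[A] H) (G i) := fun i =>
    ComodLib.isSubcomod_map (C := K ⊗[A] H)
      (ComodSub.isComodHom_subtype (HopfRep.Comod.regular K (K ⊗[A] H)) C hC) (hsub i)
  haveI := hV.1
  obtain ⟨v₀, hv₀⟩ := exists_ne (0 : V)
  have hex : ∃ i, i ≤ Module.finrank K C ∧ red A K H (G i) ⊓ LinearMap.range m ≠ ⊥ := by
    refine ⟨_, le_rfl, ?_⟩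
    rw [show G _ = C from by simp only [G, htop, Submodule.map_top, Submodule.range_subtype],
      inf_eq_right.mpr hmC]
    exact (Submodule.ne_bot_iff _).mpr ⟨m v₀, ⟨v₀, rfl⟩, (map_ne_zero_iff m hinj).mpr hv₀⟩
  obtain ⟨i, hi⟩ := Nat.exists_eq_succ_of_ne_zero (n := Nat.find hex) fun h => (Nat.find_spec hex).2 (by
    have h0 : F 0 = ⊥ := Submodule.finrank_eq_zero.mp (hrank 0 (Nat.zero_le _))
    rw [h, show G 0 = ⊥ from by simp only [G, h0, Submodule.map_bot], red_bot, bot_inf_eq])
  have hle : i + 1 ≤ Module.finrank K C := by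
    have := (Nat.find_spec hex).1
    omega
  have hbot : red A K H (G i) ⊓ LinearMap.range m = ⊥ := by
    by_contra h
    exact Nat.find_min hex (m := i) (by omega) ⟨by omega, h⟩
  have hall : LinearMap.range m ≤ red A K H (G (i + 1)) := by
    have hne : red A K H (G (i + 1)) ⊓ LinearMap.range m ≠ ⊥ := by
      have := (Nat.find_spec hex).2
      rwa [hi] at this
    rcases hV.2 _ (ComodLib.isSubcomod_comap hm (isSubcomod_red (hGs (i + 1)))) with h | h
    · refine absurd (eq_bot_iff.mpr ?_) hne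
      rintro _ ⟨hr, w, rfl⟩
      rw [show w = 0 from (Submodule.mem_bot _).mp (h ▸ Submodule.mem_comap.mpr hr), map_zero]
      exact Submodule.zero_mem _
    · rintro _ ⟨w, rfl⟩
      exact Submodule.mem_comap.mp (h ▸ Submodule.mem_top (x := w))
  have hdep : ∀ x ∈ G (i + 1), ∀ y ∈ G (i + 1), ∃ α β : K, (α ≠ 0 ∨ β ≠ 0) ∧ α • x + β • y ∈ G i := by
    rintro _ ⟨x, hx, rfl⟩ _ ⟨y, hy, rfl⟩
    by_cases hxi : x ∈ F i
    · refine ⟨1, 0, Or.inl one_ne_zero, ?_⟩
      rw [one_smul, zero_smul, add_zero]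
      exact Submodule.mem_map_of_mem hxi
    have hs : F i ⊔ K ∙ x = F (i + 1) := by
      refine Submodule.eq_of_le_of_finrank_le
        (sup_le (hmono (Nat.le_succ i)) ((Submodule.span_singleton_le_iff_mem _ _).mpr hx)) ?_
      have hlt : F i < F i ⊔ K ∙ x := lt_of_le_of_ne le_sup_left fun e =>
        hxi (e ▸ Submodule.mem_sup_right (Submodule.mem_span_singleton_self x))
      have := Submodule.finrank_lt_finrank_of_lt hlt
      rw [hrank i (by omega)] at this
      rw [hrank (i + 1) hle]
      omega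
    rw [← hs] at hy
    obtain ⟨f, hf, z, hz, rfl⟩ := Submodule.mem_sup.mp hy
    obtain ⟨t, rfl⟩ := Submodule.mem_span_singleton.mp hz
    refine ⟨-t, 1, Or.inr one_ne_zero, ?_⟩
    have : -t • C.subtype x + (1 : K) • C.subtype (f + t • x) = C.subtype f := by
      rw [map_add, map_smul, one_smul, neg_smul]
      abel
    rw [this]
    exact Submodule.mem_map_of_mem hf
  refine finrank_eq_one v₀ hv₀ fun w => ?_
  obtain ⟨a, b, hne, hab⟩ := red_dep hdep (hall ⟨v₀, rfl⟩) (hall ⟨w, rfl⟩)
  have h0 : a • v₀ + b • w = 0 := by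
    refine hinj ?_
    rw [map_zero]
    refine (Submodule.mem_bot (IsLocalRing.ResidueField A)).mp (hbot ▸ Submodule.mem_inf.mpr ⟨?_, ⟨_, rfl⟩⟩)
    rwa [map_add, map_smul, map_smul]
  have hb : b ≠ 0 := fun hb => by
    rw [hb, zero_smul, add_zero, smul_eq_zero] at h0
    rcases hne with h | h
    · exact h0.elim h hv₀
    · exact h hb
  refine ⟨-(b⁻¹ * a), ?_⟩
  rw [neg_smul, mul_smul, ← smul_neg, eq_neg_of_add_eq_zero_left h0, neg_neg, smul_smul,
    inv_mul_cancel₀ hb, one_smul]

end Main

end Groth.Agent.AlgGrpQ.SpecialFibre
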