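import Groth.Prelude.Def_Red
import Groth.Agent.FlatMisc.GenFlat
import Groth.Agent.GrpSchLib.MonoSubgroup
import Groth.Agent.DSPtsLib.Basic
import Groth.Agent.GrpSchLib.FieldSmooth
import Mathlib.AlgebraicGeometry.Morphisms.SchemeTheoreticallyDominant

/-!
# Closed subgroups of the generic fibre spread out

The closure of a closed subscheme of the generic fibre is flat over a non-empty open; over such an
open it contains the generic fibre as a scheme-theoretically dense subscheme, also after a flat base
change, so the group operations restrict to it.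
-/

open CategoryTheory MonoidalCategory CartesianMonoidalCategory AlgebraicGeometry CategoryTheory.Limits

set_option linter.style.haveILetI false

universe u

namespace Groth.Agent.AlgGrpQ.SpreadSub

variable {X : Scheme.{u}} [IsIntegral X]

/-- The generic point, as a morphism. -/
noncomputable abbrev gen (X : Scheme.{u}) [IsIntegral X] : Spec X.functionField ⟶ X :=
  X.fromSpecStalk (genericPoint X)

theorem genericPoint_mem (U : X.Opens) (hU : (U : Set X).Nonempty) : genericPoint X ∈ U :=
  ((genericPoint_spec X).mem_open_set_iff U.isOpen).mpr (by simpa using hU)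

theorem range_gen_subset (U : X.Opens) (hU : (U : Set X).Nonempty) :
    Set.range (gen X).base ⊆ Set.range U.ι.base := by
  rw [Scheme.range_fromSpecStalk, Scheme.Opens.range_ι]
  intro y (hy : y ⤳ genericPoint X)
  exact hy.mem_open U.isOpen (genericPoint_mem U hU)

/-- The generic point, as a morphism into a non-empty open. -/
noncomputable def genTo (U : X.Opens) (hU : (U : Set X).Nonempty) :
    Spec X.functionField ⟶ (U : Scheme.{u}) :=
  IsOpenImmersion.lift U.ι (gen X) (range_gen_subset U hU)

@[reassoc (attr := simp)]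
theorem genTo_ι (U : X.Opens) (hU : (U : Set X).Nonempty) : genTo U hU ≫ U.ι = gen X :=
  IsOpenImmersion.lift_fac _ _ _

instance mono_genTo (U : X.Opens) (hU : (U : Set X).Nonempty) : Mono (genTo U hU) :=
  have : Mono (genTo U hU ≫ U.ι) := by rw [genTo_ι]; infer_instance
  mono_of_mono _ U.ι

instance flat_genTo (U : X.Opens) (hU : (U : Set X).Nonempty) : Flat (genTo U hU) := by
  refine MorphismProperty.of_isPullback (P := @Flat) (f := U.ι) (g := gen X) (f' := 𝟙 _) ?_
    (GrpSchLib.flat_fromSpecStalk _)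
  refine IsPullback.of_isLimit' ⟨by rw [Category.id_comp, genTo_ι]⟩
    (PullbackCone.IsLimit.mk _ (fun s => s.fst) (fun s => Category.comp_id _) (fun s => ?_)
      fun s m h1 _ => by simpa using h1)
  rw [← cancel_mono U.ι, Category.assoc, genTo_ι]
  exact s.condition

theorem quasiCompact_genTo {U : X.Opens} (hUa : IsAffineOpen U) (hU : (U : Set X).Nonempty) :
    QuasiCompact (genTo U hU) := by
  haveI : IsAffine (U : Scheme.{u}) := hUa
  infer_instance

theorem isDominant_genTo (U : X.Opens) (hU : (U : Set X).Nonempty) : IsDominant (genTo U hU) := by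
  refine ⟨?_⟩
  rw [DenseRange, dense_iff_inter_open]
  intro O hO ⟨z, hz⟩
  refine ⟨(genTo U hU).base (IsLocalRing.closedPoint _), ?_, ⟨_, rfl⟩⟩
  have h1 : U.ι.base ((genTo U hU).base (IsLocalRing.closedPoint _)) = genericPoint X := by
    exact (congrArg (fun f : Spec X.functionField ⟶ X => f.base (IsLocalRing.closedPoint _)) (genTo_ι U hU)).trans
      X.fromSpecStalk_closedPoint
  have h2 : genericPoint X ∈ (U.ι ''ᵁ ⟨O, hO⟩ : X.Opens) := genericPoint_mem _ ⟨_, z, hz, rfl⟩
  obtain ⟨w, hw, hw'⟩ := h2
  rwa [← U.ι.isOpenEmbedding.injective (hw'.trans h1.symm)]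

theorem dominant_genTo {U : X.Opens} (hUa : IsAffineOpen U) (hU : (U : Set X).Nonempty) :
    IsSchemeTheoreticallyDominant (genTo U hU) :=
  haveI := isDominant_genTo U hU
  haveI := quasiCompact_genTo hUa hU
  .of_isDominant _

variable (G : Over X)

/-- A closed subscheme of the generic fibre is the generic fibre of a closed subscheme of `G ×_X U`
which is flat over `U`, for a non-empty affine open `U`. -/
theorem exists_flat_closed_model [IsAffineHom G.hom] [LocallyOfFiniteType G.hom]
    (H : Over (Spec X.functionField)) (i : H ⟶ Red.bc (gen X) G) [IsClosedImmersion i.left] :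
    ∃ (U : X.Opens) (hU : (U : Set X).Nonempty) (HU : Over (U : Scheme.{u}))
      (j : HU ⟶ Red.bc U.ι G) (φ : H.left ⟶ HU.left),
      IsAffineOpen U ∧ Flat HU.hom ∧ QuasiCompact HU.hom ∧ IsClosedImmersion j.left ∧
      IsPullback φ H.hom HU.hom (genTo U hU) ∧
      φ ≫ j.left ≫ pullback.fst G.hom U.ι = i.left ≫ pullback.fst G.hom (gen X) := by
  obtain ⟨U₀, hU₀a, hxU₀, -⟩ :=
    exists_isAffineOpen_mem_and_subset (show genericPoint X ∈ (⊤ : X.Opens) from trivial)
  have hU₀ : (U₀ : Set X).Nonempty := ⟨_, hxU₀⟩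
  haveI : IsAffine (U₀ : Scheme.{u}) := hU₀a
  haveI := quasiCompact_genTo hU₀a hU₀
  let η₀ := genTo U₀ hU₀
  let k : H.left ⟶ pullback G.hom U₀.ι :=
    pullback.lift (i.left ≫ pullback.fst _ _) (H.hom ≫ η₀) (by
      rw [Category.assoc, Category.assoc, genTo_ι, pullback.condition, ← Category.assoc]
      exact congrArg (· ≫ gen X) (Over.w i))
  haveI : QuasiCompact H.hom := by
    rw [← Over.w i]
    haveI : QuasiCompact (Red.bc (gen X) G).hom :=
      inferInstanceAs (QuasiCompact (pullback.snd G.hom (gen X)))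
    infer_instance
  haveI : QuasiCompact k := by
    haveI : QuasiCompact (k ≫ pullback.snd _ _) := by rw [pullback.lift_snd]; infer_instance
    exact QuasiCompact.of_comp k (pullback.snd _ _)
  haveI : IsSchemeTheoreticallyDominant k.toImage := by
    constructor
    refine Scheme.IdealSheafData.ext_of_iSup_eq_top
      (fun V : (pullback G.hom U₀.ι).affineOpens =>
        (⟨k.imageι ⁻¹ᵁ V.1, V.2.preimage _⟩ : k.image.affineOpens)) ?_ fun V => ?_
    · rw [← Scheme.Hom.preimage_iSup, iSup_affineOpens_eq_top, Scheme.Hom.preimage_top]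
    · rw [Scheme.Hom.ker_apply, Scheme.IdealSheafData.ideal_bot, Pi.bot_apply,
        ← RingHom.injective_iff_ker_eq_bot]
      exact k.toImage_app_injective V
  let zh : k.image ⟶ U₀ := k.imageι ≫ pullback.snd _ _
  obtain ⟨W, ⟨w, hw⟩, -, hWflat, -⟩ := FlatMisc.exists_flat_open zh ⊤ ⟨⟨_, hxU₀⟩, trivial⟩
  obtain ⟨U, hUa, hwU, hUW⟩ :=
    exists_isAffineOpen_mem_and_subset (show U₀.ι.base w ∈ U₀.ι ''ᵁ W from ⟨w, hw, rfl⟩)
  have hU : (U : Set X).Nonempty := ⟨_, hwU⟩
  have hle : U ≤ U₀ := fun z hz => by
    obtain ⟨y, -, rfl⟩ := hUW hz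
    exact y.2
  let o := X.homOfLE hle
  let m : pullback G.hom U.ι ⟶ pullback G.hom U₀.ι :=
    pullback.map _ _ _ _ (𝟙 _) o (𝟙 _) (by simp) (by simp [o])
  let HU : Over (U : Scheme.{u}) := Over.mk (pullback.snd zh o)
  let jl : pullback zh o ⟶ pullback G.hom U.ι :=
    pullback.lift (pullback.fst _ _ ≫ k.imageι ≫ pullback.fst _ _) (pullback.snd _ _) (by
      rw [Category.assoc, Category.assoc, pullback.condition, ← Scheme.homOfLE_ι X hle,
        ← reassoc_of% (pullback.condition (f := zh) (g := o))]
      simp [zh])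
  let j : HU ⟶ Red.bc U.ι G := Over.homMk jl (pullback.lift_snd _ _ _)
  have h1 : m ≫ pullback.fst G.hom U₀.ι = pullback.fst G.hom U.ι :=
    (pullback.lift_fst _ _ _).trans (Category.comp_id _)
  have h2 : m ≫ pullback.snd G.hom U₀.ι = pullback.snd G.hom U.ι ≫ o := pullback.lift_snd _ _ _
  have hm : IsPullback m (pullback.snd G.hom U.ι) (pullback.snd G.hom U₀.ι) o := by
    refine IsPullback.of_right (h₁₂ := pullback.fst G.hom U₀.ι) (v₁₃ := G.hom) (h₂₂ := U₀.ι) ?_
      h2 (IsPullback.of_hasPullback _ _)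
    rw [h1, Scheme.homOfLE_ι]
    exact IsPullback.of_hasPullback _ _
  have hj : IsPullback (pullback.fst zh o) jl k.imageι m := by
    refine IsPullback.of_bot (h₃₁ := o) (v₂₁ := pullback.snd G.hom U.ι)
      (v₂₂ := pullback.snd G.hom U₀.ι) ?_ ?_ hm
    · simp only [jl, pullback.lift_snd]
      exact IsPullback.of_hasPullback zh o
    · apply pullback.hom_ext
      · simp only [Category.assoc, h1, jl, pullback.lift_fst]
      · simp only [Category.assoc, h2, jl, pullback.lift_snd_assoc]
        exact pullback.condition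
  haveI : IsClosedImmersion jl :=
    MorphismProperty.of_isPullback (P := @IsClosedImmersion) hj inferInstance
  haveI : Flat (pullback.snd zh o) := by
    have hr : Set.range o.base ⊆ Set.range W.ι.base := by
      rintro _ ⟨z, rfl⟩
      rw [Scheme.Opens.range_ι]
      obtain ⟨y, hy, hyz⟩ := hUW z.2
      have : o.base z = y := U₀.ι.isOpenEmbedding.injective
        ((congrArg (fun f : (U : Scheme.{u}) ⟶ X => f.base z) (Scheme.homOfLE_ι X hle)).trans hyz.symm)
      rwa [this]
    let o' := IsOpenImmersion.lift W.ι o hr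
    let f' : pullback zh o ⟶ (zh ⁻¹ᵁ W).toScheme :=
      (isPullback_morphismRestrict zh W).flip.lift (pullback.fst _ _) (pullback.snd _ _ ≫ o')
        (by rw [Category.assoc, IsOpenImmersion.lift_fac, pullback.condition])
    have hp : IsPullback f' (pullback.snd zh o) (zh ∣_ W) o' := by
      refine IsPullback.of_right (h₁₂ := (zh ⁻¹ᵁ W).ι) (v₁₃ := zh) (h₂₂ := W.ι) ?_
        ((isPullback_morphismRestrict zh W).flip.lift_snd _ _ _) (isPullback_morphismRestrict zh W).flip
      rw [IsOpenImmersion.lift_fac]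
      convert IsPullback.of_hasPullback zh o using 1
      exact (isPullback_morphismRestrict zh W).flip.lift_fst _ _ _
    exact MorphismProperty.of_isPullback (P := @Flat) hp hWflat
  haveI : QuasiCompact (pullback.snd zh o) := inferInstance
  let ηU := genTo U hU
  have hηo : ηU ≫ o = η₀ := by
    rw [← cancel_mono U₀.ι, Category.assoc, Scheme.homOfLE_ι, genTo_ι, genTo_ι]
  let φ : H.left ⟶ pullback zh o :=
    pullback.lift k.toImage (H.hom ≫ ηU) (by
      rw [Category.assoc, hηo, Scheme.Hom.toImage_imageι_assoc, pullback.lift_snd])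
  have hcomp : φ ≫ jl ≫ pullback.fst G.hom U.ι = i.left ≫ pullback.fst G.hom (gen X) := by
    simp only [φ, jl]
    erw [pullback.lift_fst, pullback.lift_fst_assoc, Scheme.Hom.toImage_imageι_assoc]
    exact pullback.lift_fst _ _ _
  refine ⟨U, hU, HU, j, φ, hUa, ‹_›, ‹_›, ‹_›, ?_, hcomp⟩
  let c : H.left ⟶ pullback (pullback.snd zh o) ηU :=
    pullback.lift φ H.hom (pullback.lift_snd _ _ _)
  haveI : Mono (pullback.fst (pullback.snd zh o) ηU ≫ pullback.fst zh o) := inferInstance
  have hc : IsPullback (𝟙 H.left) c k.toImage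
      (pullback.fst (pullback.snd zh o) ηU ≫ pullback.fst zh o) := by
    have hw : c ≫ pullback.fst (pullback.snd zh o) ηU ≫ pullback.fst zh o = k.toImage := by
      exact (pullback.lift_fst_assoc _ _ _ _).trans (pullback.lift_fst _ _ _)
    refine IsPullback.of_isLimit' ⟨by rw [Category.id_comp, hw]⟩
      (PullbackCone.IsLimit.mk _ (fun s => s.fst) (fun s => Category.comp_id _) (fun s => ?_)
        fun s m h1 _ => by simpa using h1)
    rw [← cancel_mono (pullback.fst (pullback.snd zh o) ηU ≫ pullback.fst zh o), Category.assoc, hw]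
    exact s.condition
  haveI : IsSchemeTheoreticallyDominant c := IsSchemeTheoreticallyDominant.of_isPullback hc
  haveI : IsClosedImmersion c := by
    let b : pullback (pullback.snd zh o) ηU ⟶ (Red.bc (gen X) G).left :=
      pullback.lift (pullback.fst _ _ ≫ jl ≫ pullback.fst _ _) (pullback.snd _ _) (by
        rw [Category.assoc, Category.assoc, pullback.condition, ← Category.assoc jl,
          pullback.lift_snd, pullback.condition_assoc, genTo_ι])
    haveI : IsClosedImmersion (c ≫ b) := by
      have : c ≫ b = i.left := by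
        refine pullback.hom_ext ?_ ?_
        · simp only [b, c, Category.assoc, pullback.lift_fst, pullback.lift_fst_assoc, hcomp]
        · simp only [b, c, Category.assoc, pullback.lift_snd]
          exact (Over.w i).symm
      rw [this]; infer_instance
    haveI : IsSeparated b := by
      haveI : IsSeparated (b ≫ pullback.snd G.hom (gen X)) := by
        rw [pullback.lift_snd]; infer_instance
      exact IsSeparated.of_comp b (pullback.snd G.hom (gen X))
    exact IsClosedImmersion.of_comp c b
  haveI : IsIso c := IsClosedImmersion.isIso_of_ker_eq c (𝟙 _) c (Category.comp_id _)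
    (by rw [c.ker_eq_bot, Scheme.Hom.ker_eq_bot])
  refine IsPullback.of_iso_pullback ⟨pullback.lift_snd _ _ _⟩ (asIso c) ?_ ?_
  · exact pullback.lift_fst _ _ _
  · exact pullback.lift_snd _ _ _

section Grp

open MonObj GrpObj

variable {G} [GrpObj G]

theorem theta_one {S T : Scheme.{u}} (g : T ⟶ S) (Y : Over T) (A : Over S) [GrpObj A] :
    DSPtsLib.theta g (1 : Y ⟶ Red.bc g A) = 1 := by
  have h := DSPtsLib.theta_mul g (1 : Y ⟶ Red.bc g A) 1
  rwa [_root_.one_mul, eq_comm, mul_eq_left] at h

theorem theta_inv {S T : Scheme.{u}} (g : T ⟶ S) {Y : Over T} {A : Over S} [GrpObj A]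
    (a : Y ⟶ Red.bc g A) : DSPtsLib.theta g a⁻¹ = (DSPtsLib.theta g a)⁻¹ :=
  eq_inv_of_mul_eq_one_left (by rw [← DSPtsLib.theta_mul, inv_mul_cancel, theta_one])

variable {U : X.Opens} (hU : (U : Set X).Nonempty)

/-- The generic fibre of a `U`-scheme. -/
noncomputable abbrev genFib (T : Over (U : Scheme.{u})) : Over (Spec X.functionField) :=
  Over.mk (pullback.snd T.hom (genTo U hU))

/-- The inclusion of the generic fibre. -/
noncomputable abbrev genIncl (T : Over (U : Scheme.{u})) :
    (Over.map (genTo U hU)).obj (genFib hU T) ⟶ T :=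
  Over.homMk (pullback.fst T.hom (genTo U hU)) pullback.condition

/-- The change of base from `U` to `X` on the generic fibre. -/
noncomputable abbrev genEq (T : Over (U : Scheme.{u})) :
    (Over.map U.ι).obj ((Over.map (genTo U hU)).obj (genFib hU T)) ⟶
      (Over.map (gen X)).obj (genFib hU T) :=
  Over.homMk (𝟙 _) (by
    show 𝟙 _ ≫ pullback.snd T.hom (genTo U hU) ≫ gen X = (pullback.snd T.hom (genTo U hU) ≫ genTo U hU) ≫ U.ι
    rw [Category.id_comp, Category.assoc, genTo_ι])

variable {H : Over (Spec X.functionField)} [GrpObj H] (i : H ⟶ Red.bc (gen X) G) [IsMonHom i]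
  {HU : Over (U : Scheme.{u})} (j : HU ⟶ Red.bc U.ι G) (φ : H.left ⟶ HU.left)

/-- A point of `G ×_X U` over a flat `U`-scheme which on the generic fibre comes from `H` lies in
the model. -/
theorem exists_factor (hUa : IsAffineOpen U) [IsClosedImmersion j.left]
    (hw : φ ≫ HU.hom = H.hom ≫ genTo U hU)
    (hφ : φ ≫ j.left ≫ pullback.fst G.hom U.ι = i.left ≫ pullback.fst G.hom (gen X))
    (T : Over (U : Scheme.{u})) [Flat T.hom]
    (z : T ⟶ Red.bc U.ι G) (w : genFib hU T ⟶ H)
    (h : DSPtsLib.theta U.ι (genIncl hU T ≫ z) =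
      genEq hU T ≫ DSPtsLib.theta (gen X) (w ≫ i)) :
    ∃ g : T ⟶ HU, g ≫ j = z := by
  haveI := dominant_genTo hUa hU
  haveI := quasiCompact_genTo hUa hU
  have hl := congrArg Over.Hom.left h
  simp only [DSPtsLib.theta_left, Over.comp_left, Over.homMk_left, Category.id_comp,
    Category.assoc] at hl
  have e : (w.left ≫ φ) ≫ j.left = pullback.fst T.hom (genTo U hU) ≫ z.left := by
    refine pullback.hom_ext ?_ ?_
    · simp only [Category.assoc, hφ]
      exact hl.symm
    · simp only [Category.assoc]
      rw [show j.left ≫ pullback.snd G.hom U.ι = HU.hom from Over.w j, hw,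
        show z.left ≫ pullback.snd G.hom U.ι = T.hom from Over.w z, ← Category.assoc, Over.w w]
      exact pullback.condition.symm
  have hk : j.left.ker ≤ z.left.ker := by
    have h1 : (pullback.fst T.hom (genTo U hU) ≫ z.left).ker = z.left.ker := by
      rw [Scheme.Hom.ker_comp, Scheme.Hom.ker_eq_bot (pullback.fst T.hom (genTo U hU)),
        Scheme.IdealSheafData.map_bot]
    rw [← h1, ← e]
    exact Scheme.Hom.le_ker_comp _ _
  refine ⟨Over.homMk (IsClosedImmersion.lift j.left z.left hk) ?_, ?_⟩
  · rw [← Over.w j, IsClosedImmersion.lift_fac_assoc]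
    exact Over.w z
  · exact Over.OverMorphism.ext (IsClosedImmersion.lift_fac _ _ _)

variable {φ}

/-- The generic fibre of a point of the model, as a point of `H`. -/
noncomputable def genPt (hφ : IsPullback φ H.hom HU.hom (genTo U hU)) {T : Over (U : Scheme.{u})}
    (x : T ⟶ HU) : genFib hU T ⟶ H :=
  Over.homMk (hφ.lift (pullback.fst T.hom (genTo U hU) ≫ x.left) (pullback.snd T.hom (genTo U hU))
    (by rw [Category.assoc, Over.w x]; exact pullback.condition)) (hφ.lift_snd _ _ _)

theorem theta_genPt (hφ : IsPullback φ H.hom HU.hom (genTo U hU))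
    (hw : φ ≫ j.left ≫ pullback.fst G.hom U.ι = i.left ≫ pullback.fst G.hom (gen X))
    {T : Over (U : Scheme.{u})} (x : T ⟶ HU) :
    DSPtsLib.theta U.ι (genIncl hU T ≫ x ≫ j) =
      genEq hU T ≫ DSPtsLib.theta (gen X) (genPt hU hφ x ≫ i) := by
  refine Over.OverMorphism.ext ?_
  simp only [DSPtsLib.theta_left, Over.comp_left, Over.homMk_left, Category.id_comp, genPt,
    Category.assoc, ← hw, IsPullback.lift_fst_assoc]

/-- The group structure of the subgroup of the generic fibre extends to the model. -/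
theorem exists_grpObj (hUa : IsAffineOpen U) [IsClosedImmersion j.left] [Flat HU.hom]
    (hφ : IsPullback φ H.hom HU.hom (genTo U hU))
    (hw : φ ≫ j.left ≫ pullback.fst G.hom U.ι = i.left ≫ pullback.fst G.hom (gen X)) :
    ∃ str : GrpObj HU, @IsMonHom _ _ _ HU _ str.toMonObj _ j := by
  haveI : Mono j := (Over.forget _).mono_of_mono_map (inferInstanceAs (Mono j.left))
  haveI : Flat (𝟙_ (Over (U : Scheme.{u}))).hom := inferInstanceAs (Flat (𝟙 _))
  haveI : Flat (HU ⊗ HU).hom := by
    rw [Over.tensorObj_hom]; infer_instance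
  obtain ⟨e, he⟩ := exists_factor hU i j φ hUa hφ.w hw (𝟙_ _) η[Red.bc U.ι G] 1 (by
    rw [show η[Red.bc U.ι G] = (1 : 𝟙_ _ ⟶ Red.bc U.ι G) from by
        rw [Hom.one_def, toUnit_unit, Category.id_comp],
      MonObj.comp_one, theta_one, MonObj.one_comp, theta_one, MonObj.comp_one])
  obtain ⟨m, hm⟩ := exists_factor hU i j φ hUa hφ.w hw (HU ⊗ HU)
    ((fst HU HU ≫ j) * (snd HU HU ≫ j))
    (genPt hU hφ (fst HU HU) * genPt hU hφ (snd HU HU)) (by
    rw [MonObj.comp_mul, DSPtsLib.theta_mul, theta_genPt hU i j hφ hw, theta_genPt hU i j hφ hw,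
      MonObj.mul_comp, DSPtsLib.theta_mul, MonObj.comp_mul])
  obtain ⟨v, hv⟩ := exists_factor hU i j φ hUa hφ.w hw HU j⁻¹
    (genPt hU hφ (𝟙 HU))⁻¹ (by
    have := theta_genPt hU i j hφ hw (𝟙 HU)
    rw [Category.id_comp] at this
    rw [GrpObj.comp_inv, theta_inv, this, GrpObj.inv_comp, theta_inv, GrpObj.comp_inv])
  exact GrpSchLib.exists_grpObj_of_mono j e he m hm v hv

end Grp

end Groth.Agent.AlgGrpQ.SpreadSub
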