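import Groth.Prelude.Def_AlgGrp
import Groth.Prelude.Def_W4bk4git07Quot
import Mathlib.AlgebraicGeometry.Morphisms.FlatDescent
import Mathlib.AlgebraicGeometry.Morphisms.QuasiCompact

/-!
# Equivariant maps of principal bundles

An equivariant map of principal bundles is the base change of the map it induces on the bases.
-/

universe u

open CategoryTheory CategoryTheory.Limits MonoidalCategory CartesianMonoidalCategory MonObj AlgebraicGeometry

noncomputable section

namespace Groth.Agent.AlgGrpQ.Torsor

variable {S : Scheme.{u}} {H P Q : Over S} [GrpObj H] {b : AlgGrp.Action H P} {q : P ⟶ Q}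

/-- In a principal bundle two points with the same image differ by a unique point of the group. -/
theorem existsUnique_smul {hq : GIT.IsInvariant b q} [IsIso (GIT.PsiY b q hq)] {T : Over S} (x y : T ⟶ P)
    (h : x ≫ q = y ≫ q) : ∃! g : T ⟶ H, lift g y ≫ b.act = x := by
  let v : T.left ⟶ (H ⊗ P).left :=
    pullback.lift x.left y.left (congrArg CommaMorphism.left h) ≫ inv (GIT.PsiY b q hq)
  have hv1 : v ≫ b.act.left = x.left := by
    have e : GIT.PsiY b q hq ≫ pullback.fst q.left q.left = b.act.left := pullback.lift_fst _ _ _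
    rw [← e, Category.assoc, IsIso.inv_hom_id_assoc, pullback.lift_fst]
  have hv2 : v ≫ (snd H P).left = y.left := by
    have e : GIT.PsiY b q hq ≫ pullback.snd q.left q.left = (snd H P).left := pullback.lift_snd _ _ _
    rw [← e, Category.assoc, IsIso.inv_hom_id_assoc, pullback.lift_snd]
  let z : T ⟶ H ⊗ P := Over.homMk v (by
    rw [← Over.w (snd H P), ← Category.assoc, hv2, Over.w y])
  have hz1 : z ≫ b.act = x := Over.OverMorphism.ext hv1
  have hz2 : z ≫ snd H P = y := Over.OverMorphism.ext hv2
  have hz : ∀ g : T ⟶ H, lift g y ≫ b.act = x → lift g y = z := by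
    intro g hg
    refine Over.OverMorphism.ext ((cancel_mono (GIT.PsiY b q hq)).mp (pullback.hom_ext ?_ ?_))
    · simp only [GIT.PsiY, Category.assoc, pullback.lift_fst, ← Over.comp_left, hg, hz1]
    · simp only [GIT.PsiY, Category.assoc, pullback.lift_snd, ← Over.comp_left, lift_snd, hz2]
  refine ⟨z ≫ fst H P, ?_, fun g hg => ?_⟩
  · show lift (z ≫ fst H P) y ≫ b.act = x
    rw [show lift (z ≫ fst H P) y = z from hom_ext _ _ (lift_fst _ _) ((lift_snd _ _).trans hz2.symm), hz1]
  · rw [← hz g hg, lift_fst]

/-- An equivariant map of principal bundles is cartesian over the induced map of bases. -/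
theorem isPullback_of_equivariant {P' Q' : Over S} {c : AlgGrp.Action H P'} {q' : P' ⟶ Q'}
    (hq : GIT.IsInvariant b q) [IsIso (GIT.PsiY b q hq)] [Flat q.left] [Surjective q.left]
    [QuasiCompact q.left] (hq' : GIT.IsInvariant c q') [IsIso (GIT.PsiY c q' hq')]
    (F : P ⟶ P') (m : Q ⟶ Q') (hF : b.act ≫ F = (H ◁ F) ≫ c.act) (hm : q ≫ m = F ≫ q') :
    IsPullback q.left F.left m.left q'.left := by
  have w : q.left ≫ m.left = F.left ≫ q'.left := congrArg CommaMorphism.left hm
  let φ : P.left ⟶ pullback m.left q'.left := pullback.lift q.left F.left w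
  let r : pullback (q.left ≫ m.left) q'.left ⟶ pullback m.left q'.left :=
    pullback.lift (pullback.fst _ _ ≫ q.left) (pullback.snd _ _) (by
      rw [Category.assoc]; exact pullback.condition)
  have hr : IsPullback (pullback.fst (q.left ≫ m.left) q'.left) r q.left (pullback.fst m.left q'.left) := by
    refine IsPullback.of_bot ?_ (pullback.lift_fst _ _ _).symm (IsPullback.of_hasPullback m.left q'.left)
    rw [show r ≫ pullback.snd m.left q'.left = pullback.snd (q.left ≫ m.left) q'.left from
      pullback.lift_snd _ _ _]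
    exact IsPullback.of_hasPullback (q.left ≫ m.left) q'.left
  let s : pullback q.left q.left ⟶ pullback (q.left ≫ m.left) q'.left :=
    pullback.lift (pullback.snd q.left q.left) (pullback.fst q.left q.left ≫ F.left) (by
      rw [Category.assoc, ← w, ← pullback.condition_assoc])
  have hs : IsPullback s (pullback.fst q.left q.left) r φ := by
    refine IsPullback.of_right ?_ ?_ hr
    · rw [show s ≫ pullback.fst _ _ = pullback.snd q.left q.left from pullback.lift_fst _ _ _,
        show φ ≫ pullback.fst _ _ = q.left from pullback.lift_fst _ _ _]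
      exact (IsPullback.of_hasPullback q.left q.left).flip
    · refine pullback.hom_ext ?_ ?_
      · rw [Category.assoc, Category.assoc, pullback.lift_fst, pullback.lift_fst, ← Category.assoc,
          pullback.lift_fst, ← pullback.condition]
      · rw [Category.assoc, Category.assoc, pullback.lift_snd, pullback.lift_snd, pullback.lift_snd]
  have hiso : IsIso s := by
    let T : Over S := Over.mk (pullback.fst (q.left ≫ m.left) q'.left ≫ P.hom)
    let y : T ⟶ P := Over.homMk (pullback.fst (q.left ≫ m.left) q'.left) rfl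
    let p' : T ⟶ P' := Over.homMk (pullback.snd (q.left ≫ m.left) q'.left) (by
      show pullback.snd _ _ ≫ P'.hom = pullback.fst _ _ ≫ P.hom
      rw [← Over.w q', ← pullback.condition_assoc, ← Over.w q, ← Over.w m, Category.assoc])
    have hp : p' ≫ q' = (y ≫ F) ≫ q' := by
      refine Over.OverMorphism.ext ?_
      show pullback.snd _ _ ≫ q'.left = (pullback.fst _ _ ≫ F.left) ≫ q'.left
      rw [Category.assoc, ← w, pullback.condition]
    obtain ⟨g, hg, hg'⟩ := existsUnique_smul (hq := hq') p' (y ≫ F) hp
    have hFact : ∀ {U : Over S} (g : U ⟶ H) (z : U ⟶ P),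
        lift g z ≫ b.act ≫ F = lift g (z ≫ F) ≫ c.act := by
      intro U g z
      rw [hF, lift_whiskerLeft_assoc]
    let x : T ⟶ P := lift g y ≫ b.act
    have hxq : x ≫ q = y ≫ q := by
      rw [Category.assoc, show b.act ≫ q = snd H P ≫ q from hq, lift_snd_assoc]
    have hxF : x ≫ F = p' := by rw [Category.assoc, hFact, hg]
    let s' : pullback (q.left ≫ m.left) q'.left ⟶ pullback q.left q.left :=
      pullback.lift x.left y.left (congrArg CommaMorphism.left hxq)
    refine ⟨s', ?_, pullback.hom_ext ?_ ?_⟩
    · let U : Over S := Over.mk (pullback.snd q.left q.left ≫ P.hom)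
      let x₀ : U ⟶ P := Over.homMk (pullback.fst q.left q.left) (by
        show pullback.fst _ _ ≫ P.hom = pullback.snd _ _ ≫ P.hom
        rw [← Over.w q, pullback.condition_assoc])
      let y₀ : U ⟶ P := Over.homMk (pullback.snd q.left q.left) rfl
      obtain ⟨g₀, hg₀, -⟩ := existsUnique_smul (hq := hq) x₀ y₀ (Over.OverMorphism.ext pullback.condition)
      let σ : U ⟶ T := Over.homMk s (by
        show s ≫ pullback.fst _ _ ≫ P.hom = pullback.snd _ _ ≫ P.hom
        rw [← Category.assoc, pullback.lift_fst])
      have hσy : σ ≫ y = y₀ := Over.OverMorphism.ext (pullback.lift_fst _ _ _)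
      have hσp : σ ≫ p' = x₀ ≫ F := Over.OverMorphism.ext (pullback.lift_snd _ _ _)
      have hσg : σ ≫ g = g₀ := by
        obtain ⟨g₁, -, hu⟩ := existsUnique_smul (hq := hq') (σ ≫ p') (σ ≫ y ≫ F) (by
          rw [Category.assoc, hp]; simp only [Category.assoc])
        refine (hu (σ ≫ g) ?_).trans (hu g₀ ?_).symm
        · show lift (σ ≫ g) (σ ≫ y ≫ F) ≫ c.act = σ ≫ p'
          rw [← comp_lift_assoc, hg]
        · show lift g₀ (σ ≫ y ≫ F) ≫ c.act = σ ≫ p'
          rw [← Category.assoc, hσy, ← hFact, ← Category.assoc, hg₀, hσp]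
      have hσx : σ ≫ x = x₀ := by
        rw [← Category.assoc, comp_lift, hσg, hσy, hg₀]
      refine pullback.hom_ext ?_ ?_
      · rw [Category.assoc, Category.id_comp, pullback.lift_fst]
        exact congrArg CommaMorphism.left hσx
      · rw [Category.assoc, Category.id_comp, pullback.lift_snd]
        exact congrArg CommaMorphism.left hσy
    · rw [Category.assoc, Category.id_comp, pullback.lift_fst, pullback.lift_snd]
      rfl
    · rw [Category.assoc, Category.id_comp, pullback.lift_snd, pullback.lift_fst_assoc]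
      exact congrArg CommaMorphism.left hxF
  have : IsIso φ := MorphismProperty.of_isPullback_of_descendsAlong
    (P := MorphismProperty.isomorphisms Scheme.{u}) (Q := @Surjective ⊓ @Flat ⊓ @QuasiCompact) hs
    (MorphismProperty.of_isPullback (P := @Surjective ⊓ @Flat ⊓ @QuasiCompact) hr
      ⟨⟨inferInstance, inferInstance⟩, inferInstance⟩) hiso
  exact IsPullback.of_iso_pullback ⟨w⟩ (asIso φ) (pullback.lift_fst _ _ _) (pullback.lift_snd _ _ _)

/-- Equivariance of a map, tested on points. -/
theorem equivariant_of_points {P' : Over S} (c : AlgGrp.Action H P') (F : P ⟶ P')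
    (h : ∀ (T : Over S) (g : T ⟶ H) (z : T ⟶ P), lift g z ≫ b.act ≫ F = lift g (z ≫ F) ≫ c.act) :
    b.act ≫ F = (H ◁ F) ≫ c.act := by
  have e : lift (fst H P) (snd H P) = 𝟙 (H ⊗ P) := lift_fst_snd
  have hh := h (H ⊗ P) (fst H P) (snd H P)
  rw [← lift_whiskerLeft_assoc, e, Category.id_comp, Category.id_comp] at hh
  exact hh

end Groth.Agent.AlgGrpQ.Torsor
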