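import Groth.Agent.AlgGrpQ.TorusQuotHopf
import Groth.Agent.GrpSchLib.AffinizationKer
import Groth.Agent.GrpSchLib.UnitsScheme
import Groth.Agent.GrpSchLib.NormalQuot
import Groth.Agent.GrpSchLib.KernelGrp
import Groth.Agent.GrpSchLib.RankOneBig
import Mathlib.AlgebraicGeometry.Morphisms.UniversallyOpen
import Mathlib.AlgebraicGeometry.AlgClosed.Basic

/-!
# The largest torus quotient of a connected algebraic group
-/

set_option autoImplicit false
set_option backward.isDefEq.respectTransparency false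
set_option backward.isDefEq.respectTransparency.types false
set_option maxSynthPendingDepth 5
set_option linter.style.haveILetI false

universe u

open CategoryTheory MonoidalCategory CartesianMonoidalCategory MonObj GrpObj AlgebraicGeometry CategoryTheory.Limits

noncomputable section

namespace Groth.Agent.AlgGrpQ.TorusQuot

open GrpSchLib GrpSchLib.AffineHopf

variable {k : Type u} [Field k]

local notation "S" => Spec (CommRingCat.of k)

local instance isAffine_sp (X : Type u) [CommRing X] [Algebra k X] : IsAffine (sp k X).left := isAffine_Spec _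

theorem epi_of_left {X Y : Over S} (f : X ⟶ Y) [Flat f.left] [Surjective f.left] [QuasiCompact f.left] : Epi f :=
  (Over.forget _).epi_of_epi_map (inferInstanceAs (Epi f.left))

/-- A morphism which becomes a homomorphism after a faithfully flat homomorphism is a homomorphism. -/
theorem isMonHom_of_epi {X Y Z : Over S} [GrpObj X] [GrpObj Y] [GrpObj Z] (f : X ⟶ Y) [IsMonHom f] (g : Y ⟶ Z)
    [Flat f.left] [Surjective f.left] [QuasiCompact f.left] [IsMonHom (f ≫ g)] : IsMonHom g := by
  refine ⟨?_, ?_⟩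
  · rw [← IsMonHom.one_hom f, Category.assoc, IsMonHom.one_hom (f ≫ g)]
  · haveI : Flat (f ⊗ₘ f).left := RankOne.property_tensorHom f f @Flat inferInstance inferInstance
    haveI : Surjective (f ⊗ₘ f).left := RankOne.property_tensorHom f f @Surjective inferInstance inferInstance
    haveI : QuasiCompact (f ⊗ₘ f).left := RankOne.property_tensorHom f f @QuasiCompact inferInstance inferInstance
    haveI := epi_of_left (f ⊗ₘ f)
    rw [← cancel_epi (f ⊗ₘ f), ← Category.assoc, ← IsMonHom.mul_hom f, Category.assoc, IsMonHom.mul_hom (f ≫ g),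
      tensorHom_comp_tensorHom_assoc]

/-- A connected algebraic group maps faithfully flatly to the spectrum of its ring of functions. -/
theorem exists_hull [IsAlgClosed k] (G : Over S) [GrpObj G] [Smooth G.hom] [QuasiCompact G.hom]
    [ConnectedSpace ↥G.left] :
    ∃ (A : Type u) (_ : CommRing A) (_ : HopfAlgebra k A) (_ : Algebra.FiniteType k A) (_ : IsDomain A)
      (p : G ⟶ sp k A), IsMonHom p ∧ Flat p.left ∧ Surjective p.left ∧ QuasiCompact p.left ∧
        LocallyOfFinitePresentation p.left ∧ Function.Bijective p.left.appTop := by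
  haveI := Kunneth.isIntegral_grp G
  obtain ⟨I, _, p, hp, hI, hlft, hfl, hs, hb⟩ := Affinization.exists_affinization G
  haveI := hp; haveI := hI; haveI := hlft; haveI := hfl; haveI := hs
  obtain ⟨A, _, _, ⟨e⟩⟩ := exists_hopf I
  let a : sp k A ≅ I := (Grp.forget _).mapIso e
  haveI : IsMonHom a.inv := e.inv.hom.isMonHom_hom
  haveI : IsMonHom a.hom := e.hom.hom.isMonHom_hom
  haveI : IsIso a.hom.left := ((Over.forget _).mapIso a).isIso_hom
  haveI : IsIso a.inv.left := ((Over.forget _).mapIso a).isIso_inv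
  haveI : LocallyOfFiniteType (sp k A).hom := by rw [← Over.w a.hom]; infer_instance
  haveI : Algebra.FiniteType k A := RingHom.finiteType_algebraMap.mp
    ((HasRingHomProperty.Spec_iff (P := @LocallyOfFiniteType)).mp ‹LocallyOfFiniteType (sp k A).hom›)
  let p' : G ⟶ sp k A := p ≫ a.inv
  have hb' : Function.Bijective p'.left.appTop := by
    show Function.Bijective (p.left ≫ a.inv.left).appTop
    rw [Scheme.Hom.comp_appTop]
    exact hb.comp (ConcreteCategory.bijective_of_isIso _)
  haveI : Nonempty ↥(⊤ : G.left.Opens) := ⟨⟨Classical.arbitrary G.left, trivial⟩⟩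
  haveI : IsDomain A := Function.Injective.isDomain
    (((Scheme.ΓSpecIso (CommRingCat.of A)).inv ≫ p'.left.appTop).hom)
    (hb'.1.comp (ConcreteCategory.bijective_of_isIso (Scheme.ΓSpecIso (CommRingCat.of A)).inv).1)
  haveI : QuasiCompact (p'.left ≫ (sp k A).hom) := by rw [Over.w p']; infer_instance
  haveI : IsSeparated (sp k A).hom := inferInstanceAs (IsSeparated (Spec.map _))
  haveI : QuasiCompact p'.left := QuasiCompact.of_comp p'.left (sp k A).hom
  haveI : LocallyOfFiniteType (p'.left ≫ (sp k A).hom) := by rw [Over.w p']; infer_instance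
  haveI : LocallyOfFiniteType p'.left := locallyOfFiniteType_of_comp p'.left (sp k A).hom
  haveI : IsLocallyNoetherian (sp k A).left := LocallyOfFiniteType.isLocallyNoetherian (sp k A).hom
  exact ⟨A, inferInstance, inferInstance, inferInstance, inferInstance, p', inferInstance,
    inferInstanceAs (Flat (p.left ≫ a.inv.left)), inferInstanceAs (Surjective (p.left ≫ a.inv.left)), inferInstance,
    LocallyOfFinitePresentation.iff_locallyOfFiniteType.2 inferInstance, hb'⟩

/-- Morphisms to affine schemes factor through the affine hull. -/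
theorem exists_factor {G I Y : Over S} (p : G ⟶ I) [IsAffine I.left] (hb : Function.Bijective p.left.appTop)
    [IsAffine Y.left] [Epi p.left] (f : G ⟶ Y) : ∃ f' : I ⟶ Y, p ≫ f' = f := by
  haveI : IsIso p.left.appTop := (ConcreteCategory.isIso_iff_bijective _).mpr hb
  let m := I.left.toSpecΓ ≫ inv (Spec.map p.left.appTop) ≫ Spec.map f.left.appTop ≫ Y.left.isoSpec.inv
  have hm : p.left ≫ m = f.left := by
    rw [← Category.assoc, Scheme.toSpecΓ_naturality, Category.assoc, IsIso.hom_inv_id_assoc,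
      ← Scheme.toSpecΓ_naturality_assoc]
    show f.left ≫ Y.left.isoSpec.hom ≫ Y.left.isoSpec.inv = f.left
    rw [Iso.hom_inv_id, Category.comp_id]
  exact ⟨Over.homMk m (by
    show m ≫ Y.hom = I.hom
    rw [← cancel_epi p.left, reassoc_of% hm, Over.w f, Over.w p]), Over.OverMorphism.ext hm⟩

/-- Morphisms from an anti-affine scheme to an affine scheme are constant. -/
theorem eq_toUnit_comp {N Y : Over S} [IsAffine Y.left] (hN : Function.Bijective N.hom.appTop) (f : N ⟶ Y)
    (x : 𝟙_ (Over S) ⟶ N) : f = toUnit N ≫ x ≫ f := by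
  refine Over.OverMorphism.ext (ext_of_isAffine (ConcreteCategory.hom_ext _ _ fun a => ?_))
  obtain ⟨c, hc⟩ := hN.2 (f.left.appTop a)
  rw [Over.comp_left, Over.comp_left, Scheme.Hom.comp_appTop, Scheme.Hom.comp_appTop]
  show f.left.appTop a = (toUnit N).left.appTop (x.left.appTop (f.left.appTop a))
  rw [← hc]
  show _ = N.hom.appTop (x.left.appTop (N.hom.appTop c))
  rw [← CommRingCat.comp_apply N.hom.appTop x.left.appTop, ← Scheme.Hom.comp_appTop, Over.w x]
  rfl

/-- The kernel of the canonical map to the affine hull is anti-affine. -/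
theorem bijective_appTop_kernel {G I N : Over S} [GrpObj G] [GrpObj I] [LocallyOfFiniteType G.hom]
    [QuasiCompact G.hom] (p : G ⟶ I) [IsMonHom p] [IsAffine I.left] (hb : Function.Bijective p.left.appTop)
    (n : N ⟶ G) (hn : AlgGrp.IsKernel n p) : Function.Bijective N.hom.appTop := by
  obtain ⟨_, -, -, hker⟩ := AffinizationKer.main G
  haveI : IsIso p.left.appTop := (ConcreteCategory.isIso_iff_bijective _).mpr hb
  let m : I.left ⟶ Spec Γ(G.left, ⊤) := I.left.toSpecΓ ≫ inv (Spec.map p.left.appTop)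
  have hm : p.left ≫ m = G.left.toSpecΓ := by
    rw [← Category.assoc, Scheme.toSpecΓ_naturality, Category.assoc, IsIso.hom_inv_id, Category.comp_id]
  have hη : η[I].left ≫ m = η[G].left ≫ G.left.toSpecΓ := by
    show _ = η[G].left ≫ _
    rw [← hm, ← Category.assoc η[G].left p.left m, ← Over.comp_left, IsMonHom.one_hom p]
  haveI : IsIso m := inferInstanceAs (IsIso (_ ≫ _))
  have h1 : IsPullback n.left (toUnit N).left G.left.toSpecΓ (η[G].left ≫ G.left.toSpecΓ) :=
    (hn.map (Over.forget S)).of_iso (Iso.refl _) (Iso.refl _) (Iso.refl _) (asIso m) (by simp) (by simp)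
      (by simpa using hm) (by simpa using hη)
  let e := h1.isoPullback
  have he : e.hom ≫ (AffinizationKer.ker G).hom = N.hom := by
    show e.hom ≫ pullback.snd _ _ ≫ _ = _
    rw [h1.isoPullback_hom_snd_assoc]
    exact Over.w (toUnit N)
  rw [← he, Scheme.Hom.comp_appTop]
  show Function.Bijective (e.hom.appTop ∘ (AffinizationKer.ker G).hom.appTop)
  exact (ConcreteCategory.bijective_of_isIso _).comp hker

variable [IsAlgClosed k]

/-- A flat surjection with fibres connected through rational points reflects connectedness. -/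
theorem preconnectedSpace_of_points {X Y : Over S} (r : X ⟶ Y) [LocallyOfFiniteType X.hom]
    [LocallyOfFiniteType Y.hom] [UniversallyOpen r.left] [Surjective r.left] [PreconnectedSpace ↥Y.left]
    (hfib : ∀ a b : 𝟙_ (Over S) ⟶ X, a ≫ r = b ≫ r →
      ∃ (K : Over S) (f : K ⟶ X) (x y : 𝟙_ (Over S) ⟶ K), PreconnectedSpace ↥K.left ∧ x ≫ f = a ∧ y ≫ f = b) :
    PreconnectedSpace ↥X.left := by
  rw [preconnectedSpace_iff_clopen]
  intro U hU
  by_contra hne
  simp only [not_or] at hne
  obtain ⟨u, hu⟩ := Set.nonempty_iff_ne_empty.2 hne.1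
  obtain ⟨v, hv⟩ := Set.nonempty_iff_ne_empty.2 fun h => hne.2 (Set.compl_empty_iff.1 h)
  have hop : IsOpenMap r.left := Scheme.Hom.isOpenMap r.left
  haveI : JacobsonSpace Y.left := LocallyOfFiniteType.jacobsonSpace Y.hom
  haveI : JacobsonSpace X.left := LocallyOfFiniteType.jacobsonSpace X.hom
  obtain ⟨z, hz⟩ := nonempty_inter (hop U hU.isOpen) (hop Uᶜ hU.compl.isOpen) (by
      rw [← Set.image_union, Set.union_compl_self, Set.image_univ, r.left.surjective.range_eq])
    ⟨_, Set.mem_image_of_mem _ hu⟩ ⟨_, Set.mem_image_of_mem _ hv⟩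
  obtain ⟨w, ⟨hw1, hw2⟩, hwc⟩ := nonempty_inter_closedPoints ⟨z, hz⟩
    ((hop U hU.isOpen).inter (hop Uᶜ hU.compl.isOpen)).isLocallyClosed
  have pick : ∀ V : Set X.left, IsOpen V → w ∈ r.left '' V → ∃ a : 𝟙_ (Over S) ⟶ X,
      a.left (IsLocalRing.closedPoint k) ∈ V ∧ r.left (a.left (IsLocalRing.closedPoint k)) = w := by
    rintro V hV ⟨x, hx, hxw⟩
    obtain ⟨x', ⟨hx'1, hx'2⟩, hx'c⟩ := nonempty_inter_closedPoints
      (⟨x, hx, hxw⟩ : (V ∩ r.left ⁻¹' {w}).Nonempty)
      (hV.isLocallyClosed.inter ((hwc : IsClosed _).preimage r.left.continuous).isLocallyClosed)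
    refine ⟨Over.homMk (pointOfClosedPoint X.hom x' hx'c) (pointOfClosedPoint_comp _ _ _), ?_, ?_⟩
    · show pointOfClosedPoint X.hom x' hx'c _ ∈ V
      rw [pointOfClosedPoint_apply]; exact hx'1
    · show r.left (pointOfClosedPoint X.hom x' hx'c _) = w
      rw [pointOfClosedPoint_apply]; exact hx'2
  obtain ⟨a, ha, haw⟩ := pick U hU.isOpen hw1
  obtain ⟨b, hb, hbw⟩ := pick Uᶜ hU.compl.isOpen hw2
  obtain ⟨K, f, x, y, hK, rfl, rfl⟩ := hfib a b (Over.OverMorphism.ext
    (ext_of_apply_closedPoint_eq Y.hom (Over.w (a ≫ r)) (Over.w (b ≫ r)) (haw.trans hbw.symm)))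
  rcases preconnectedSpace_iff_clopen.1 hK (f.left ⁻¹' U) (hU.preimage f.left.continuous) with h | h
  · exact Set.eq_empty_iff_forall_notMem.1 h _ ha
  · exact hb (Set.eq_univ_iff_forall.1 h _)

omit [IsAlgClosed k] in
/-- The kernel of a map of affine groups. -/
theorem isPullback_spMap {A B C : Type u} [CommRing A] [CommRing B] [CommRing C] [HopfAlgebra k A]
    [HopfAlgebra k B] [HopfAlgebra k C] (ψ : B →ₐc[k] A) (π : A →ₐc[k] C) (hπ : Function.Surjective π)
    (hker : RingHom.ker (π : A →ₐ[k] C) = Ideal.map (ψ : B →+* A) (RingHom.ker (Bialgebra.counitAlgHom k B))) :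
    IsPullback (spMap (π : A →ₐ[k] C)) (toUnit (sp k C)) (spMap (ψ : B →ₐ[k] A)) η[sp k B] := by
  let f : CommRingCat.of B ⟶ CommRingCat.of A := CommRingCat.ofHom (ψ : B →ₐ[k] A).toRingHom
  let g : CommRingCat.of B ⟶ CommRingCat.of k := CommRingCat.ofHom (Bialgebra.counitAlgHom k B).toRingHom
  let inl : CommRingCat.of A ⟶ CommRingCat.of C := CommRingCat.ofHom (π : A →ₐ[k] C).toRingHom
  let inr : CommRingCat.of k ⟶ CommRingCat.of C := CommRingCat.ofHom (algebraMap k C)
  have hcomm : f ≫ inl = g ≫ inr := CommRingCat.hom_ext (RingHom.ext fun c => CharKernel.pi_psi hker c)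
  have hle : ∀ s : PushoutCocone f g, RingHom.ker (π : A →+* C) ≤ RingHom.ker s.inl.hom := by
    intro s
    rw [show RingHom.ker (π : A →+* C) = Ideal.map (ψ : B →+* A) (RingHom.ker (Bialgebra.counitAlgHom k B)) from hker,
      Ideal.map_le_iff_le_comap]
    intro b hb
    show s.inl (ψ b) = 0
    refine (congrArg (fun φ => φ b) s.condition).trans ?_
    show s.inr (Bialgebra.counitAlgHom k B b) = 0
    rw [show Bialgebra.counitAlgHom k B b = 0 from hb, map_zero]
  let d : ∀ s : PushoutCocone f g, CommRingCat.of C ⟶ s.pt := fun s =>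
    CommRingCat.ofHom (RingHom.liftOfSurjective (π : A →+* C) hπ ⟨s.inl.hom, hle s⟩)
  have hd : ∀ s (a : A), d s (π a) = s.inl a := fun s a => RingHom.liftOfRightInverse_comp_apply _ _ _ _ a
  have hpo : IsPushout f g inl inr := by
    refine ⟨⟨hcomm⟩, ⟨PushoutCocone.IsColimit.mk hcomm d (fun s => ?_) (fun s => ?_) fun s m h1 _ => ?_⟩⟩
    · exact CommRingCat.hom_ext (RingHom.ext fun a => hd s a)
    · refine CommRingCat.hom_ext (RingHom.ext fun r => ?_)
      show d s (algebraMap k C r) = s.inr r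
      rw [← (π : A →ₐ[k] C).commutes r]
      refine (hd s _).trans ?_
      have h := congrArg (fun φ => φ (algebraMap k B r)) s.condition
      refine Eq.trans ?_ (h.trans ?_)
      · show s.inl (algebraMap k A r) = s.inl (ψ (algebraMap k B r))
        rw [AlgHomClass.commutes ψ]
      · show s.inr (Bialgebra.counitAlgHom k B (algebraMap k B r)) = _
        rw [AlgHom.commutes]
        rfl
    · refine CommRingCat.hom_ext (RingHom.ext fun x => ?_)
      obtain ⟨a, rfl⟩ := hπ x
      exact (congrArg (fun φ => φ a) h1).trans (hd s a).symm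
  have h : IsPullback (spMap (π : A →ₐ[k] C)).left (Spec.map inr) (spMap (ψ : B →ₐ[k] A)).left (Spec.map g) :=
    isPullback_SpecMap_of_isPushout _ _ _ _ hpo
  exact IsPullback.of_map (Over.forget _) (Over.OverMorphism.ext h.w) h

omit [IsAlgClosed k] in
theorem spMap_groupLike {C : Type u} [CommRing C] [HopfAlgebra k C]
    (f : MonoidAlgebra k (Multiplicative ℤ) →ₐc[k] C)
    (hf : f (MonoidAlgebra.single (Multiplicative.ofAdd 1) 1) = 1) :
    spMap (f : MonoidAlgebra k (Multiplicative ℤ) →ₐ[k] C) = 1 := by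
  have e : (f : MonoidAlgebra k (Multiplicative ℤ) →ₐ[k] C) =
      (1 : WithConv (MonoidAlgebra k (Multiplicative ℤ) →ₐ[k] C)).ofConv := by
    refine MonoidAlgebra.algHom_ext (fun m => ?_) (by ext)
    have hm := congrFun (congrArg DFunLike.coe (MonoidHom.ext_mint
      (f := ((f : MonoidAlgebra k (Multiplicative ℤ) →ₐ[k] C) : MonoidAlgebra k (Multiplicative ℤ) →* C).comp
        (MonoidAlgebra.of k (Multiplicative ℤ))) (g := 1) (by simpa using hf))) m
    refine (show f (MonoidAlgebra.single m 1) = 1 from hm).trans ?_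
    show (1 : C) = algebraMap k C (Coalgebra.counit (R := k) (MonoidAlgebra.single m (1 : k)))
    simp
  rw [e]
  exact map_one Spec.mapMulEquiv

set_option synthInstance.maxHeartbeats 200000 in
set_option maxHeartbeats 1600000 in
/-- The largest torus quotient. -/
theorem main (G : Over S) [GrpObj G] [Smooth G.hom] [QuasiCompact G.hom] [ConnectedSpace ↥G.left] :
    ∃ (r : ℕ) (T : Over S) (_ : GrpObj T) (_ : Red.IsSplitTorusWith (Fin r → ℤ) T)
      (q : G ⟶ T) (_ : IsMonHom q) (H : Over S) (_ : GrpObj H) (h : H ⟶ G) (_ : IsMonHom h),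
      Flat q.left ∧ Surjective q.left ∧ AlgGrp.IsKernel h q ∧ ConnectedSpace ↥H.left ∧
      (∀ χ : G ⟶ Red.Gm S, IsMonHom χ → ∃ χ' : T ⟶ Red.Gm S, IsMonHom χ' ∧ q ≫ χ' = χ) ∧
      (∀ ψ : H ⟶ Red.Gm S, IsMonHom ψ → ψ = 1) := by
  classical
  haveI := AntiAffine.isSeparated_grp G
  obtain ⟨A, _, _, _, _, p, hp, hpf, hps, hpq, hpl, hpb⟩ := exists_hull G
  haveI := hp; haveI := hpf; haveI := hps; haveI := hpq; haveI := hpl
  obtain ⟨r, ψ, hψ, hgl⟩ := CharKernel.exists_char_map (k := k) (A := A)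
  let B := MonoidAlgebra k (CharKernel.Lat r)
  haveI : Algebra.FiniteType k B := inferInstance
  haveI : UniqueFactorizationMonoid B := CharKernel.ufd_lat r
  haveI : IsDomain B := Function.Injective.isDomain (ψ : B →+* A) hψ
  obtain ⟨C, _, _, _, π, hπ, hker⟩ : ∃ (C : Type u) (_ : CommRing C) (_ : HopfAlgebra k C)
      (_ : Algebra.FiniteType k C) (π : A →ₐc[k] C), Function.Surjective π ∧
        RingHom.ker (π : A →ₐ[k] C) = Ideal.map (ψ : B →+* A) (RingHom.ker (Bialgebra.counitAlgHom k B)) := by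
    let J : Ideal A := Ideal.map (ψ : B →+* A) (RingHom.ker (Bialgebra.counitAlgHom k B))
    haveI : J.IsHopfIdeal k := MultTypeLib.isHopfIdeal_map_ker ψ
    exact ⟨A ⧸ J, inferInstance, inferInstance,
      Algebra.FiniteType.of_surjective (Ideal.Quotient.mkₐ k J) Ideal.Quotient.mk_surjective,
      Bialgebra.Quotient.mkBialgHom J, Ideal.Quotient.mk_surjective, Ideal.mk_ker⟩
  obtain ⟨eT⟩ := nonempty_DS_iso k (Fin r → ℤ)
  obtain ⟨eZ⟩ := nonempty_DS_iso k ℤ
  let iZ : sp k (MonoidAlgebra k (Multiplicative ℤ)) ≅ Red.Gm S := (Grp.forget _).mapIso eZ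
  haveI : IsMonHom iZ.hom := eZ.hom.hom.isMonHom_hom
  haveI : IsMonHom iZ.inv := eZ.inv.hom.isMonHom_hom
  haveI : IsIso iZ.hom.left := ((Over.forget _).mapIso iZ).isIso_hom
  haveI : IsAffine (Red.Gm S).left := IsAffine.of_isIso iZ.inv.left
  let qψ : sp k A ⟶ sp k B := spMap (ψ : B →ₐ[k] A)
  haveI : IsMonHom qψ := isMonHom_spMap ψ
  haveI : Flat qψ.left := (HasRingHomProperty.Spec_iff (P := @Flat)).mpr (GrpSchLib.HopfFlat.flat ψ hψ)
  haveI : Surjective qψ.left := ⟨GrpSchLib.HopfFlat.surjective_comap ψ hψ⟩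
  let q : G ⟶ sp k B := p ≫ qψ
  haveI : IsSeparated (sp k B).hom := inferInstanceAs (IsSeparated (Spec.map _))
  obtain ⟨H, _, h, hh, hhc, -, hk⟩ := exists_kernel q
  haveI := hh; haveI := hhc
  have hC := isPullback_spMap ψ π hπ hker
  haveI : IsMonHom (spMap (π : A →ₐ[k] C)) := isMonHom_spMap π
  let rH : H ⟶ sp k C := hC.lift (h ≫ p) (toUnit H) ((Category.assoc _ _ _).trans hk.w)
  have hrH : rH ≫ spMap (π : A →ₐ[k] C) = h ≫ p := hC.lift_fst _ _ _
  have hk' : IsPullback h (rH ≫ toUnit (sp k C)) (p ≫ qψ) η[sp k B] := by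
    rw [toUnit_unique (rH ≫ toUnit (sp k C)) (toUnit H)]; exact hk
  have hr : IsPullback h rH p (spMap (π : A →ₐ[k] C)) := IsPullback.of_bot hk' hrH.symm hC
  have hrl := hr.map (Over.forget S)
  haveI : Flat rH.left := MorphismProperty.of_isPullback (P := @Flat) hrl hpf
  haveI : Surjective rH.left := MorphismProperty.of_isPullback (P := @Surjective) hrl hps
  haveI : QuasiCompact rH.left := MorphismProperty.of_isPullback (P := @QuasiCompact) hrl hpq
  haveI : LocallyOfFinitePresentation rH.left :=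
    MorphismProperty.of_isPullback (P := @LocallyOfFinitePresentation) hrl hpl
  haveI : Mono h := (Over.forget _).mono_of_mono_map (inferInstanceAs (Mono h.left))
  haveI : Mono (spMap (π : A →ₐ[k] C)) := ⟨fun a b hab => hC.hom_ext hab (toUnit_unique _ _)⟩
  haveI : IsMonHom rH := by
    haveI : IsMonHom (rH ≫ spMap (π : A →ₐ[k] C)) := by rw [hrH]; infer_instance
    refine ⟨?_, ?_⟩
    · rw [← cancel_mono (spMap (π : A →ₐ[k] C)), Category.assoc, IsMonHom.one_hom (rH ≫ spMap (π : A →ₐ[k] C)),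
        IsMonHom.one_hom (spMap (π : A →ₐ[k] C))]
    · rw [← cancel_mono (spMap (π : A →ₐ[k] C)), Category.assoc, IsMonHom.mul_hom (rH ≫ spMap (π : A →ₐ[k] C)),
        Category.assoc, IsMonHom.mul_hom (spMap (π : A →ₐ[k] C)), tensorHom_comp_tensorHom_assoc]
  haveI : LocallyOfFiniteType H.hom := by rw [← Over.w h]; infer_instance
  haveI : LocallyOfFiniteType (sp k C).hom :=
    (HasRingHomProperty.Spec_iff (P := @LocallyOfFiniteType)).mpr (RingHom.finiteType_algebraMap.mpr inferInstance)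
  -- the kernel of the affinization
  haveI : IsSeparated (sp k A).hom := inferInstanceAs (IsSeparated (Spec.map _))
  obtain ⟨N, _, np, hnp, -, -, hkN⟩ := exists_kernel p
  haveI := hnp
  have hN : Function.Bijective N.hom.appTop := bijective_appTop_kernel p hpb np hkN
  let j : N ⟶ H := hk.lift np (toUnit N) (by
    show np ≫ p ≫ qψ = _
    rw [← Category.assoc, show np ≫ p = _ from hkN.w, Category.assoc, IsMonHom.one_hom qψ])
  have hj : j ≫ h = np := hk.lift_fst _ _ _
  haveI : IsMonHom j := by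
    refine ⟨?_, ?_⟩
    · rw [← cancel_mono h, Category.assoc, hj, IsMonHom.one_hom np, IsMonHom.one_hom h]
    · rw [← cancel_mono h, Category.assoc, hj, IsMonHom.mul_hom np, Category.assoc, IsMonHom.mul_hom h,
        tensorHom_comp_tensorHom_assoc, hj]
  have hlift : ∀ {W : Over S} (c : W ⟶ H), c ≫ rH = 1 → ∃ l : W ⟶ N, l ≫ j = c := fun {W} c hc => by
    have h1 : (c ≫ h) ≫ p = 1 := by
      rw [Category.assoc, ← hrH, ← Category.assoc, hc, MonObj.one_comp]
    refine ⟨hkN.lift (c ≫ h) (toUnit W) h1, ?_⟩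
    rw [← cancel_mono h, Category.assoc, hj]
    exact hkN.lift_fst _ _ _
  have hbasic : ∀ e : C, IsIdempotentElem e → e = 0 ∨ e = 1 := fun e he =>
    CharKernel.idempotent_trivial hπ hker (CharKernel.span_groupLike_monoidAlgebra _) hψ
      (fun χ hχ => (hgl χ hχ).imp' (fun m => MonoidAlgebra.single m 1) fun m hm => hm)
      (fun n hn => CharKernel.powHom_injective r n hn) he
  haveI : PreconnectedSpace ↥(sp k C).left := AntiAffine.preconnectedSpace_of_forall_idem fun e he => by
    obtain ⟨c, rfl⟩ := (ConcreteCategory.bijective_of_isIso (Scheme.ΓSpecIso (CommRingCat.of C)).inv).2 e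
    rcases hbasic c ((ConcreteCategory.bijective_of_isIso (Scheme.ΓSpecIso (CommRingCat.of C)).inv).1
      (by rw [map_mul]; exact he)) with rfl | rfl
    · exact Or.inl (map_zero _)
    · exact Or.inr (map_one _)
  haveI : PreconnectedSpace ↥N.left := (AntiAffine.connectedSpace_of_bijective hN).toPreconnectedSpace
  have hconn : ConnectedSpace ↥H.left := by
    haveI : Nonempty ↥H.left := ⟨η[H].left (IsLocalRing.closedPoint k)⟩
    haveI : PreconnectedSpace ↥H.left := preconnectedSpace_of_points rH fun a b hab => by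
      obtain ⟨n, hn⟩ := hlift (a⁻¹ * b) (by rw [MonObj.mul_comp, GrpObj.inv_comp, hab, inv_mul_cancel])
      refine ⟨N, (toUnit N ≫ a) * j, η[N], n, inferInstance, ?_, ?_⟩
      · rw [MonObj.comp_mul, IsMonHom.one_hom j, ← Category.assoc, toUnit_unique (η[N] ≫ toUnit N) (𝟙 _),
          Category.id_comp, MonObj.one_eq_one, _root_.mul_one]
      · rw [MonObj.comp_mul, hn, ← Category.assoc, toUnit_unique (n ≫ toUnit N) (𝟙 _), Category.id_comp,
          mul_inv_cancel_left]
    exact ⟨inferInstance⟩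
  haveI : IsMonHom q := inferInstanceAs (IsMonHom (p ≫ qψ))
  refine ⟨r, sp k B, inferInstance, ⟨eT⟩, q, inferInstance, H, inferInstance, h, inferInstance,
    inferInstanceAs (Flat (p.left ≫ qψ.left)), inferInstanceAs (Surjective (p.left ≫ qψ.left)), hk, hconn, ?_, ?_⟩
  · -- characters of the group
    intro χ hχ
    obtain ⟨χ₁, rfl⟩ := exists_factor p hpb χ
    haveI : IsMonHom χ₁ := isMonHom_of_epi p χ₁
    obtain ⟨f, hf⟩ := exists_bialgHom (χ₁ ≫ iZ.inv)
    obtain ⟨m, hm⟩ := hgl (f (MonoidAlgebra.single (Multiplicative.ofAdd 1) 1))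
      ((⟨by simp, by simp⟩ : IsGroupLikeElem k (MonoidAlgebra.single (Multiplicative.ofAdd (1 : ℤ)) (1 : k))).map f)
    let f' : MonoidAlgebra k (Multiplicative ℤ) →ₐc[k] B := MonoidAlgebra.mapDomainBialgHom k (zpowersHom _ m)
    have hff : (ψ : B →ₐ[k] A).comp (f' : MonoidAlgebra k (Multiplicative ℤ) →ₐ[k] B) =
        (f : MonoidAlgebra k (Multiplicative ℤ) →ₐ[k] A) := by
      refine MonoidAlgebra.algHom_ext (fun z => ?_) (by ext)
      exact congrFun (congrArg DFunLike.coe (MonoidHom.ext_mint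
        (f := (((ψ : B →ₐ[k] A).comp (f' : MonoidAlgebra k (Multiplicative ℤ) →ₐ[k] B)) :
          MonoidAlgebra k (Multiplicative ℤ) →* A).comp (MonoidAlgebra.of k (Multiplicative ℤ)))
        (g := ((f : MonoidAlgebra k (Multiplicative ℤ) →ₐ[k] A) : MonoidAlgebra k (Multiplicative ℤ) →* A).comp
          (MonoidAlgebra.of k (Multiplicative ℤ))) (by
          show ψ (MonoidAlgebra.mapDomainBialgHom k (zpowersHom _ m)
            (MonoidAlgebra.single (Multiplicative.ofAdd (1 : ℤ)) 1)) = f _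
          simpa using hm))) z
    refine ⟨spMap (f' : MonoidAlgebra k (Multiplicative ℤ) →ₐ[k] B) ≫ iZ.hom, inferInstance, ?_⟩
    show (p ≫ qψ) ≫ _ ≫ iZ.hom = _
    rw [Category.assoc, ← Category.assoc qψ, spMap_comp, hff, ← hf, Category.assoc, Iso.inv_hom_id, Category.comp_id]
  · -- characters of the kernel
    intro χ hχ
    have hjχ : j ≫ χ = 1 := by
      rw [eq_toUnit_comp hN (j ≫ χ) η[N], IsMonHom.one_hom (j ≫ χ), MonObj.one_eq_one, MonObj.comp_one]
    have hdesc : ∀ {W : Scheme.{u}} (g₁ g₂ : W ⟶ H.left), g₁ ≫ rH.left = g₂ ≫ rH.left →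
        g₁ ≫ χ.left = g₂ ≫ χ.left := by
      intro W g₁ g₂ e
      let T : Over S := Over.mk (g₁ ≫ H.hom)
      let a₁ : T ⟶ H := Over.homMk g₁ rfl
      let a₂ : T ⟶ H := Over.homMk g₂ (by
        show g₂ ≫ H.hom = g₁ ≫ H.hom
        rw [← Over.w rH, ← Category.assoc, ← e, Category.assoc])
      have hab : a₁ ≫ rH = a₂ ≫ rH := Over.OverMorphism.ext e
      obtain ⟨l, hl⟩ := hlift (a₁⁻¹ * a₂) (by rw [MonObj.mul_comp, GrpObj.inv_comp, hab, inv_mul_cancel])
      have h2 : (a₁⁻¹ * a₂) ≫ χ = 1 := by rw [← hl, Category.assoc, hjχ, MonObj.comp_one]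
      rw [MonObj.mul_comp, GrpObj.inv_comp, inv_mul_eq_one] at h2
      exact congrArg CommaMorphism.left h2
    let m := EffectiveEpi.desc rH.left χ.left fun g₁ g₂ e => hdesc g₁ g₂ e
    have hm : rH.left ≫ m = χ.left := EffectiveEpi.fac _ _ _
    let χ₂ : sp k C ⟶ Red.Gm S := Over.homMk m (by
      rw [← cancel_epi rH.left, reassoc_of% hm, Over.w χ, Over.w rH])
    have hχ₂ : rH ≫ χ₂ = χ := Over.OverMorphism.ext hm
    haveI : IsMonHom (rH ≫ χ₂) := by rw [hχ₂]; exact hχ
    haveI : IsMonHom χ₂ := isMonHom_of_epi rH χ₂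
    obtain ⟨f, hf⟩ := exists_bialgHom (χ₂ ≫ iZ.inv)
    have h1 : f (MonoidAlgebra.single (Multiplicative.ofAdd 1) 1) = 1 :=
      CharKernel.groupLike_eq_one hπ hker hψ (fun χ hχ => (hgl χ hχ).imp' (fun m => MonoidAlgebra.single m 1) fun m hm => hm)
        ((⟨by simp, by simp⟩ : IsGroupLikeElem k (MonoidAlgebra.single (Multiplicative.ofAdd (1 : ℤ)) (1 : k))).map f)
    rw [spMap_groupLike f h1] at hf
    rw [← hχ₂, ← Category.comp_id χ₂, ← iZ.inv_hom_id, ← Category.assoc χ₂, hf, MonObj.one_comp, MonObj.comp_one]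

end Groth.Agent.AlgGrpQ.TorusQuot
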