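import Groth.Agent.AlgGrpQ.Kolchin
import Groth.Agent.AlgGrpQ.TorusQuotScheme
import Groth.Agent.AlgGrpQ.GeomConn
import Groth.Agent.AGFRoot.SolvTorus
import Groth.Agent.AGFRoot.SplitBC
import Groth.Agent.MultTypeLib.Point
import Groth.Agent.MaxTorusLib.Basic
import Groth.Agent.CAlgOdd.GLChar

/-!
# Isogenies and tori
-/

set_option autoImplicit false
set_option maxSynthPendingDepth 5
set_option linter.style.haveILetI false
set_option backward.isDefEq.respectTransparency false

universe u

noncomputable section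

open TensorProduct WithConv

namespace Groth.Agent.AlgGrpQ.TorusIsogeny

open Groth.Agent.ComodLib

variable {K : Type u} [Field K] {A B : Type u} [CommRing A] [CommRing B] [HopfAlgebra K A] [HopfAlgebra K B]

/-- A domain spanned by its group-like elements is the algebra of a lattice. -/
theorem exists_lat_equiv_of_span [IsAlgClosed K] [IsDomain A] [Algebra.FiniteType K A]
    (h : HopfRep.IsDiagonalizable K A) : ∃ r : ℕ, Nonempty (MonoidAlgebra K (CharKernel.Lat r) ≃ₐc[K] A) := by
  obtain ⟨r, ⟨e⟩⟩ := CharKernel.exists_char_basis (k := K) (A := A)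
  have hsurj : Function.Surjective (AGFRoot.Solv.chr (k := K) (A := A)) := by
    intro a
    have ha : a ∈ Submodule.span K {a : A | IsGroupLikeElem K a} := h ▸ Submodule.mem_top
    induction ha using Submodule.span_induction with
    | mem x hx => exact ⟨MonoidAlgebra.single ⟨x, hx⟩ 1, by rw [AGFRoot.Solv.chr_single, one_smul]⟩
    | zero => exact ⟨0, map_zero _⟩
    | add x y _ _ hx hy =>
      obtain ⟨p, rfl⟩ := hx
      obtain ⟨q, rfl⟩ := hy
      exact ⟨p + q, map_add _ p q⟩
    | smul c x _ hx =>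
      obtain ⟨p, rfl⟩ := hx
      exact ⟨c • p, map_smul _ c p⟩
  exact ⟨r, ⟨(MonoidAlgebra.domCongrBialgEquiv K K e).trans
    (BialgEquiv.ofBijective AGFRoot.Solv.chr ⟨AGFRoot.Solv.chr_injective, hsurj⟩)⟩⟩

/-- A connected commutative group with finitely many points over a diagonalisable one is diagonalisable. -/
theorem isDiagonalizable_of_finite [IsAlgClosed K] [IsDomain A] [Algebra.FiniteType K A] (ψ : B →ₐc[K] A)
    (hB : HopfRep.IsDiagonalizable K B)
    (hfin : {g : WithConv (A →ₐ[K] K) | ∀ b : B, g.ofConv (ψ b) = Coalgebra.counit (R := K) b}.Finite)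
    (hcomm : ∀ g h : WithConv (A →ₐ[K] K), g * h = h * g) : HopfRep.IsDiagonalizable K A := by
  classical
  haveI : Group.IsSolvable (WithConv (A →ₐ[K] K)) := by
    exact Group.isSolvable_of_comm hcomm
  have hconn : ∀ e : A, IsIdempotentElem e → e = 0 ∨ e = 1 := fun e he => IsIdempotentElem.iff_eq_zero_or_one.1 he
  obtain ⟨Θ, hΘ⟩ := AGFRoot.Solv.exists_splitting (AlgGrpQ.isTrigonalizable_of_solvable K A hconn)
  let P := (AGFRoot.Solv.pr (k := K) (A := A)).ker
  have hP : (P : Set (WithConv (A →ₐ[K] K))).Finite := by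
    refine hfin.subset fun g hg b => ?_
    have hb : b ∈ Submodule.span K {b : B | IsGroupLikeElem K b} := hB ▸ Submodule.mem_top
    induction hb using Submodule.span_induction with
    | mem x hx =>
      rw [hx.counit_eq_one]
      exact AGFRoot.Solv.mem_ker_pr.1 hg ⟨ψ x, hx.map ψ⟩
    | zero => simp
    | add x y _ _ hx hy => simp [hx, hy]
    | smul c x _ hx => simp [hx]
  have hinj : ∀ g ∈ P, g = 1 := fun g hg => WithConv.ofConv_injective (AlgHom.ext fun a =>
    (AGFRoot.Solv.isIrred_ker_pr hΘ).exists_eq_of_finite a (hP.image fun q => q.ofConv a)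
      (fun q hq => ⟨q, hq, rfl⟩) g hg 1 P.one_mem)
  have hproj : ∀ g, AGFRoot.Solv.projT Θ g = g := fun g => by
    have := hinj _ (AGFRoot.Solv.projT_mul_inv_mem hΘ g)
    rwa [inv_mul_eq_one] at this
  have hid : ∀ a : A, AGFRoot.Solv.chr (Θ a) = a := fun a => by
    by_contra hne
    have hnil : ¬ IsNilpotent (AGFRoot.Solv.chr (Θ a) - a) := fun hn => hne (sub_eq_zero.1 hn.eq_zero)
    obtain ⟨x, hx⟩ := exists_point_ne_zero (k := K) hnil
    refine hx ?_
    rw [map_sub, sub_eq_zero]
    have hp := congrArg (fun q : WithConv (A →ₐ[K] K) => q.ofConv a) (hproj (toConv x))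
    refine Eq.trans ?_ hp
    show _ = (AGFRoot.Solv.theta Θ (AGFRoot.Solv.pr (toConv x))).ofConv a
    rw [AGFRoot.Solv.theta_apply, ← AGFRoot.Solv.apply_chr]
  refine Submodule.eq_top_iff'.2 fun a => ?_
  rw [← hid a]
  induction Θ a using MonoidAlgebra.induction_linear with
  | zero => rw [map_zero]; exact zero_mem _
  | add p q hp hq => rw [map_add]; exact add_mem hp hq
  | single χ c => rw [AGFRoot.Solv.chr_single]; exact Submodule.smul_mem _ _ (Submodule.subset_span χ.2)

/-- A Hopf subalgebra of a group algebra is spanned by group-like elements. -/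
theorem isDiagonalizable_of_injective {M : Type u} [CommGroup M] (g : A →ₐc[K] MonoidAlgebra K M)
    (hg : Function.Injective g) : HopfRep.IsDiagonalizable K A := by
  classical
  refine Submodule.eq_top_iff'.2 fun a => ?_
  have key : ∀ m ∈ (g a).coeff.support, ∃ b : A, IsGroupLikeElem K b ∧ g b = MonoidAlgebra.single m 1 := by
    intro m hm
    let φ : MonoidAlgebra K M →ₗ[K] K :=
      (Finsupp.lapply m) ∘ₗ (MonoidAlgebra.coeffLinearEquiv K).toLinearMap
    have e1 : ∀ z : MonoidAlgebra K M,
        TensorProduct.lid K _ (φ.rTensor _ (Coalgebra.comul (R := K) z)) = φ z • MonoidAlgebra.single m 1 := fun z => by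
      induction z using MonoidAlgebra.induction_linear with
      | zero => simp
      | add p q hp hq => simp only [map_add, hp, hq, add_smul]
      | single l c =>
        simp only [MonoidAlgebra.comul_single, CommSemiring.comul_apply, TensorProduct.map_tmul,
          LinearMap.rTensor_tmul, TensorProduct.lid_tmul]
        rcases eq_or_ne l m with rfl | hl
        · simp [φ]
        · simp [φ, Finsupp.single_eq_of_ne (Ne.symm hl)]
    have e2 : ∀ z : A ⊗[K] A, TensorProduct.lid K _ (φ.rTensor _
        (TensorProduct.map g.toLinearMap g.toLinearMap z)) =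
        g (TensorProduct.lid K A ((φ ∘ₗ g.toLinearMap).rTensor A z)) := fun z => by
      induction z using TensorProduct.induction_on with
      | zero => simp
      | tmul p q => simp; rfl
      | add p q hp hq => simp only [map_add, hp, hq]
    have hc : φ (g a) ≠ 0 := Finsupp.mem_support_iff.1 hm
    let b : A := (φ (g a))⁻¹ • TensorProduct.lid K A ((φ ∘ₗ g.toLinearMap).rTensor A (Coalgebra.comul (R := K) a))
    have hb : g b = MonoidAlgebra.single m 1 := by
      rw [show g b = (φ (g a))⁻¹ • g _ from map_smul _ _ _, ← e2,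
        show TensorProduct.map g.toLinearMap g.toLinearMap (Coalgebra.comul (R := K) a) = Coalgebra.comul (g a) from
          CoalgHomClass.map_comp_comul_apply g a, e1, inv_smul_smul₀ hc]
    have hgl : IsGroupLikeElem K (g b) := hb ▸ ⟨by simp, by simp⟩
    refine ⟨b, ⟨?_, ?_⟩, hb⟩
    · rw [← CoalgHomClass.counit_comp_apply g]
      exact hgl.counit_eq_one
    · refine (_root_.TensorProduct.map_injective_of_flat_flat _ _ hg hg : Function.Injective
        (TensorProduct.map g.toLinearMap g.toLinearMap)) ?_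
      refine (CoalgHomClass.map_comp_comul_apply g b).trans (hgl.comul_eq_tmul_self.trans ?_)
      rfl
  choose! b hb1 hb2 using key
  have : a = ∑ m ∈ (g a).coeff.support, (g a).coeff m • b m := by
    refine hg ?_
    conv_lhs => rw [← MonoidAlgebra.sum_coeff_single (g a)]
    rw [map_sum]
    refine Finset.sum_congr rfl fun m hm => ?_
    rw [map_smul, hb2 m hm, MonoidAlgebra.smul_single, smul_eq_mul, mul_one]
  rw [this]
  exact Submodule.sum_mem _ fun m hm => Submodule.smul_mem _ _ (Submodule.subset_span (hb1 m hm))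

/-- An algebra isomorphic to a group algebra is diagonalizable. -/
theorem isDiagonalizable_of_equiv {M : Type u} [CommGroup M] (e : A ≃ₐc[K] MonoidAlgebra K M) :
    HopfRep.IsDiagonalizable K A :=
  isDiagonalizable_of_injective (e : A →ₐc[K] MonoidAlgebra K M) e.injective

end Groth.Agent.AlgGrpQ.TorusIsogeny

namespace Groth.Agent.AlgGrpQ.TorusIsogeny

open CategoryTheory CategoryTheory.Limits MonoidalCategory CartesianMonoidalCategory MonObj GrpObj AlgebraicGeometry
open GrpSchLib.AffineHopf GrpSchLib.MultTypeBC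

variable (k : Type u) [Field k]

/-- An algebra map on the base change is determined on the second factor. -/
theorem baseChange_ext {K A : Type u} [Field K] [Algebra k K] [CommRing A] [Algebra k A]
    {g h : K ⊗[k] A →ₐ[K] K} (H : ∀ a : A, g (1 ⊗ₜ[k] a) = h (1 ⊗ₜ[k] a)) : g = h :=
  Algebra.TensorProduct.ext (Subsingleton.elim _ _) (AlgHom.ext H)

/-- A group embedded in a commutative one is commutative. -/
theorem isCommMonObj_of_mono {S : Scheme.{u}} {X Y : Over S} [GrpObj X] [GrpObj Y] [IsCommMonObj Y] (i : X ⟶ Y)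
    [IsMonHom i] [Mono i] : IsCommMonObj X where
  mul_comm := by
    rw [← cancel_mono i, Category.assoc, IsMonHom.mul_hom, ← BraidedCategory.braiding_naturality_assoc,
      IsCommMonObj.mul_comm]

/-- Commutative groups have commuting points over any extension. -/
theorem pt_mul_comm {K A : Type u} [Field K] [Algebra k K] [CommRing A] [HopfAlgebra k A] [IsCommMonObj (sp k A)]
    (g h : WithConv (K ⊗[k] A →ₐ[K] K)) : g * h = h * g := by
  let res : WithConv (K ⊗[k] A →ₐ[K] K) → WithConv (A →ₐ[k] K) := fun g =>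
    toConv ((g.ofConv.restrictScalars k).comp Algebra.TensorProduct.includeRight)
  have hres : ∀ g h, res (g * h) = res g * res h := fun g h => WithConv.ofConv_injective (AlgHom.ext fun a => by
    show (g * h).ofConv (1 ⊗ₜ[k] a) = _
    rw [AlgHom.convMul_apply, AlgHom.convMul_apply, TensorProduct.comul_tmul]
    induction Coalgebra.comul (R := k) a using TensorProduct.induction_on with
    | zero => simp
    | tmul p q => simp [res]
    | add p q hp hq => simp only [TensorProduct.tmul_add, map_add, hp, hq])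
  have hc : ∀ p q : WithConv (A →ₐ[k] K), p * q = q * p := fun p q => by
    refine Spec.mapMulEquiv.injective ?_
    rw [map_mul, map_mul]
    exact mul_comm _ _
  exact WithConv.ofConv_injective (baseChange_ext k fun a =>
    congrArg (fun w : WithConv (A →ₐ[k] K) => w.ofConv a) ((hres g h).trans ((hc _ _).trans (hres h g).symm)))

/-- An affine group split by a field extension is a torus. -/
theorem isTorus_of_split {K A : Type u} [Field K] [Algebra k K] [CommRing A] [HopfAlgebra k A] {r : ℕ}
    (e : MonoidAlgebra K (CharKernel.Lat r) ≃ₐc[K] K ⊗[k] A) : Red.IsTorus (sp k A) := by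
  let φ := Spec.map (CommRingCat.ofHom (algebraMap k K))
  haveI : Surjective φ :=
    ⟨fun x => ⟨(IsLocalRing.closedPoint K : Spec (CommRingCat.of K)), Subsingleton.elim _ _⟩⟩
  haveI : Flat φ := by
    rw [Flat.SpecMap_iff]
    show (algebraMap k K).Flat
    rw [RingHom.flat_algebraMap_iff]
    infer_instance
  obtain ⟨b⟩ := nonempty_bc_sp (R := k) K A
  obtain ⟨d⟩ := nonempty_DS_iso K (Fin r → ℤ)
  refine ⟨_, φ, inferInstance, inferInstance, fun V hV => ⟨φ ⁻¹ᵁ V, ?_, ?_⟩, fun s => ⟨⊤, trivial, r, ?_⟩⟩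
  · exact (hV.preimage φ).isCompact
  · exact Set.image_preimage_eq _ φ.surjective
  · obtain ⟨i₁⟩ := bc_bc (⊤ : (Spec (CommRingCat.of K)).Opens).ι φ (sp k A)
    obtain ⟨i₂⟩ := bc_iso (⊤ : (Spec (CommRingCat.of K)).Opens).ι (b ≪≫ spIso e ≪≫ d)
    obtain ⟨i₃⟩ := bc_DS (⊤ : (Spec (CommRingCat.of K)).Opens).ι (Fin r → ℤ)
    exact ⟨i₁.symm ≪≫ i₂ ≪≫ i₃⟩

/-- A smooth connected affine group stays a domain over an algebraic closure. -/
theorem isDomain_baseChange (A : Type u) [CommRing A] [HopfAlgebra k A] [Smooth (sp k A).hom]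
    [ConnectedSpace ↥(sp k A).left] :
    Algebra.FiniteType k A ∧ _root_.IsReduced A ∧ IsDomain (AlgebraicClosure k ⊗[k] A) := by
  have hS : (algebraMap k A).Smooth :=
    (HasRingHomProperty.Spec_iff (P := @Smooth)).mp ‹Smooth (sp k A).hom›
  haveI : Algebra.Smooth k A := RingHom.smooth_algebraMap.mp hS
  haveI : Algebra.FiniteType k A := inferInstance
  haveI : _root_.IsReduced A := by
    haveI : IsReduced (sp k A).left := GrpSchLib.isReduced_of_smooth_field (sp k A).hom
    haveI : IsReduced (Spec (CommRingCat.of A)) := ‹IsReduced (sp k A).left›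
    exact (affine_isReduced_iff (CommRingCat.of A)).mp ‹_›
  let K := AlgebraicClosure k
  haveI : _root_.IsReduced (K ⊗[k] A) := by
    haveI : Smooth (Spec.map (CommRingCat.ofHom (algebraMap K (K ⊗[k] A)))) :=
      (HasRingHomProperty.Spec_iff (P := @Smooth)).mpr (RingHom.smooth_algebraMap.mpr inferInstance)
    haveI : IsReduced (Spec (CommRingCat.of (K ⊗[k] A))) :=
      GrpSchLib.isReduced_of_smooth_field (Spec.map (CommRingCat.ofHom (algebraMap K (K ⊗[k] A))))
    exact (affine_isReduced_iff (CommRingCat.of (K ⊗[k] A))).mp ‹_›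
  haveI : ConnectedSpace (PrimeSpectrum A) := ‹ConnectedSpace ↥(sp k A).left›
  exact ⟨inferInstance, inferInstance, ComodLib.isDomain_of_connected K fun e he =>
    isIdempotentElem_baseChange (fun e he => CAlgOdd.GLChar.eq_zero_or_one_of_isIdempotentElem he)
      (Bialgebra.counitAlgHom k A) e he⟩

/-- Finitely many geometric points lie in the kernel of a map with finite kernel. -/
theorem finite_kernel_points {A B : Type u} [CommRing A] [CommRing B] [HopfAlgebra k A] [HopfAlgebra k B]
    (ψ : B →ₐc[k] A)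
    (hker : ∀ (N : Over (Spec (CommRingCat.of k))) (i : N ⟶ sp k A),
      AlgGrp.IsKernel i (spMap (ψ : B →ₐ[k] A)) → IsFinite N.hom) :
    {g : WithConv (AlgebraicClosure k ⊗[k] A →ₐ[AlgebraicClosure k] AlgebraicClosure k) |
      ∀ b : AlgebraicClosure k ⊗[k] B, g.ofConv (Bialgebra.TensorProduct.map (BialgHom.id (AlgebraicClosure k)
        (AlgebraicClosure k)) ψ b) = Coalgebra.counit (R := AlgebraicClosure k) b}.Finite := by
  classical
  let K := AlgebraicClosure k
  obtain ⟨C, _, _, π, hπ, hK⟩ : ∃ (C : Type u) (_ : CommRing C) (_ : HopfAlgebra k C) (π : A →ₐc[k] C),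
      Function.Surjective π ∧
        RingHom.ker (π : A →ₐ[k] C) = Ideal.map (ψ : B →+* A) (RingHom.ker (Bialgebra.counitAlgHom k B)) := by
    let J : Ideal A := Ideal.map (ψ : B →+* A) (RingHom.ker (Bialgebra.counitAlgHom k B))
    haveI : J.IsHopfIdeal k := MultTypeLib.isHopfIdeal_map_ker ψ
    exact ⟨A ⧸ J, inferInstance, inferInstance, Bialgebra.Quotient.mkBialgHom J, Ideal.Quotient.mk_surjective,
      Ideal.mk_ker⟩
  haveI : IsFinite (sp k C).hom := hker _ _ (TorusQuot.isPullback_spMap ψ π hπ hK)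
  haveI : Module.Finite k C := RingHom.finite_algebraMap.1 ((IsFinite.SpecMap_iff _).1
    (‹IsFinite (sp k C).hom› : IsFinite (Spec.map (CommRingCat.ofHom (algebraMap k C)))))
  haveI : Finite (C →ₐ[k] K) := by
    let bC := Module.Free.chooseBasis k C
    haveI : ∀ i, Finite {x : K | x ∈ (minpoly k (bC i)).rootSet K} := fun i =>
      ((minpoly k (bC i)).rootSet_finite K).to_subtype
    refine Finite.of_injective (fun φ i => (⟨φ (bC i), ?_⟩ : {x : K | x ∈ (minpoly k (bC i)).rootSet K})) ?_
    · exact Polynomial.mem_rootSet.2 ⟨minpoly.ne_zero (Algebra.IsIntegral.isIntegral (bC i)), by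
        rw [Polynomial.aeval_algHom_apply, minpoly.aeval, map_zero]⟩
    · intro φ φ' h
      exact AlgHom.toLinearMap_injective (bC.ext fun i => congrArg Subtype.val (congrFun h i))
  refine (Set.finite_range fun c : C →ₐ[k] K =>
    toConv (Algebra.TensorProduct.lift (Algebra.ofId K K) (c.comp (π : A →ₐ[k] C)) fun _ _ => Commute.all _ _)).subset
      fun g hg => ?_
  let g₀ : A →ₐ[k] K := (g.ofConv.restrictScalars k).comp Algebra.TensorProduct.includeRight
  have hJ : RingHom.ker (π : A →ₐ[k] C) ≤ RingHom.ker g₀ := by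
    rw [hK, Ideal.map_le_iff_le_comap]
    intro b hb
    show g.ofConv ((1 : K) ⊗ₜ[k] ψ b) = 0
    refine (hg (1 ⊗ₜ[k] b)).trans ?_
    rw [TensorProduct.counit_tmul, show Coalgebra.counit (R := k) b = 0 from hb, zero_smul]
  refine ⟨AlgHom.liftOfSurjective _ hπ g₀ hJ, WithConv.ofConv_injective (baseChange_ext k fun a => ?_)⟩
  simp
  exact AlgHom.liftOfSurjective_apply (π : A →ₐ[k] C) hπ g₀ hJ a

/-- Isogenous commutative affine groups are tori at the same time, in coordinates. -/
theorem key {A B : Type u} [CommRing A] [CommRing B] [HopfAlgebra k A] [HopfAlgebra k B]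
    [IsCommMonObj (sp k A)] [Smooth (sp k A).hom] [ConnectedSpace ↥(sp k A).left] [Smooth (sp k B).hom]
    [ConnectedSpace ↥(sp k B).left] (ψ : B →ₐc[k] A) [Surjective (spMap (ψ : B →ₐ[k] A)).left]
    (hker : ∀ (N : Over (Spec (CommRingCat.of k))) (i : N ⟶ sp k A),
      AlgGrp.IsKernel i (spMap (ψ : B →ₐ[k] A)) → IsFinite N.hom) :
    Red.IsTorus (sp k A) ↔ Red.IsTorus (sp k B) := by
  let K := AlgebraicClosure k
  obtain ⟨hAf, hAr, hAd⟩ := isDomain_baseChange k A
  obtain ⟨hBf, hBr, hBd⟩ := isDomain_baseChange k B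
  haveI := hAf; haveI := hBf; haveI := hAd; haveI := hBd
  let ψK := Bialgebra.TensorProduct.map (BialgHom.id K K) ψ
  refine ⟨fun h => ?_, fun h => ?_⟩
  · obtain ⟨r, ⟨e⟩⟩ := AGFRoot.exists_split_coord (K := K) (Iso.refl (Grp.mk (sp k A))) h
    let e' := e.trans (MonoidAlgebra.domCongrBialgEquiv K K
      (MulEquiv.ulift.symm : CharKernel.Lat r ≃* ULift.{u} (CharKernel.Lat r)))
    have hinj : Function.Injective ψ := (injective_iff_map_eq_zero ψ).mpr fun b hb => by
      haveI hs : Surjective (Spec.map (CommRingCat.ofHom (ψ : B →ₐ[k] A).toRingHom)) :=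
        ‹Surjective (spMap (ψ : B →ₐ[k] A)).left›
      haveI := hBr
      refine (nilpotent_iff_mem_prime.mpr fun P hP => ?_ : IsNilpotent b).eq_zero
      obtain ⟨Q, hQ⟩ := hs.surj ⟨P, hP⟩
      have : b ∈ (PrimeSpectrum.comap (ψ : B →ₐ[k] A).toRingHom Q).asIdeal := by
        show ψ b ∈ Q.asIdeal
        rw [hb]; exact zero_mem _
      rwa [show PrimeSpectrum.comap (ψ : B →ₐ[k] A).toRingHom Q = ⟨P, hP⟩ from hQ] at this
    have hψK : Function.Injective ψK := fun x y hxy => by
      have hg1 : ∀ z : K ⊗[k] B, ψK z = (ψ : B →ₐ[k] A).toLinearMap.lTensor K z := fun z => by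
        induction z using TensorProduct.induction_on with
        | zero => simp
        | add p q hp hq => simp only [map_add, hp, hq]
        | tmul c m => rfl
      refine Module.Flat.lTensor_preserves_injective_linearMap (M := K) (ψ : B →ₐ[k] A).toLinearMap hinj ?_
      rw [← hg1, ← hg1]
      exact hxy
    let g : K ⊗[k] B →ₐc[K] MonoidAlgebra K (ULift.{u} (CharKernel.Lat r)) :=
      BialgHom.comp (e' : K ⊗[k] A →ₐc[K] MonoidAlgebra K (ULift.{u} (CharKernel.Lat r))) ψK
    have hD := isDiagonalizable_of_injective g fun x y h => hψK (e'.injective h)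
    obtain ⟨s, ⟨eB⟩⟩ := exists_lat_equiv_of_span hD
    exact isTorus_of_split k eB
  · obtain ⟨r, ⟨e⟩⟩ := AGFRoot.exists_split_coord (K := K) (Iso.refl (Grp.mk (sp k B))) h
    have hB : HopfRep.IsDiagonalizable K (K ⊗[k] B) := isDiagonalizable_of_equiv (e.trans
      (MonoidAlgebra.domCongrBialgEquiv K K (MulEquiv.ulift.symm : CharKernel.Lat r ≃* ULift.{u} (CharKernel.Lat r))))
    have hD := isDiagonalizable_of_finite ψK hB (finite_kernel_points k ψ hker) (pt_mul_comm k)
    obtain ⟨s, ⟨eA⟩⟩ := exists_lat_equiv_of_span hD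
    exact isTorus_of_split k eA

set_option maxHeartbeats 800000 in
/-- Isogenous commutative affine groups are tori at the same time. -/
theorem isTorus_iff (G' G : Over (Spec (CommRingCat.of k))) [GrpObj G'] [GrpObj G] [IsCommMonObj G']
    [Smooth G'.hom] [ConnectedSpace ↥G'.left] [IsAffine G'.left]
    [Smooth G.hom] [ConnectedSpace ↥G.left] [IsAffine G.left]
    (f : G' ⟶ G) [IsMonHom f] (hf : SGA7.IsIsogenyOver f) : Red.IsTorus G' ↔ Red.IsTorus G := by
  obtain ⟨A, _, _, ⟨eA⟩⟩ := exists_hopf G'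
  obtain ⟨B, _, _, ⟨eB⟩⟩ := exists_hopf G
  let iA : sp k A ≅ G' := (Grp.forget _).mapIso eA
  let iB : sp k B ≅ G := (Grp.forget _).mapIso eB
  haveI : IsMonHom iA.hom := eA.hom.hom.isMonHom_hom
  haveI : IsMonHom iA.inv := eA.inv.hom.isMonHom_hom
  haveI : IsMonHom iB.hom := eB.hom.hom.isMonHom_hom
  haveI : IsMonHom iB.inv := eB.inv.hom.isMonHom_hom
  obtain ⟨ψ, hψ⟩ := exists_bialgHom (iA.hom ≫ f ≫ iB.inv)
  haveI : IsIso iA.hom.left := ((Over.forget _).mapIso iA).isIso_hom
  haveI : IsIso iB.hom.left := ((Over.forget _).mapIso iB).isIso_hom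
  haveI : IsIso iB.inv.left := ((Over.forget _).mapIso iB.symm).isIso_hom
  haveI : Surjective (spMap (ψ : B →ₐ[k] A)).left := by
    haveI := hf.1
    rw [← hψ, Over.comp_left, Over.comp_left]
    infer_instance
  haveI : Smooth (sp k A).hom := by rw [← Over.w iA.hom]; infer_instance
  haveI : Smooth (sp k B).hom := by rw [← Over.w iB.hom]; infer_instance
  haveI : ConnectedSpace ↥(sp k A).left :=
    (Scheme.homeoOfIso ((Over.forget _).mapIso iA)).connectedSpace_iff.mpr ‹ConnectedSpace ↥G'.left›
  haveI : ConnectedSpace ↥(sp k B).left :=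
    (Scheme.homeoOfIso ((Over.forget _).mapIso iB)).connectedSpace_iff.mpr ‹ConnectedSpace ↥G.left›
  haveI : IsCommMonObj (sp k A) :=
    Groth.Agent.AlgGrpQ.TorusIsogeny.isCommMonObj_of_mono iA.hom
  have hker : ∀ (N : Over (Spec (CommRingCat.of k))) (i : N ⟶ sp k A),
      AlgGrp.IsKernel i (spMap (ψ : B →ₐ[k] A)) → IsFinite N.hom := fun N i hi => by
    refine hf.2 N (i ≫ iA.hom) ?_
    rw [← hψ] at hi
    refine IsPullback.of_iso hi (Iso.refl _) iA (Iso.refl _) iB ?_ ?_ ?_ ?_
    · simp
    · simp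
    · simp
    · rw [IsMonHom.one_hom iB.hom]; simp
  exact ⟨fun h => MaxTorusLib.isTorus_of_iso eB.symm ((key k ψ hker).1 (MaxTorusLib.isTorus_of_iso eA h)),
    fun h => MaxTorusLib.isTorus_of_iso eA.symm ((key k ψ hker).2 (MaxTorusLib.isTorus_of_iso eB h))⟩

end Groth.Agent.AlgGrpQ.TorusIsogeny
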