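import Groth.Agent.AlgGrpQ.CharKernelTriv
import Groth.Agent.GalTori.UnitsUFD
import Mathlib.LinearAlgebra.FreeModule.PID

/-!
# The group of characters of a connected affine group
-/

set_option autoImplicit false
set_option backward.isDefEq.respectTransparency false
set_option backward.isDefEq.respectTransparency.types false
set_option maxSynthPendingDepth 5
set_option linter.style.haveILetI false

universe u

noncomputable section

open TensorProduct WithConv

namespace Groth.Agent.AlgGrpQ.CharKernel

open Groth.Agent.ComodLib

variable {k : Type u} [Field k] [IsAlgClosed k] {A : Type u} [CommRing A] [HopfAlgebra k A]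

/-- The lattice of characters. -/
abbrev Lat (r : ℕ) : Type := Multiplicative (Fin r → ℤ)

theorem exists_char_basis [IsDomain A] [Algebra.FiniteType k A] :
    ∃ r : ℕ, Nonempty (Lat r ≃* GroupLike k A) := by
  classical
  obtain ⟨ι, hι, w, hw, hint⟩ := exists_valuations_units k A
  let val : GroupLike k A →* A :=
    { toFun := fun t => t.val
      map_one' := rfl
      map_mul' := fun s t => rfl }
  let uh : GroupLike k A →* Aˣ := val.toHomUnits
  have hne : ∀ (i : ι) (t : GroupLike k A), w i (t.val : A) ≠ 0 := fun i t =>
    ((uh t).isUnit.map (w i)).ne_zero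
  let F : Additive (GroupLike k A) →+ (ι → ℤ) := AddMonoidHom.mk'
    (fun t i => WithZero.log (w i (Additive.toMul t).val)) fun s t => funext fun i => by
      show WithZero.log (w i ((Additive.toMul s).val * (Additive.toMul t).val)) = _ + _
      rw [map_mul, WithZero.log_mul (hne i _) (hne i _)]
  have hF : Function.Injective F := by
    refine (injective_iff_map_eq_zero F).2 fun t ht => ?_
    have h1 : ∀ i, w i (Additive.toMul t).val = 1 := fun i => by
      have h := congrFun ht i
      rw [show F t i = WithZero.log (w i (Additive.toMul t).val) from rfl, Pi.zero_apply] at h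
      rw [← WithZero.exp_log (hne i (Additive.toMul t)), h, WithZero.exp_zero]
    have hi : _root_.IsIntegral k (Additive.toMul t).val := hint _ h1
    have hdeg : (minpoly k (Additive.toMul t).val).degree = 1 :=
      IsAlgClosed.degree_eq_one_of_irreducible k (minpoly.irreducible hi)
    obtain ⟨c, hc⟩ := minpoly.mem_range_of_degree_eq_one k _ hdeg
    have hc1 : c = 1 := by
      have h := (Additive.toMul t).isGroupLikeElem_val.counit_eq_one
      rw [← hc, Bialgebra.counit_algebraMap] at h
      exact h
    refine Additive.toMul.injective (GroupLike.ext ?_)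
    rw [← hc, hc1, map_one]
    rfl
  haveI : Finite ι := hι
  haveI : Module.Finite ℤ (Additive (GroupLike k A)) :=
    Module.Finite.of_injective F.toIntLinearMap hF
  haveI : Module.IsTorsionFree ℤ (Additive (GroupLike k A)) := hF.moduleIsTorsionFree F.toIntLinearMap (fun _ _ => map_smul _ _ _)
  haveI : Module.Free ℤ (Additive (GroupLike k A)) := Module.free_of_finite_type_torsion_free'
  let b := Module.finBasis ℤ (Additive (GroupLike k A))
  exact ⟨_, ⟨(AddEquiv.toMultiplicativeLeft b.equivFun.toAddEquiv.symm)⟩⟩

/-- All characters of a connected affine group factor through a torus. -/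
theorem exists_char_map [IsDomain A] [Algebra.FiniteType k A] :
    ∃ (r : ℕ) (ψ : MonoidAlgebra k (Lat r) →ₐc[k] A), Function.Injective ψ ∧
      ∀ χ : A, IsGroupLikeElem k χ → ∃ m : Lat r, ψ (MonoidAlgebra.single m 1) = χ := by
  obtain ⟨r, ⟨e⟩⟩ := exists_char_basis (k := k) (A := A)
  let φ : MonoidAlgebra k (GroupLike k A) →ₐc[k] A := MonoidAlgebra.liftGroupLikeBialgHom (R := k) (A := A)
  let ψ : MonoidAlgebra k (Lat r) →ₐc[k] A := φ.comp (MonoidAlgebra.mapDomainBialgHom k e.toMonoidHom)
  have hψs : ∀ (m : Lat r) (c : k), ψ (MonoidAlgebra.single m c) = c • (e m).val := fun m c => by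
    show φ (MonoidAlgebra.mapDomainBialgHom k e.toMonoidHom (MonoidAlgebra.single m c)) = _
    simp [φ, Algebra.smul_def]
  refine ⟨r, ψ, ?_, fun χ hχ => ⟨e.symm ⟨χ, hχ⟩, by rw [hψs, one_smul, e.apply_symm_apply]⟩⟩
  have hli : LinearIndependent k fun m : Lat r => ((e m).val : A) :=
    linearIndep_groupLikeVal.comp e e.injective
  intro x y hxy
  have key : ∀ z : MonoidAlgebra k (Lat r), ψ z = Finsupp.linearCombination k (fun m : Lat r => ((e m).val : A)) z.coeff :=
    fun z => by
      induction z using MonoidAlgebra.induction_linear with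
      | zero => simp
      | add a b ha hb => simp [ha, hb, map_add]
      | single m c => simp [hψs]
  rw [key, key] at hxy
  exact MonoidAlgebra.coeff_injective (hli hxy)

omit [IsAlgClosed k] in
theorem span_groupLike_monoidAlgebra (M : Type) [CommGroup M] :
    Submodule.span k {t : MonoidAlgebra k M | IsGroupLikeElem k t} = ⊤ := by
  refine eq_top_iff.2 fun z hz => ?_
  clear hz
  induction z using MonoidAlgebra.induction_linear with
  | zero => exact zero_mem _
  | add a b ha hb => exact add_mem ha hb
  | single m c =>
    rw [show MonoidAlgebra.single m c = c • MonoidAlgebra.single m (1 : k) by simp]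
    exact Submodule.smul_mem _ c (Submodule.subset_span ⟨by simp, by simp⟩)

omit [IsAlgClosed k] in
theorem powHom_single (M : Type) [CommGroup M] (n : ℕ) (m : M) :
    powHom k n (MonoidAlgebra.single m (1 : k)) = MonoidAlgebra.single (m ^ n) 1 := by
  induction n with
  | zero =>
    show algebraMap k (MonoidAlgebra k M) (Coalgebra.counit (R := k) (MonoidAlgebra.single m (1 : k))) = _
    simp
  | succ n ih =>
    rw [show powHom k (A := MonoidAlgebra k M) (n + 1) = (toConv (powHom k n) * toConv (AlgHom.id k _)).ofConv from
      congrArg WithConv.ofConv (pow_succ _ _), GrpSchLib.HopfQuot.convMul_apply, pow_succ]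
    simp [ih]

omit [IsAlgClosed k] in
theorem powHom_injective (r n : ℕ) (hn : 0 < n) :
    Function.Injective (powHom k n : MonoidAlgebra k (Lat r) →ₐ[k] MonoidAlgebra k (Lat r)) := by
  have e : (powHom k n : MonoidAlgebra k (Lat r) →ₐ[k] MonoidAlgebra k (Lat r)) =
      MonoidAlgebra.mapDomainAlgHom k k (powMonoidHom n) :=
    MonoidAlgebra.algHom_ext (fun m => by rw [powHom_single]; simp) (by ext)
  rw [e]
  intro x y h
  refine MonoidAlgebra.mapDomain_injective (f := fun m : Lat r => m ^ n) ?_ h
  intro a b hab
  have h1 : n • Multiplicative.toAdd a = n • Multiplicative.toAdd b := congrArg Multiplicative.toAdd hab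
  exact Multiplicative.toAdd.injective (funext fun i => mul_left_cancel₀ (by exact_mod_cast hn.ne' : (n : ℤ) ≠ 0)
    (by simpa using congrFun h1 i))

omit [IsAlgClosed k] in
theorem ufd_lat (r : ℕ) : UniqueFactorizationMonoid (MonoidAlgebra k (Lat r)) :=
  have := GalTori.uniqueFactorizationMonoid_lat k r
  MulEquiv.uniqueFactorizationMonoid
    (MonoidAlgebra.domCongr k k (MulEquiv.ulift : TorusPts.Lat.{u} r ≃* Lat r)).toMulEquiv this

end Groth.Agent.AlgGrpQ.CharKernel
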