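import Groth.Agent.AlgGrpQ.Chain
import Groth.Agent.AlgGrpQ.UniBC

/-!
# Chains in the regular comodule of a trigonalizable group
-/

universe u v

open TensorProduct

namespace Groth.Agent.AlgGrpQ

open Groth.Agent.ComodLib
open HopfRep (Comod)

variable {k : Type u} [Field k] {A : Type v} [CommRing A] [Bialgebra k A]

/-- The coaction of a trigonalizable group on each step of a flag is by a character. -/
theorem exists_flag_chain (hT : HopfRep.IsTrigonalizable k A) (s : Finset A) :
    ∃ (n : ℕ) (G : ℕ → Submodule k A) (x : ℕ → A), G 0 = ⊥ ∧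
      (∀ i, HopfRep.IsSubcomod (k := k) (A := A) (G i)) ∧ (s : Set A) ⊆ G n ∧
      ∀ i, G (i + 1) ≤ G i ⊔ Submodule.span k {x i} ∧
        (i < n → G i ≤ G (i + 1) ∧ x i ∈ G (i + 1) ∧ x i ∉ G i) := by
  classical
  obtain ⟨W, hWf, hsW, hW⟩ := exists_finite_subcomod_le (k := k) (C := A) (V := A) s.finite_toSet
  letI cW : Comod k A W := ComodSub.Comod.restr (Comod.regular k A) W hW
  have hi : Hoch.IsComodHom A W.subtype := ComodSub.isComodHom_subtype _ W hW
  obtain ⟨F, hmono, hsub, htop, hrank⟩ := exists_flag hT W
  set n := Module.finrank k W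
  have hex : ∀ i, i < n → ∃ w, w ∈ F (i + 1) ∧ w ∉ F i := fun i hi => by
    refine SetLike.exists_of_lt (lt_of_le_of_ne (hmono (Nat.le_succ i)) fun h => ?_)
    have h1 := hrank (i + 1) hi
    rw [← h, hrank i hi.le] at h1
    omega
  choose! w hw1 hw2 using hex
  refine ⟨n, fun i => (F (min i n)).map W.subtype, fun i => if i < n then (w i : A) else 0, ?_,
    fun i => isSubcomod_map hi (hsub _), fun a ha => ⟨⟨a, hsW ha⟩, by simp [htop], rfl⟩, fun i => ?_⟩
  · show (F (min 0 n)).map W.subtype = ⊥
    have h0 : F 0 = ⊥ := Submodule.finrank_eq_zero.mp (hrank 0 (Nat.zero_le _))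
    simp [h0]
  · by_cases hin : i < n
    · have e1 : min (i + 1) n = i + 1 := by omega
      have e0 : min i n = i := by omega
      simp only [e1, e0, hin, if_true]
      refine ⟨?_, fun _ => ⟨Submodule.map_mono (hmono (Nat.le_succ i)), ⟨w i, hw1 i hin, rfl⟩, ?_⟩⟩
      · rw [show ({(w i : A)} : Set A) = W.subtype '' {w i} by simp, ← Submodule.map_span, ← Submodule.map_sup]
        refine Submodule.map_mono (le_of_eq ?_)
        symm
        refine Submodule.eq_of_le_of_finrank_le (sup_le (hmono (Nat.le_succ i))
          ((Submodule.span_singleton_le_iff_mem _ _).mpr (hw1 i hin))) ?_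
        rw [hrank (i + 1) hin]
        have hlt : F i < F i ⊔ Submodule.span k {w i} :=
          lt_of_le_of_ne le_sup_left fun h => hw2 i hin (h ▸ Submodule.mem_sup_right (Submodule.mem_span_singleton_self _))
        have := Submodule.finrank_lt_finrank_of_lt hlt
        rw [hrank i hin.le] at this
        omega
      · rintro ⟨y, hy, hyw⟩
        exact hw2 i hin (Subtype.ext hyw ▸ hy)
    · have e1 : min (i + 1) n = min i n := by omega
      simp only [e1]
      exact ⟨le_sup_left, fun h => absurd h hin⟩

/-- Base change of a subcomodule of the regular comodule. -/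
theorem isSubcomod_baseChange (K : Type u) [Field K] [Algebra k K] {A : Type u} [CommRing A] [Bialgebra k A]
    {F : Submodule k A} (hF : HopfRep.IsSubcomod (k := k) (A := A) F) :
    HopfRep.IsSubcomod (k := K) (A := K ⊗[k] A) (F.baseChange K) := by
  have key : F.baseChange K ≤ Submodule.comap (Coalgebra.comul (R := K) (A := K ⊗[k] A))
      (LinearMap.range ((F.baseChange K).subtype.rTensor (K ⊗[k] A))) := by
    conv_lhs => rw [Submodule.baseChange_eq_span]
    rw [Submodule.span_le]
    rintro _ ⟨a, ha, rfl⟩
    rw [SetLike.mem_coe, Submodule.mem_comap]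
    show Coalgebra.comul (R := K) ((1 : K) ⊗ₜ[k] a) ∈ LinearMap.range ((F.baseChange K).subtype.rTensor (K ⊗[k] A))
    rw [comul_one_tmul']
    obtain ⟨z, hz⟩ := hF a ha
    rw [show Coalgebra.comul (R := k) a = F.subtype.rTensor A z from hz.symm]
    clear hz
    induction z using TensorProduct.induction_on with
    | zero => simp
    | tmul p q =>
      exact ⟨(⟨_, Submodule.tmul_mem_baseChange_of_mem (1 : K) p.2⟩ : F.baseChange K) ⊗ₜ[K] ((1 : K) ⊗ₜ[k] q), rfl⟩
    | add p q hp hq => simpa only [map_add] using Submodule.add_mem _ hp hq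
  exact fun a ha => key ha

/-- Trigonalizability is preserved by extension of the base field. -/
theorem isTrigonalizable_baseChange (K : Type u) [Field K] [Algebra k K] {A : Type u} [CommRing A] [Bialgebra k A]
    (hT : HopfRep.IsTrigonalizable k A) : HopfRep.IsTrigonalizable K (K ⊗[k] A) := by
  classical
  refine isTrigonalizable_of_chains fun s => ?_
  have hone : ∀ z : K ⊗[k] A, ∃ t' : Finset A, z ∈ (Submodule.span k (t' : Set A)).baseChange K := fun z => by
    induction z using TensorProduct.induction_on with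
    | zero => exact ⟨∅, Submodule.zero_mem _⟩
    | tmul a b => exact ⟨{b}, Submodule.tmul_mem_baseChange_of_mem a (Submodule.subset_span (by simp))⟩
    | add p q hp hq =>
      obtain ⟨t1, h1⟩ := hp
      obtain ⟨t2, h2⟩ := hq
      exact ⟨t1 ∪ t2, Submodule.add_mem _
        (Submodule.baseChange_mono K (Submodule.span_mono (by simp)) h1)
        (Submodule.baseChange_mono K (Submodule.span_mono (by simp)) h2)⟩
  obtain ⟨t, ht⟩ : ∃ t : Finset A, ∀ z ∈ s, z ∈ (Submodule.span k (t : Set A)).baseChange K := by
    induction s using Finset.induction_on with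
    | empty => exact ⟨∅, fun z hz => absurd hz (Finset.notMem_empty z)⟩
    | insert z s _ ih =>
      obtain ⟨t, ht⟩ := ih
      obtain ⟨t', ht'⟩ := hone z
      refine ⟨t ∪ t', fun y hy => ?_⟩
      rcases Finset.mem_insert.mp hy with rfl | hy
      · exact Submodule.baseChange_mono K (Submodule.span_mono (by simp)) ht'
      · exact Submodule.baseChange_mono K (Submodule.span_mono (by simp)) (ht y hy)
  obtain ⟨n, G, x, h0, hsub, hs, hstep⟩ := exists_flag_chain hT t
  refine ⟨n, fun i => (G i).baseChange K, fun i => (1 : K) ⊗ₜ[k] x i, ?_,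
    fun i => isSubcomod_baseChange K (hsub i),
    fun z hz => Submodule.baseChange_mono K (Submodule.span_le.mpr hs) (ht z hz), fun i => ?_⟩
  · show (G 0).baseChange K = ⊥
    rw [h0, Submodule.baseChange_bot]
  · refine (Submodule.baseChange_mono K (hstep i).1).trans ?_
    rw [Submodule.baseChange_eq_span, Submodule.span_le]
    rintro _ ⟨a, ha, rfl⟩
    obtain ⟨y, hy, z, hz, rfl⟩ := Submodule.mem_sup.mp ha
    obtain ⟨r, rfl⟩ := Submodule.mem_span_singleton.mp hz
    rw [SetLike.mem_coe, map_add, map_smul]
    refine Submodule.add_mem_sup (Submodule.tmul_mem_baseChange_of_mem (1 : K) hy) ?_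
    rw [← algebraMap_smul K r]
    exact Submodule.smul_mem _ _ (Submodule.mem_span_singleton_self _)

end Groth.Agent.AlgGrpQ
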